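import Groth.Agent.AVTate.ConeField
import Groth.Agent.H23.RedSub
import Mathlib.CategoryTheory.Comma.Over.Basic

/-!
# Finitely many subvarieties of bounded degree over a finite field
-/

set_option autoImplicit false
set_option linter.style.haveILetI false
set_option linter.unusedSectionVars false
set_option backward.isDefEq.respectTransparency false
set_option backward.isDefEq.respectTransparency.types false

universe u

open CategoryTheory CategoryTheory.Limits AlgebraicGeometry TopologicalSpace

noncomputable section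

namespace Groth.Agent.AVTate

variable {k : Type u} [Field k] {N : ℕ}

/-- An embedded geometrically integral `g`-dimensional variety whose coordinate ring is small in degree `n`. -/
structure IsBounded (N g D n : ℕ) (B : Over (Spec (CommRingCat.of k))) (r : B.left ⟶ CohB1.ProjSpace N k) : Prop where
  over_base : r ≫ CohB1.ProjSpace.toSpec N k = B.hom
  closed : IsClosedImmersion r
  le : D ≤ n
  dim_eq : topologicalKrullDim B.left = (g : WithBot ℕ∞)
  geom : GeometricallyIntegral B.hom
  finrank_lt : ∀ i, hilb r i n <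
    ∑ l ∈ Finset.range (D + 1), (n - l + g).choose g

theorem finite_forms [Finite k] (N D : ℕ) :
    {f : MvPolynomial (Fin (N + 1)) k | ∃ e ≤ D, f.IsHomogeneous e}.Finite := by
  have h : {f : MvPolynomial (Fin (N + 1)) k | ∃ e ≤ D, f.IsHomogeneous e} ⊆
      ⋃ e ∈ Set.Iic D, (MvPolynomial.homogeneousSubmodule (Fin (N + 1)) k e : Set _) := by
    rintro f ⟨e, he, hf⟩
    exact Set.mem_iUnion₂.2 ⟨e, he, hf⟩
  refine Set.Finite.subset ((Set.finite_Iic D).biUnion fun e _ => ?_) h
  haveI : Module.Finite k (MvPolynomial.homogeneousSubmodule (Fin (N + 1)) k e) :=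
    Module.Finite.iff_fg.2 (MvPolynomial.homogeneousSubmodule_fg _ _ _)
  haveI : Finite (MvPolynomial.homogeneousSubmodule (Fin (N + 1)) k e) := Module.finite_of_finite k
  exact Set.toFinite _

/-- **Finiteness.** -/
theorem finite_isoClasses [Finite k] (N g D : ℕ) :
    ∃ (m : ℕ) (Cs : Fin m → Over (Spec (CommRingCat.of k))),
      ∀ (B : Over (Spec (CommRingCat.of k))) (r : B.left ⟶ CohB1.ProjSpace N k) (n : ℕ),
        IsBounded N g D n B r → ∃ i, Nonempty (B ≅ Cs i) := by
  classical
  let T : Set (Set (MvPolynomial (Fin (N + 1)) k)) :=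
    {F | ∃ (B : Over (Spec (CommRingCat.of k))) (r : B.left ⟶ CohB1.ProjSpace N k) (n : ℕ),
      IsBounded N g D n B r ∧ smallForms r D = F}
  have hT : T.Finite := by
    refine ((finite_forms (k := k) N D).finite_subsets).subset ?_
    rintro _ ⟨B, r, n, -, rfl⟩ f ⟨e, he, hf, -⟩
    exact ⟨e, he, hf⟩
  haveI := hT.fintype
  choose B r n hB hF using fun F : T => F.2
  refine ⟨Fintype.card T, fun i => B ((Fintype.equivFin T).symm i), fun B' r' n' hB' => ?_⟩
  let F : T := ⟨smallForms r' D, B', r', n', hB', rfl⟩
  refine ⟨Fintype.equivFin T F, ?_⟩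
  show Nonempty (B' ≅ B ((Fintype.equivFin T).symm (Fintype.equivFin T F)))
  rw [Equiv.symm_apply_apply]
  have key : ∀ (C : Over (Spec (CommRingCat.of k))) (s : C.left ⟶ CohB1.ProjSpace N k) (m : ℕ),
      IsBounded N g D m C s → IsReduced C.left ∧ IsClosedImmersion s ∧
        Set.range s = {y : CohB1.ProjSpace N k | ∀ f ∈ smallForms s D, y ∉ Proj.basicOpen (CohB1.polyGrading N k) f} := by
    intro C s m hC
    haveI := hC.geom
    haveI := hC.closed
    haveI : AlgebraicGeometry.IsIntegral C.left := GeometricallyIntegral.isIntegral_of_subsingleton C.hom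
    haveI : GeometricallyIntegral (s ≫ CohB1.ProjSpace.toSpec N k) := by rw [hC.over_base]; infer_instance
    haveI : IsProper (CohB1.ProjSpace.toSpec N k) := PnCoh.Chow.isProper_toSpec N k
    exact ⟨inferInstance, inferInstance, range_eq_of_bound s hC.le hC.dim_eq hC.finrank_lt⟩
  obtain ⟨hred', hcl', hr'⟩ := key B' r' n' hB'
  obtain ⟨hred, hcl, hr⟩ := key (B F) (r F) (n F) (hB F)
  have hrange : Set.range r' = Set.range (r F) := by
    rw [hr', hr, hF F]
  obtain ⟨e, he⟩ := H23.RedSub.exists_iso_of_range_eq r' (r F) hrange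
  refine ⟨Over.isoMk e ?_⟩
  rw [← (hB F).over_base, ← hB'.over_base, ← Category.assoc, he]

end Groth.Agent.AVTate
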