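import Groth.Agent.AVTate.ConeField
import Groth.Agent.CurveEmbed.Immersion
import Groth.Agent.CurveCohLib.Skyscraper
import Groth.Agent.Lib.AmpleEmbed
import Groth.Agent.FlatG.Gamma

/-!
# The coordinate ring in degree `n` is no bigger than the sections of the `n`-th power
-/

set_option autoImplicit false
set_option linter.style.haveILetI false
set_option linter.unusedSectionVars false
set_option backward.isDefEq.respectTransparency false
set_option backward.isDefEq.respectTransparency.types false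
set_option maxHeartbeats 1000000

universe u

open CategoryTheory CategoryTheory.Limits AlgebraicGeometry TopologicalSpace Opposite

noncomputable section

namespace Groth.Agent.AVTate

open Groth.Agent.InvX Groth.Agent.H23 Groth.Agent.CurveEmbed
open Groth.Agent.AModX (res resR res_smul res_res res_self)

variable {k : Type u} [Field k] {X : Scheme.{u}} [X.Over (Spec (CommRingCat.of k))] {L : X.Modules}

/-- Coordinates of global sections in a frame form a linear map. -/
theorem exists_coordMap {M : X.Modules} {U : X.Opens} {e : Γ(M, U)} (he : IsFrame e)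
    (σk : k →+* Γ(X, U))
    (hσ : ∀ a, σk a = resR (le_top : U ≤ ⊤) (Coh.resTop X (op ⊤) (Coh.toGlobal (X ↘ Spec (CommRingCat.of k)) a))) :
    letI : Algebra k Γ(X, U) := σk.toAlgebra
    ∃ Φ : Coh.HH X M 0 →ₗ[k] Γ(X, U), ∀ x : Coh.HH X M 0,
      res M (le_top : U ≤ ⊤) (Sheaf.H.equiv₀ (Coh.toAb M) isTerminalTop x : Γ(M, ⊤)) = Φ x • e := by
  letI : Algebra k Γ(X, U) := σk.toAlgebra
  let E := Sheaf.H.equiv₀ (Coh.toAb M) isTerminalTop
  choose c hc using fun x : Coh.HH X M 0 => he.exists_coord le_rfl (res M (le_top : U ≤ ⊤) (E x : Γ(M, ⊤)))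
  simp only [res_self] at hc
  have huniq : ∀ {a b : Γ(X, U)}, a • e = b • e → a = b := fun {a b} h =>
    he.coord_unique le_rfl (by simpa only [res_self] using h)
  refine ⟨⟨⟨c, fun x y => huniq ?_⟩, fun a x => huniq ?_⟩, hc⟩
  · rw [← hc, add_smul, ← hc, ← hc, ← map_add]
    exact congrArg (res M (le_top : U ≤ ⊤)) (map_add E x y)
  · rw [← hc, RingHom.id_apply, Algebra.smul_def, mul_smul, ← hc,
      show algebraMap k Γ(X, U) a = σk a from rfl, hσ]
    refine (congrArg (res M (le_top : U ≤ ⊤)) (CurveCohLib.h0Equiv_smul M a x)).trans ?_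
    rw [res_smul]

variable {N : ℕ} (r : X ⟶ CohB1.ProjSpace N k)

/-- The pullbacks of the coordinates. -/
def sj (τ : (Scheme.Modules.pullback r).obj (Twist.twistProjSpace N k 1) ≅ L) (j : Fin (N + 1)) : Γ(L, ⊤) :=
  τ.hom.app ⊤ (ProjUP.pullSec r (Twist.twistProjSpace N k 1) (ProjUP.coord N k j))

variable (hL : PicF.IsInvertible L) (hr : r ≫ CohB1.ProjSpace.toSpec N k = X ↘ Spec (CommRingCat.of k))
  (τ : (Scheme.Modules.pullback r).obj (Twist.twistProjSpace N k 1) ≅ L) (i : Fin (N + 1))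

include hr in
theorem chartC_global (a : k) : chartC r i a =
    resR (le_top : r ⁻¹ᵁ Dp i ≤ ⊤) (Coh.resTop X (op ⊤) (Coh.toGlobal (X ↘ Spec (CommRingCat.of k)) a)) := by
  have h := ConcreteCategory.congr_hom (chartC_eq r i) a
  refine h.trans ?_
  simp only [hr]
  show (X.presheaf.map _).hom ((X ↘ Spec (CommRingCat.of k)).appTop ((Scheme.ΓSpecIso (CommRingCat.of k)).inv a)) = _
  refine congrArg _ ?_
  exact (ConcreteCategory.congr_hom (X.presheaf.map_id (op ⊤)) _).symm

include hL in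
/-- The frame of `L` on the chart. -/
theorem isFrame_sj : IsFrame (res L (le_top : r ⁻¹ᵁ Dp i ≤ ⊤) (sj r τ i)) :=
  TrivBasic.isFrame_res_of_le_locus (AmpleEmbed.preimage_chart r τ i rfl).le

include hL in
theorem res_sj (j : Fin (N + 1)) : res L (le_top : r ⁻¹ᵁ Dp i ≤ ⊤) (sj r τ j) =
    coordFn r i j • res L (le_top : r ⁻¹ᵁ Dp i ≤ ⊤) (sj r τ i) := by
  obtain ⟨b, hb⟩ := (isFrame_sj r hL τ i).exists_coord le_rfl (res L (le_top : r ⁻¹ᵁ Dp i ≤ ⊤) (sj r τ j))
  rw [res_self] at hb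
  have h := AmpleEmbed.ratioOf_eq r τ i j rfl rfl (W := r ⁻¹ᵁ Dp i) le_rfl b hb
  rw [hb, ← h]
  congr 1
  show r.appLE (Dp i) (r ⁻¹ᵁ Dp i) le_rfl _ = (r.app (Dp i)).hom _
  rw [← Scheme.Hom.app_eq_appLE]
  rfl

include hL in
/-- A product of `m + 1` coordinate functions is the coordinate of a section. -/
theorem exists_section : ∀ (m : ℕ) (f : Fin (m + 1) → Fin (N + 1)), ∃ σ : Γ(P L m, ⊤),
    res (P L m) (le_top : r ⁻¹ᵁ Dp i ≤ ⊤) σ =
      (∏ t, coordFn r i (f t)) • E (res L (le_top : r ⁻¹ᵁ Dp i ≤ ⊤) (sj r τ i)) m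
  | 0, f => ⟨sj r τ (f 0), by rw [Fin.prod_univ_one]; exact res_sj r hL τ i (f 0)⟩
  | m + 1, f => by
    obtain ⟨σ, hσ⟩ := exists_section m (fun t => f (Fin.castSucc t))
    refine ⟨(tmul σ (sj r τ (f (Fin.last (m + 1)))) : Γ(CohB1.tensorMod (P L m) L, ⊤)), ?_⟩
    show res (CohB1.tensorMod (P L m) L) (le_top : r ⁻¹ᵁ Dp i ≤ ⊤) (tmul σ _) = _
    rw [res_tmul, hσ, res_sj r hL τ i (f (Fin.last (m + 1))), tmul_smul_left, tmul_smul_right, ← mul_smul,
      Fin.prod_univ_castSucc (n := m + 1)]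
    rfl

theorem cl_P (L : X.Modules) : ∀ m, (PicF.cl (P L m) : PicF.Cl X) = (PicF.cl (CohB1.tensorPow L (m + 1)))
  | 0 => by
    letI := PicMul.clMonoid X
    rw [PicMul.cl_tensorPow, pow_one]
    rfl
  | m + 1 => by
    letI := PicMul.clMonoid X
    show PicF.cl (CohB1.tensorMod (P L m) L) = _
    rw [PicMul.cl_tensor, cl_P L m, PicMul.cl_tensorPow, PicMul.cl_tensorPow, ← pow_succ]

/-- Isomorphic modules have as many sections. -/
theorem finrank_h0_of_iso {M M' : X.Modules} (φ : M ≅ M') :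
    Module.finrank k (Coh.HH X M 0) = Module.finrank k (Coh.HH X M' 0) := by
  refine LinearEquiv.finrank_eq (LinearEquiv.ofBijective (PnCoh.Finite.mapLin k φ.hom 0) ?_)
  have hi : ∀ {A B : X.Modules} (ψ : A ≅ B) (a : Γ(A, ⊤)), ψ.inv.app ⊤ (ψ.hom.app ⊤ a) = a := fun ψ a =>
    ConcreteCategory.congr_hom ((Scheme.Modules.Hom.comp_app ψ.hom ψ.inv).symm.trans
      (congrArg (fun t => Scheme.Modules.Hom.app t ⊤) ψ.hom_inv_id)) a
  refine ⟨fun x y h => (FlatG.h0Equiv k M).injective ?_, fun y => ?_⟩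
  · have h' := congrArg (FlatG.h0Equiv k M') h
    rw [FlatG.h0Equiv_map, FlatG.h0Equiv_map] at h'
    exact ((hi φ _).symm.trans (congrArg (φ.inv.app ⊤) h')).trans (hi φ _)
  · refine ⟨(FlatG.h0Equiv k M).symm (φ.inv.app ⊤ (FlatG.h0Equiv k M' y)), (FlatG.h0Equiv k M').injective ?_⟩
    rw [FlatG.h0Equiv_map, LinearEquiv.apply_symm_apply]
    exact hi φ.symm _

include hL hr τ in
/-- **The Hilbert bound.** -/
theorem hilb_le (n : ℕ) [Module.Finite k (Coh.HH X (CohB1.tensorPow L (n + 1)) 0)]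
    [hfin : Module.Finite k (Coh.HH X (P L n) 0)] :
    hilb r i (n + 1) ≤ Module.finrank k (Coh.HH X (CohB1.tensorPow L (n + 1)) 0) := by
  have hiso : Nonempty (P L n ≅ CohB1.tensorPow L (n + 1)) := PicMul.cl_eq_iff.1 (cl_P L n)
  rw [← finrank_h0_of_iso hiso.some]
  obtain ⟨Φ, hΦ⟩ := exists_coordMap (isFrame_E (isFrame_sj r hL τ i) n) (chartC r i) (chartC_global r hr i)
  refine le_trans (Submodule.finrank_mono ?_) (LinearMap.finrank_range_le Φ)
  rw [degPart, Submodule.map_le_iff_le_comap, MvPolynomial.homogeneousSubmodule_eq_finsupp_supported]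
  rw [AddMonoidAlgebra.supported_eq_span_single, Submodule.span_le]
  rintro _ ⟨d, hd, rfl⟩
  show MvPolynomial.aeval (coordFn r i) (MvPolynomial.monomial d (1 : k)) ∈ LinearMap.range Φ
  obtain ⟨f, hf⟩ : ∃ f : Fin (n + 1) → Fin (N + 1), ∏ t, coordFn r i (f t) = d.prod fun j e => coordFn r i j ^ e := by
    have hcard : d.toMultiset.card = n + 1 := by
      rw [Finsupp.card_toMultiset]
      exact hd
    have hlen : d.toMultiset.toList.length = n + 1 := by rw [Multiset.length_toList, hcard]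
    refine ⟨fun t => d.toMultiset.toList.get (finCongr hlen.symm t), ?_⟩
    have h1 : (d.toMultiset.map (coordFn r i)).prod = d.prod fun j e => coordFn r i j ^ e := by
      rw [Finset.prod_multiset_map_count, Finsupp.toFinset_toMultiset]
      exact Finset.prod_congr rfl fun j _ => by rw [Finsupp.count_toMultiset]
    rw [← h1]
    conv_rhs => rw [← Multiset.coe_toList d.toMultiset, Multiset.map_coe, Multiset.prod_coe]
    conv_rhs => rw [← List.ofFn_get (d.toMultiset.toList)]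
    rw [List.map_ofFn, List.prod_ofFn]
    exact Fintype.prod_equiv (finCongr hlen.symm) _ _ fun _ => rfl
  obtain ⟨σ, hσ⟩ := exists_section r hL τ i n f
  refine ⟨(Sheaf.H.equiv₀ (Coh.toAb (P L n)) isTerminalTop).symm σ, ?_⟩
  refine (isFrame_E (isFrame_sj r hL τ i) n).coord_unique le_rfl ?_
  simp only [res_self]
  rw [← hΦ, MvPolynomial.aeval_monomial, map_one, one_mul, ← hf]
  refine (congrArg (res (P L n) (le_top : r ⁻¹ᵁ Dp i ≤ ⊤)) ?_).trans hσ
  exact (Sheaf.H.equiv₀ (Coh.toAb (P L n)) isTerminalTop).apply_symm_apply σ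

end Groth.Agent.AVTate
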