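import Groth.Agent.AVTate.Bound
import Groth.Agent.AVTate.ConeFinite
import Groth.Agent.AVTate.Sections

/-!
# Finitely many varieties with an ample class of given Euler characteristic, given embeddings by `M³`
-/

set_option autoImplicit false
set_option linter.style.haveILetI false
set_option linter.unusedSectionVars false
set_option backward.isDefEq.respectTransparency false
set_option backward.isDefEq.respectTransparency.types false
set_option maxHeartbeats 1000000
set_option synthInstance.maxHeartbeats 400000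

universe u

open CategoryTheory CategoryTheory.Limits MonoidalCategory CartesianMonoidalCategory MonObj AlgebraicGeometry TopologicalSpace

noncomputable section

namespace Groth.Agent.AVTate

open Groth.Agent.H23
open scoped Groth.Agent.H23.PicMul

/-- Lefschetz's embedding by the cube of an ample module. -/
def CubeEmbeds (k : Type u) [Field k] : Prop :=
  ∀ (B : Over (Spec (CommRingCat.of k))) [GrpObj B] [IsProper B.hom] [GeometricallyIntegral B.hom]
    (M : B.left.Modules), CohB1.IsAmple M → ∀ N : ℕ,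
      @Module.finrank k (Coh.HH B.left (CohB1.tensorPow M 3) 0) _ _
        (@Coh.moduleOver k _ B.left ⟨B.hom⟩ (CohB1.tensorPow M 3) 0) = N + 1 →
      ∃ r : B.left ⟶ CohB1.ProjSpace N k, IsClosedImmersion r ∧ r ≫ CohB1.ProjSpace.toSpec N k = B.hom ∧
        Nonempty ((Scheme.Modules.pullback r).obj (Twist.twistProjSpace N k 1) ≅ CohB1.tensorPow M 3)

theorem exists_bound (g C : ℕ) :
    ∃ D n : ℕ, 0 < n ∧ D ≤ n ∧ n ^ g * C < ∑ l ∈ Finset.range (D + 1), (n - l + g).choose g := by
  refine ⟨2 ^ g * g.factorial * C, 2 * (2 ^ g * g.factorial * C) + 1, Nat.succ_pos _, by omega, ?_⟩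
  set D := 2 ^ g * g.factorial * C with hD
  have hle : ∀ l ∈ Finset.range (D + 1), (D + 1) ^ g ≤ g.factorial * (2 * D + 1 - l + g).choose g := by
    intro l hl
    rw [← Nat.descFactorial_eq_factorial_mul_choose]
    refine (Nat.pow_le_pow_left ?_ g).trans (Nat.pow_sub_le_descFactorial _ _)
    have := Finset.mem_range.1 hl
    omega
  have h2 : g.factorial * ((2 * D + 1) ^ g * C) < g.factorial * ∑ l ∈ Finset.range (D + 1), (2 * D + 1 - l + g).choose g := by
    rw [Finset.mul_sum]
    refine lt_of_lt_of_le ?_ (Finset.sum_le_sum hle)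
    rw [Finset.sum_const, Finset.card_range, smul_eq_mul]
    calc g.factorial * ((2 * D + 1) ^ g * C) ≤ g.factorial * ((2 * (D + 1)) ^ g * C) := by
          exact Nat.mul_le_mul_left _ (Nat.mul_le_mul_right _ (Nat.pow_le_pow_left (by omega) g))
      _ = D * (D + 1) ^ g := by rw [hD, mul_pow]; ring
      _ < (D + 1) * (D + 1) ^ g := Nat.mul_lt_mul_of_pos_right (Nat.lt_succ_self D) (pow_pos (Nat.succ_pos D) g)
  exact Nat.lt_of_mul_lt_mul_left h2

variable {k : Type u} [Field k]

/-- Finitely many `g`-dimensional abelian varieties carry an ample module of given Euler characteristic. -/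
theorem finite_of_euler [Finite k] (hC : CubeEmbeds k) (g : ℕ) (χ₀ : ℤ) :
    ∃ (J : Type u) (_ : Finite J) (G : J → Over (Spec (CommRingCat.of k))),
      ∀ (B : Over (Spec (CommRingCat.of k))) [GrpObj B] [IsProper B.hom] [GeometricallyIntegral B.hom],
        topologicalKrullDim B.left = g → ∀ M : B.left.Modules, CohB1.IsAmple M →
          @Curv2.euler k _ B.left ⟨B.hom⟩ M = χ₀ → ∃ i, Nonempty (B ≅ G i) := by
  let C := 3 ^ g * χ₀.toNat
  by_cases hC0 : C = 0
  · refine ⟨PUnit, inferInstance, fun _ => Over.mk (𝟙 _), fun B _ _ _ hB M hM hχ => ?_⟩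
    exfalso
    letI : B.left.Over (Spec (CommRingCat.of k)) := ⟨B.hom⟩
    have h : (Module.finrank k (Coh.HH B.left M 0) : ℤ) = χ₀ := (AVHilbert.euler_eq_finrank hM).symm.trans hχ
    haveI : IsProper (B.left ↘ Spec (CommRingCat.of k)) := ‹IsProper B.hom›
    haveI := CurveCohLib.isNoetherian_of_proper (k := k) (X := B.left)
    haveI : B.left.IsSeparated := ⟨by
      rw [← Limits.terminal.comp_from B.hom]
      infer_instance⟩
    haveI := H23.MaxAbelian.isIntegral_of_geometricallyIntegral (X := B)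
    obtain ⟨a, ha, κ, _, σ, -, -, hcov⟩ := AmpleX.exists_cover_genLocus hM
    obtain ⟨x⟩ := (inferInstance : Nonempty B.left)
    obtain ⟨i, hi⟩ := hcov x
    have h3 := AVHilbert.finrank_HH_zero_tensorPow g hB hM ha
    rw [show Module.finrank k (Coh.HH B.left M 0) = 0 by
      rcases Nat.mul_eq_zero.1 hC0 with h' | h'
      · exact absurd h' (pow_ne_zero _ (by norm_num))
      · omega, mul_zero] at h3
    haveI := CurveCohLib.finite_HH (k := k) (CurveDeg.isCoh_of_isInvertible (AmpleX.isAmple_tensorPow hM ha).1) 0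
    haveI : Subsingleton (Coh.HH B.left (CohB1.tensorPow M a) 0) := Module.finrank_zero_iff.1 h3
    haveI : Subsingleton Γ(CohB1.tensorPow M a, ⊤) :=
      (FlatG.h0Equiv k (CohB1.tensorPow M a)).symm.toEquiv.subsingleton
    have hσ : σ i = InvX.ofSect (0 : Γ(CohB1.tensorPow M a, ⊤)) :=
      sub_eq_zero.1 (AmpleX.eq_zero_of_one_eq_zero _ (Subsingleton.elim _ _))
    rw [hσ] at hi
    obtain ⟨U, hxU, hU⟩ := TrivBasic.mem_locus_iff.1 (show x ∈ TrivBasic.locus (0 : Γ(CohB1.tensorPow M a, ⊤)) from hi)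
    have h01 : (1 : Γ(B.left, U)) = 0 := hU.coord_unique le_rfl (by simp only [map_zero, smul_zero])
    haveI : Nonempty U := ⟨⟨x, hxU⟩⟩
    exact one_ne_zero h01
  obtain ⟨N, hN⟩ : ∃ N, C = N + 1 := ⟨C - 1, by omega⟩
  obtain ⟨D, n, hn0, hDn, hlt⟩ := exists_bound g C
  obtain ⟨m, Cs, hCs⟩ := finite_isoClasses (k := k) N g D
  refine ⟨ULift.{u} (Fin m), inferInstance, fun i => Cs i.down, fun B _ _ _ hB M hM hχ => ?_⟩
  letI : B.left.Over (Spec (CommRingCat.of k)) := ⟨B.hom⟩
  haveI : IsProper (B.left ↘ Spec (CommRingCat.of k)) := ‹IsProper B.hom›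
  haveI := CurveCohLib.isNoetherian_of_proper (k := k) (X := B.left)
  have h : (Module.finrank k (Coh.HH B.left M 0) : ℤ) = χ₀ := (AVHilbert.euler_eq_finrank hM).symm.trans hχ
  have h3 : Module.finrank k (Coh.HH B.left (CohB1.tensorPow M 3) 0) = N + 1 := by
    refine (AVHilbert.finrank_HH_zero_tensorPow g hB hM (by norm_num : 0 < 3)).trans ?_
    rw [← hN, show C = 3 ^ g * χ₀.toNat from rfl, ← h, Int.toNat_natCast]
  obtain ⟨r, hrc, hr, ⟨τ⟩⟩ := hC B M hM N h3
  obtain ⟨t, rfl⟩ := Nat.exists_eq_add_one.2 hn0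
  have hL : CohB1.IsAmple (CohB1.tensorPow M 3) := AmpleX.isAmple_tensorPow hM (by norm_num)
  suffices hb : ∀ i, hilb r i (t + 1) < ∑ l ∈ Finset.range (D + 1), (t + 1 - l + g).choose g by
    obtain ⟨i, hi⟩ := hCs B r (t + 1) ⟨hr, hrc, hDn, hB, inferInstance, hb⟩
    exact ⟨⟨i⟩, hi⟩
  intro i
  haveI := CurveCohLib.finite_HH (k := k) (CurveDeg.isCoh_of_isInvertible (AmpleX.isAmple_tensorPow hL t.succ_pos).1) 0
  haveI := CurveCohLib.finite_HH (k := k) (CurveDeg.isCoh_of_isInvertible (CurveEmbed.isInvertible_P hL.1 t)) 0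
  refine lt_of_le_of_lt (hilb_le r hL.1 hr τ i t) ?_
  refine lt_of_eq_of_lt ?_ hlt
  rw [hN, ← h3]
  exact AVHilbert.finrank_HH_zero_tensorPow g hB hL t.succ_pos

end Groth.Agent.AVTate
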