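import Groth.Agent.AVTate.Riemann
import Groth.Agent.AVTate.Targets
import Groth.Agent.Lib.AVFrobPull
import Groth.Agent.Lib.AVProj
import Groth.Agent.Lib.AVDegenerate
import Groth.Agent.AVTors.TateArg

/-!
# The Riemann form of an ample module on the Tate module of geometric points
-/

set_option autoImplicit false
set_option linter.style.haveILetI false
set_option linter.unusedSectionVars false
set_option backward.isDefEq.respectTransparency false
set_option backward.isDefEq.respectTransparency.types false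
set_option maxHeartbeats 1000000
set_option synthInstance.maxHeartbeats 400000

universe u

open CategoryTheory CategoryTheory.Limits MonoidalCategory CartesianMonoidalCategory MonObj AlgebraicGeometry TopologicalSpace

noncomputable section

namespace Groth.Agent.AVTate

open Groth.Agent.AVTorsChar Groth.Agent.H23
open scoped Groth.Agent.H23.PicMul

attribute [local instance] Functor.monObjObj Functor.grpObjObj

variable {k : Type u} [Field k]

/-- An ample module on an abelian variety has nonzero Euler characteristic. -/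
theorem euler_ne_zero {B : Over (Spec (CommRingCat.of k))} [GrpObj B] [IsProper B.hom] [GeometricallyIntegral B.hom]
    {M : B.left.Modules} (hM : CohB1.IsAmple M) : @Curv2.euler k _ B.left ⟨B.hom⟩ M ≠ 0 := by
  intro hχ
  obtain ⟨g, hB⟩ := AVTors.exists_dimNat B
  letI : B.left.Over (Spec (CommRingCat.of k)) := ⟨B.hom⟩
  have h : (Module.finrank k (Coh.HH B.left M 0) : ℤ) = 0 := (AVHilbert.euler_eq_finrank hM).symm.trans hχ
  haveI : IsProper (B.left ↘ Spec (CommRingCat.of k)) := ‹IsProper B.hom›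
  haveI := CurveCohLib.isNoetherian_of_proper (k := k) (X := B.left)
  haveI : B.left.IsSeparated := ⟨by
    rw [← Limits.terminal.comp_from B.hom]
    infer_instance⟩
  haveI := H23.MaxAbelian.isIntegral_of_geometricallyIntegral (X := B)
  obtain ⟨a, ha, κ, _, σ, -, -, hcov⟩ := AmpleX.exists_cover_genLocus hM
  obtain ⟨x⟩ := (inferInstance : Nonempty B.left)
  obtain ⟨i, hi⟩ := hcov x
  have h3 := AVHilbert.finrank_HH_zero_tensorPow g hB hM ha
  rw [show Module.finrank k (Coh.HH B.left M 0) = 0 by exact_mod_cast h, mul_zero] at h3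
  haveI := CurveCohLib.finite_HH (k := k) (CurveDeg.isCoh_of_isInvertible (AmpleX.isAmple_tensorPow hM ha).1) 0
  haveI : Subsingleton (Coh.HH B.left (CohB1.tensorPow M a) 0) := Module.finrank_zero_iff.1 h3
  haveI : Subsingleton Γ(CohB1.tensorPow M a, ⊤) :=
    (FlatG.h0Equiv k (CohB1.tensorPow M a)).symm.toEquiv.subsingleton
  have hσ : σ i = InvX.ofSect (0 : Γ(CohB1.tensorPow M a, ⊤)) :=
    sub_eq_zero.1 (AmpleX.eq_zero_of_one_eq_zero _ (Subsingleton.elim _ _))
  rw [hσ] at hi
  obtain ⟨U, hxU, hU⟩ := TrivBasic.mem_locus_iff.1 (show x ∈ TrivBasic.locus (0 : Γ(CohB1.tensorPow M a, ⊤)) from hi)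
  have h01 : (1 : Γ(B.left, U)) = 0 := hU.coord_unique le_rfl (by simp only [map_zero, smul_zero])
  haveI : Nonempty U := ⟨⟨x, hxU⟩⟩
  exact one_ne_zero h01

/-- The stabiliser of an ample module is finite. -/
theorem finite_stab {K : Type u} [Field K] [IsAlgClosed K] {A : Over (Spec (CommRingCat.of K))} [GrpObj A]
    [IsCommMonObj A] [IsProper A.hom] [GeometricallyIntegral A.hom] {L : A.left.Modules} (hL : CohB1.IsAmple L) :
    Set.Finite {a : 𝟙_ (Over (Spec (CommRingCat.of K))) ⟶ A | tcl hL.1 a = 1} := by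
  by_contra hinf
  refine euler_ne_zero hL ?_
  letI : A.left.Over (Spec (CommRingCat.of K)) := ⟨A.hom⟩
  refine (SurfPairing.χ_cl (k := K) L).symm.trans (AVDegenerate.euler_eq_zero hL.1 ?_)
  refine Set.Infinite.mono (fun a (ha : tcl hL.1 a = 1) => ?_) hinf
  exact (AVDegenerate.transHom_eq_one_iff hL.1 a).1 (Units.ext ha)

variable (Ω : Type u) [Field Ω] [Algebra k Ω] [IsAlgClosed Ω]

local notation "F" => Over.pullback (AVTors.vΩ (k := k) Ω)

/-- The base change of an ample module. -/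
theorem hΩa {Y : Over (Spec (CommRingCat.of k))} {L : Y.left.Modules} (hL : CohB1.IsAmple L) [IsProper Y.hom] :
    CohB1.IsAmple (LΩ Ω L) := by
  haveI : CompactSpace Y.left := QuasiCompact.compactSpace_of_compactSpace Y.hom
  haveI : IsAffineHom (AVTors.vΩ (k := k) Ω) := inferInstance
  haveI : IsAffineHom (prX Ω Y).left :=
    MorphismProperty.pullback_fst (P := @IsAffineHom) Y.hom (AVTors.vΩ (k := k) Ω) inferInstance
  haveI : IsProper ((F).obj Y).hom := inferInstanceAs (IsProper (pullback.snd Y.hom (AVTors.vΩ (k := k) Ω)))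
  haveI : CompactSpace ((Over.map (AVTors.vΩ (k := k) Ω)).obj ((F).obj Y)).left :=
    show CompactSpace ((F).obj Y).left from QuasiCompact.compactSpace_of_compactSpace ((F).obj Y).hom
  exact AmpleVan.FiniteSurj.isAmple_pullback_of_isAffineHom (prX Ω Y).left hL

variable {X : Over (Spec (CommRingCat.of k))} [GrpObj X] [IsCommMonObj X] [IsProper X.hom] [GeometricallyIntegral X.hom]
  {l : ℕ} [Fact l.Prime]

theorem ne_zero_alg (hl : (l : k) ≠ 0) : (l : Ω) ≠ 0 := fun h =>
  hl ((algebraMap k Ω).injective (by rwa [map_natCast, map_zero]))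

/-- The Riemann form on the Tate module of geometric points. -/
def gform [IsCommMonObj ((Over.pullback (AVTors.vΩ (k := k) Ω)).obj X)] (hl : (l : k) ≠ 0) {L : X.left.Modules} (hL : PicF.IsInvertible L) :
    LinearMap.BilinForm ℤ_[l] (AbDual.TateMod X l (SGA7.pt Ω)) :=
  (form (hΩ Ω hL) (ne_zero_alg Ω hl)).compl₁₂ (AVTateBC.tateEquiv Ω X l).toLinearMap
    (AVTateBC.tateEquiv Ω X l).toLinearMap

variable {hl : (l : k) ≠ 0} {L : X.left.Modules} {hL : PicF.IsInvertible L}

theorem gform_apply [IsCommMonObj ((Over.pullback (AVTors.vΩ (k := k) Ω)).obj X)] (t t' : AbDual.TateMod X l (SGA7.pt Ω)) : gform Ω hl hL t t' =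
    form (hΩ Ω hL) (ne_zero_alg Ω hl) (AVTateBC.tateEquiv Ω X l t) (AVTateBC.tateEquiv Ω X l t') := rfl

theorem gform_isAlt [IsCommMonObj ((Over.pullback (AVTors.vΩ (k := k) Ω)).obj X)] : (gform Ω hl hL).IsAlt := fun _ => form_isAlt (hΩ Ω hL) _ _

theorem gform_nondegenerate [IsCommMonObj ((Over.pullback (AVTors.vΩ (k := k) Ω)).obj X)] (hLa : CohB1.IsAmple L) {t : AbDual.TateMod X l (SGA7.pt Ω)}
    (h : ∀ t', gform Ω hl hLa.1 t t' = 0) : t = 0 := by
  refine (AVTateBC.tateEquiv Ω X l).map_eq_zero_iff.1 ?_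
  refine form_nondegenerate (hΩ Ω hLa.1) (ne_zero_alg Ω hl) (finite_stab (hΩa Ω hLa)) (fun m => ?_) fun t' => ?_
  · have hn : 0 < l ^ m := pow_pos (Fact.out : l.Prime).pos m
    refine ⟨AVMulN.isFinite_pow _ hn, etale_mulN _ ?_, AVMulN.surjective_pow _ hn⟩
    rw [Nat.cast_pow]
    exact pow_ne_zero _ (ne_zero_alg Ω hl)
  · obtain ⟨s, rfl⟩ := (AVTateBC.tateEquiv Ω X l).surjective t'
    exact h s

theorem gform_frob [IsCommMonObj ((Over.pullback (AVTors.vΩ (k := k) Ω)).obj X)] (π : X ⟶ X) [IsMonHom π] [IsMonHom ((F).map π)] (q : ℕ) (hb : π.left.base = 𝟙 _)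
    (hle : ∀ U : X.left.Opens, U ≤ π.left ⁻¹ᵁ U)
    (happ : ∀ (U : X.left.Opens) (s : Γ(X.left, U)), (π.left.appLE U U (hle U)).hom s = s ^ q)
    (t t' : AbDual.TateMod X l (SGA7.pt Ω)) :
    gform Ω hl hL (AbDual.tateMapₗ (l := l) (T := SGA7.pt Ω) π t) (AbDual.tateMapₗ (l := l) (T := SGA7.pt Ω) π t') =
      (q : ℤ_[l]) * gform Ω hl hL t t' := by
  rw [gform_apply, AVTateBC.tateEquiv_map Ω l π, AVTateBC.tateEquiv_map Ω l π]
  refine form_map (hΩ Ω hL) _ ((F).map π) q ?_ _ _
  show PicF.pullCl ((F).map π).left (PicF.pullCl (prX Ω X).left (PicF.cl L)) =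
    (PicF.pullCl (prX Ω X).left (PicF.cl L)) ^ q
  rw [PicClLib.pullCl_comp, show ((F).map π).left ≫ (prX Ω X).left = (prX Ω X).left ≫ π.left from pullback.lift_fst _ _ _,
    ← PicClLib.pullCl_comp, ← PicMul.pullCl_pow, ← PicMul.cl_tensorPow]
  obtain ⟨φ⟩ := AVFrobPull.nonempty_iso π.left q hb hle happ hL
  exact congrArg _ (PicMul.cl_eq_iff.2 ⟨φ⟩)

/-- Orthogonality gives trivial pairings at every level. -/
theorem e_eq_one_of_gform [IsCommMonObj ((Over.pullback (AVTors.vΩ (k := k) Ω)).obj X)] {t t' : AbDual.TateMod X l (SGA7.pt Ω)} (h : gform Ω hl hL t t' = 0) (m : ℕ) :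
    e (hΩ Ω hL) (l ^ m) (AVTors.ePts Ω X (AVTors.TateArg.cmp X m t)) (AVTors.ePts Ω X (AVTors.TateArg.cmp X m t')) = 1 :=
  (form_eq_zero_iff (hΩ Ω hL) (ne_zero_alg Ω hl) _ _).1 h m

end Groth.Agent.AVTate
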