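import Groth.Agent.AVTate.Ranks

/-!
# Bases of the group of homomorphisms, written multiplicatively
-/

set_option autoImplicit false
set_option linter.style.haveILetI false
set_option linter.unusedSectionVars false
set_option backward.isDefEq.respectTransparency false
set_option backward.isDefEq.respectTransparency.types false
set_option maxHeartbeats 2000000
set_option synthInstance.maxHeartbeats 400000

universe u

open CategoryTheory AlgebraicGeometry MonoidalCategory CartesianMonoidalCategory MonObj
open scoped TensorProduct

noncomputable section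

namespace Groth.Agent.AVTate

variable {k : Type u} [Field k] {A B : Over (Spec (CommRingCat.of k))} [GrpObj A] [IsCommMonObj A]
  [GrpObj B] [IsCommMonObj B]

/-- The underlying morphism of a homomorphism, additively. -/
def toPts : EndAV.Hom A B →ₗ[ℤ] Additive (A ⟶ B) :=
  (AddMonoidHom.mk' (fun φ : EndAV.Hom A B => Additive.ofMul φ.toHom) fun _ _ => rfl).toIntLinearMap

theorem toPts_injective : Function.Injective (toPts (A := A) (B := B)) := fun _ _ h =>
  EndAV.Hom.ext (Additive.ofMul.injective h)

/-- A basis of the endomorphisms as morphisms. -/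
theorem exists_basis_end [IsProper A.hom] [GeometricallyIntegral A.hom] {r : ℕ}
    (hr : r = Module.finrank ℤ (EndAV.End A)) :
    ∃ e : Fin r → (A ⟶ A), (∀ i, IsMonHom (e i)) ∧ LinearIndependent ℤ (fun i => Additive.ofMul (e i)) ∧
      ∀ f : A ⟶ A, IsMonHom f → ∃ a : Fin r → ℤ, f = ∏ i, e i ^ a i := by
  obtain ⟨hfree, hfin⟩ := AVEnd0.free_finite_end (A := A)
  haveI := hfree
  haveI := hfin
  let b := (Module.finBasis ℤ (EndAV.End A)).reindex (finCongr hr.symm)
  refine ⟨fun i => (b i).toHom, fun i => EndAV.Hom.isMonHom_toHom (b i),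
    b.linearIndependent.map' (toPts (A := A) (B := A)) (LinearMap.ker_eq_bot.2 toPts_injective), fun f hf => ?_⟩
  haveI := hf
  refine ⟨fun i => b.repr (EndAV.End.of f) i, ?_⟩
  apply Additive.ofMul.injective
  rw [ofMul_prod]
  calc Additive.ofMul f = toPts (A := A) (B := A) (EndAV.End.of f) := rfl
    _ = ∑ i, b.repr (EndAV.End.of f) i • toPts (A := A) (B := A) (b i) := by
        conv_lhs => rw [← b.sum_repr (EndAV.End.of f)]
        rw [map_sum]
        exact Finset.sum_congr rfl fun i _ => map_zsmul _ _ _
    _ = _ := Finset.sum_congr rfl fun i _ => (ofMul_zpow (b.repr (EndAV.End.of f) i) (b i).toHom).symm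

end Groth.Agent.AVTate
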