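import Groth.Agent.AVTate.DatPull
import Groth.Agent.Lib.AVTorsChar
import Groth.Agent.Lib.AVDegenerate
import Groth.Agent.Lib.AVPair

/-!
# The Riemann form on torsion points, from translation classes

For `x ∈ A[n]` the class `t_x^*L ⊗ L⁻¹` dies under `[n]`, hence has a character on `A[n]`:
this is `e n · x`.
-/

set_option autoImplicit false
set_option linter.style.haveILetI false
set_option linter.unusedSectionVars false
set_option backward.isDefEq.respectTransparency false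
set_option backward.isDefEq.respectTransparency.types false
set_option maxHeartbeats 1000000

universe u

open CategoryTheory CategoryTheory.Limits MonoidalCategory CartesianMonoidalCategory MonObj AlgebraicGeometry TopologicalSpace

noncomputable section

namespace Groth.Agent.AVTate

open Groth.Agent.InvX Groth.Agent.AVTorsChar Groth.Agent.H23 Groth.Agent.H23.TrivBasic
open Groth.Agent.AVDegenerate (transHom)
open Groth.Agent.AVCube (pc pull_pc val_pc' cube_rel)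
open scoped Groth.Agent.H23.PicMul

variable {K : Type u} [Field K] [IsAlgClosed K]

local notation "Pt" => (𝟙_ (Over (Spec (CommRingCat.of K))))

section CharCl

variable {A B : Over (Spec (CommRingCat.of K))} [GrpObj A] [GrpObj B] [IsProper A.hom]
  [GeometricallyIntegral A.hom] (π : A ⟶ B) [IsMonHom π]

/-- `χ` is the character of the class `c` killed by `π`. -/
def IsCharCl (c : PicF.Cl B.left) (χ : ker π →* Γ(A.left, ⊤)) : Prop :=
  PicF.pullCl π.left c = 1 ∧ ∃ N : B.left.Modules, PicF.IsInvertible N ∧ PicF.cl N = c ∧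
    ∃ D : Dat π.left N, ∀ x : ker π, IsChar D (tr_comp π x.2) (χ x)

theorem exists_isCharCl {c : PicF.Cl B.left} (hc : PicF.IsInvertibleCl c)
    (h : PicF.pullCl π.left c = 1) : ∃ χ, IsCharCl π c χ := by
  obtain ⟨N, rfl, hN⟩ := hc
  obtain ⟨D⟩ := exists_dat π.left hN ((PicGrp.cl_eq_cl_iff _ _).1 h)
  obtain ⟨χ, hχ⟩ := exists_monoidHom π D
  exact ⟨χ, h, N, hN, rfl, D, hχ⟩

theorem isCharCl_one {χ : ker π →* Γ(A.left, ⊤)} (h : IsCharCl π 1 χ) : χ = 1 := by
  obtain ⟨-, N, -, hNc, D, hD⟩ := h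
  exact MonoidHom.ext fun x => IsChar.unique D (hD x)
    (isChar_one_of_triv D ((PicGrp.cl_eq_cl_iff _ _).1 hNc) _ (appTop_tr _))

theorem IsCharCl.mul {c d : PicF.Cl B.left} {χ ψ : ker π →* Γ(A.left, ⊤)} (h : IsCharCl π c χ)
    (h' : IsCharCl π d ψ) : IsCharCl π (c * d) (χ * ψ) := by
  obtain ⟨h0, N, hN, rfl, D, hD⟩ := h
  obtain ⟨h0', N', hN', rfl, D', hD'⟩ := h'
  exact ⟨by rw [PicMul.pullCl_mul, h0, h0', _root_.one_mul], _, PicMul.isInvertible_tensor hN hN', PicMul.cl_tensor N N', D.tensor D',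
    fun x => IsChar.tensor D (hD x) (hD' x)⟩

theorem IsCharCl.unique {c : PicF.Cl B.left} {χ χ' : ker π →* Γ(A.left, ⊤)} (h : IsCharCl π c χ)
    (h' : IsCharCl π c χ') : χ = χ' := by
  have hinv : PicF.IsInvertibleCl c := by obtain ⟨-, N, hN, rfl, -⟩ := h; exact ⟨N, rfl, hN⟩
  have hc : PicF.pullCl π.left c = 1 := h.1
  obtain ⟨d, hd, hcd⟩ := AVPair.exists_inv hinv
  have hd' : PicF.pullCl π.left d = 1 := by
    have e := congrArg (PicF.pullCl π.left) hcd
    rwa [PicMul.pullCl_mul, hc, _root_.one_mul, PicMul.pullCl_one] at e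
  obtain ⟨ψ, hψ⟩ := exists_isCharCl π hd hd'
  have h1 := h.mul π hψ
  have h2 := h'.mul π hψ
  rw [hcd] at h1 h2
  refine MonoidHom.ext fun x => ?_
  have e1 : χ x * ψ x = 1 := DFunLike.congr_fun (isCharCl_one π h1) x
  have e2 : χ' x * ψ x = 1 := DFunLike.congr_fun (isCharCl_one π h2) x
  exact left_inv_eq_right_inv (a := ψ x) e1 ((mul_comm _ _).trans e2)

theorem IsCharCl.pow {c : PicF.Cl B.left} {χ : ker π →* Γ(A.left, ⊤)} (h : IsCharCl π c χ) :
    ∀ q : ℕ, IsCharCl π (c ^ q) (χ ^ q)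
  | 0 => by
    obtain ⟨ψ, hψ⟩ := exists_isCharCl π (c := 1) AVPair.isInv_one (PicMul.pullCl_one _)
    rw [pow_zero, pow_zero, ← isCharCl_one π hψ]
    exact hψ
  | q + 1 => by
    rw [pow_succ, pow_succ]
    exact (IsCharCl.pow h q).mul π h

/-- A class with trivial character is trivial. -/
theorem eq_one_of_isCharCl_one [IsFinite π.left] [Etale π.left] [Surjective π.left]
    {c : PicF.Cl B.left} (h : IsCharCl π c 1) : c = 1 := by
  obtain ⟨-, N, -, rfl, D, hD⟩ := h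
  exact (PicGrp.cl_eq_cl_iff _ _).2 (triv_of_monoidHom_one π D hD)

variable {A' B' : Over (Spec (CommRingCat.of K))} [GrpObj A'] [GrpObj B'] [IsProper A'.hom]
  [GeometricallyIntegral A'.hom] (π' : A' ⟶ B') [IsMonHom π'] (a : A' ⟶ A) [IsMonHom a] (b : B' ⟶ B)

/-- Characters along a commutative square. -/
theorem isCharCl_apply (hab : a ≫ π = π' ≫ b) {c : PicF.Cl B.left} {χ : ker π →* Γ(A.left, ⊤)}
    (h : IsCharCl π c χ) {χ' : ker π' →* Γ(A'.left, ⊤)} (h' : IsCharCl π' (PicF.pullCl b.left c) χ')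
    (s : ker π') (hs : (s : Pt ⟶ A') ≫ a ∈ ker π) : χ' s = a.left.appTop (χ ⟨_, hs⟩) := by
  obtain ⟨hc, N, hN, rfl, D, hD⟩ := h
  have hab' : a.left ≫ π.left = π'.left ≫ b.left := by rw [← Over.comp_left, hab, Over.comp_left]
  obtain ⟨χ'', hχ''⟩ := exists_monoidHom π' (datPull hab' D)
  rw [h'.unique π' ⟨by rw [PicClLib.pullCl_comp, ← hab', ← PicClLib.pullCl_comp, hc, PicMul.pullCl_one], _, PicClLib.isInvertible_pullback b.left hN, rfl, _, hχ''⟩]
  refine IsChar.unique _ (hχ'' s) (isChar_datPull hab' D (tr_comp π hs) (tr_comp π' s.2) ?_ (hD ⟨_, hs⟩))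
  rw [← Over.comp_left, ← Over.comp_left, AVAmple.comp_tr]
  congr 1
  rw [AVAmple.tr, MonObj.mul_comp, Category.id_comp, Category.assoc]

end CharCl

section Form

variable {A : Over (Spec (CommRingCat.of K))} [GrpObj A] [IsCommMonObj A] [IsProper A.hom]
  [GeometricallyIntegral A.hom] {L : A.left.Modules} (hL : PicF.IsInvertible L) (n : ℕ)

/-- Multiplication by `n`. -/
def mulN (A : Over (Spec (CommRingCat.of K))) [GrpObj A] (n : ℕ) : A ⟶ A := 𝟙 A ^ n

instance isMonHom_mulN : IsMonHom (mulN A n) := AVDegLib.isMonHom_pow n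

theorem comp_mulN {T : Over (Spec (CommRingCat.of K))} (x : T ⟶ A) : x ≫ mulN A n = x ^ n := by
  show x ≫ 𝟙 A ^ n = x ^ n
  rw [MonObj.comp_pow, Category.comp_id]

theorem mem_ker {n : ℕ} {x : Pt ⟶ A} : x ∈ ker (mulN A n) ↔ x ^ n = 1 := by
  show x ≫ mulN A n = 1 ↔ _
  rw [comp_mulN]

/-- The translation class. -/
def tcl (x : Pt ⟶ A) : PicF.Cl A.left := (transHom hL x : (PicF.Cl A.left)ˣ)

theorem tcl_mul (x y : Pt ⟶ A) : tcl hL (x * y) = tcl hL x * tcl hL y := by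
  rw [tcl, map_mul, Units.val_mul, tcl, tcl]

theorem tcl_one : tcl hL (1 : Pt ⟶ A) = 1 := by rw [tcl, map_one, Units.val_one]

theorem pull_pc' {T T' : Over (Spec (CommRingCat.of K))} (φ : T' ⟶ T) (f : T ⟶ A) :
    PicF.pullCl φ.left (pc hL f : PicF.Cl T.left) = pc hL (φ ≫ f) :=
  congrArg Units.val (pull_pc hL φ f)

/-- The additive difference `f ↦ (f + x)^*L - f^*L`. -/
def dif {T : Over (Spec (CommRingCat.of K))} (x : Pt ⟶ A) (f : T ⟶ A) : (PicF.Cl T.left)ˣ :=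
  pc hL (f * (toUnit T ≫ x)) / pc hL f

theorem dif_mul {T : Over (Spec (CommRingCat.of K))} (x : Pt ⟶ A) (f g : T ⟶ A) :
    dif hL x (f * g) = dif hL x f * dif hL x g := by
  have h := cube_rel hL f g (toUnit T ≫ x)
  rw [AVCube.pc_const, _root_.mul_one] at h
  rw [dif, dif, dif, div_mul_div_comm, div_eq_div_iff_mul_eq_mul]
  rw [← _root_.mul_assoc, h, _root_.mul_assoc, _root_.mul_comm]

theorem pull_tcl {T : Over (Spec (CommRingCat.of K))} (x : Pt ⟶ A) (φ : T ⟶ A) :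
    PicF.pullCl φ.left (tcl hL x) = dif hL x φ := by
  show PicF.pullCl φ.left ((pc hL (𝟙 A * (toUnit A ≫ x)) / pc hL (𝟙 A) : (PicF.Cl A.left)ˣ) : PicF.Cl A.left) = _
  have h := congrArg Units.val (map_div (Units.map (PicMul.pullHom φ.left : PicF.Cl A.left →* PicF.Cl T.left))
    (pc hL (𝟙 A * (toUnit A ≫ x))) (pc hL (𝟙 A)))
  refine h.trans ?_
  rw [pull_pc, pull_pc, MonObj.comp_mul, Category.comp_id, ← Category.assoc,
    toUnit_unique (φ ≫ toUnit A) (toUnit T)]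
  rfl

theorem pull_mulN_tcl {x : Pt ⟶ A} (hx : x ^ n = 1) : PicF.pullCl (mulN A n).left (tcl hL x) = 1 := by
  let φ : (A ⟶ A) →* (PicF.Cl A.left)ˣ := MonoidHom.mk' (dif hL x) (dif_mul hL x)
  rw [pull_tcl]
  have h : φ (𝟙 A ^ n) = 1 := by
    rw [map_pow, show φ (𝟙 A) = transHom hL x from rfl, ← map_pow, hx, map_one]
  exact congrArg Units.val h

theorem isInvertibleCl_tcl (x : Pt ⟶ A) : PicF.IsInvertibleCl (tcl hL x) := by
  obtain ⟨d, hd, hcd⟩ := AVPair.exists_inv (c := (pc hL (𝟙 A) : PicF.Cl A.left))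
    (PicClLib.isInvertibleCl_pullCl _ ⟨L, rfl, hL⟩)
  have e : tcl hL x = (pc hL (𝟙 A * (toUnit A ≫ x)) : PicF.Cl A.left) * d := by
    show ((pc hL (𝟙 A * (toUnit A ≫ x)) / pc hL (𝟙 A) : (PicF.Cl A.left)ˣ) : PicF.Cl A.left) = _
    rw [div_eq_mul_inv, Units.val_mul, Units.inv_eq_of_mul_eq_one_right hcd]
  rw [e]
  exact PicMul.isInvertibleCl_mul (PicClLib.isInvertibleCl_pullCl _ ⟨L, rfl, hL⟩) hd

open Classical in
/-- The character of the translation class. -/
def chi (x : Pt ⟶ A) : ker (mulN A n) →* Γ(A.left, ⊤) :=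
  if h : ∃ χ, IsCharCl (mulN A n) (tcl hL x) χ then h.choose else 1

theorem isCharCl_chi {x : Pt ⟶ A} (hx : x ^ n = 1) : IsCharCl (mulN A n) (tcl hL x) (chi hL n x) := by
  have h := exists_isCharCl (mulN A n) (isInvertibleCl_tcl hL x) (pull_mulN_tcl hL n hx)
  rw [chi, dif_pos h]
  exact h.choose_spec

open Classical in
/-- The Riemann form on `n`-torsion points. -/
def e (s x : Pt ⟶ A) : Γ(A.left, ⊤) := if hs : s ∈ ker (mulN A n) then chi hL n x ⟨s, hs⟩ else 1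

theorem e_eq {s : Pt ⟶ A} (hs : s ∈ ker (mulN A n)) (x : Pt ⟶ A) : e hL n s x = chi hL n x ⟨s, hs⟩ :=
  dif_pos hs

variable {n}

theorem e_mul_left {s t : Pt ⟶ A} (hs : s ^ n = 1) (ht : t ^ n = 1) (x : Pt ⟶ A) :
    e hL n (s * t) x = e hL n s x * e hL n t x := by
  rw [e_eq hL n (mul_mem (mem_ker.2 hs) (mem_ker.2 ht)), e_eq hL n (mem_ker.2 hs), e_eq hL n (mem_ker.2 ht),
    ← map_mul]
  rfl

theorem e_one_left (x : Pt ⟶ A) : e hL n 1 x = 1 := by
  rw [e_eq hL n (one_mem _)]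
  exact map_one _

theorem e_mul_right {s x y : Pt ⟶ A} (hs : s ^ n = 1) (hx : x ^ n = 1) (hy : y ^ n = 1) :
    e hL n s (x * y) = e hL n s x * e hL n s y := by
  have hxy : (x * y) ^ n = 1 := by rw [mul_pow, hx, hy, _root_.one_mul]
  have h : chi hL n (x * y) = chi hL n x * chi hL n y :=
    (isCharCl_chi hL n hxy).unique _ (tcl_mul hL x y ▸ (isCharCl_chi hL n hx).mul _ (isCharCl_chi hL n hy))
  rw [e_eq hL n (mem_ker.2 hs), e_eq hL n (mem_ker.2 hs), e_eq hL n (mem_ker.2 hs), h, MonoidHom.mul_apply]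

theorem e_one_right (s : Pt ⟶ A) : e hL n s 1 = 1 := by
  rw [e]
  split_ifs with hs
  · have h := isCharCl_chi hL n (x := (1 : Pt ⟶ A)) (one_pow n)
    rw [tcl_one] at h
    rw [isCharCl_one _ h]
    rfl
  · rfl

theorem e_pow_eq_one {s : Pt ⟶ A} (hs : s ^ n = 1) (x : Pt ⟶ A) : e hL n s x ^ n = 1 := by
  have h : (⟨s, mem_ker.2 hs⟩ : ker (mulN A n)) ^ n = 1 := Subtype.ext hs
  rw [e_eq hL n (mem_ker.2 hs), ← map_pow, h, map_one]

theorem e_pow_right {s x : Pt ⟶ A} (hs : s ^ n = 1) (hx : x ^ n = 1) :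
    ∀ j, e hL n s (x ^ j) = e hL n s x ^ j
  | 0 => by rw [pow_zero, pow_zero, e_one_right]
  | j + 1 => by
    rw [pow_succ, pow_succ, e_mul_right hL hs (by rw [← pow_mul, _root_.mul_comm, pow_mul, hx, one_pow]) hx,
      e_pow_right hs hx j]

theorem e_pow_left {s : Pt ⟶ A} (hs : s ^ n = 1) (x : Pt ⟶ A) :
    ∀ j, e hL n (s ^ j) x = e hL n s x ^ j
  | 0 => by rw [pow_zero, pow_zero, e_one_left]
  | j + 1 => by
    rw [pow_succ, pow_succ, e_mul_left hL (by rw [← pow_mul, _root_.mul_comm, pow_mul, hs, one_pow]) hs,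
      e_pow_left hs x j]

theorem iter_tr (x : Pt ⟶ A) : ∀ i, iter (AVAmple.tr x).left i = (AVAmple.tr (x ^ i)).left
  | 0 => by rw [pow_zero, AVAmple.tr_one, Over.id_left]; rfl
  | i + 1 => by
    show (AVAmple.tr x).left ≫ iter (AVAmple.tr x).left i = _
    rw [iter_tr x i, ← Over.comp_left, AVAmple.tr_tr, ← pow_succ']

/-- **The form is alternating.** -/
theorem e_self (hn : 0 < n) {x : Pt ⟶ A} (hx : x ^ n = 1) : e hL n x x = 1 := by
  haveI : IsIntegral A.left := GeometricallyIntegral.isIntegral_of_subsingleton A.hom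
  haveI : Surjective (mulN A n).left := AVMulN.surjective_pow n hn
  obtain ⟨y, hy⟩ := AVDegenerate.exists_lift_image (mulN A n) x
    (by rw [(mulN A n).left.surjective.range_eq]; exact Set.mem_univ _)
  rw [comp_mulN] at hy
  obtain ⟨M, hM, hLM⟩ := PicInv.exists_inverse hL
  let S := (AVAmple.tr x).left
  let T := (AVAmple.tr y).left
  haveI hSurj : ∀ z : Pt ⟶ A, Surjective (AVAmple.tr z).left := fun z =>
    ⟨Function.RightInverse.surjective (g := (AVAmple.tr z⁻¹).left) fun p => by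
      show ((AVAmple.tr z⁻¹).left ≫ (AVAmple.tr z).left) p = p
      rw [← Over.comp_left, AVAmple.tr_tr, inv_mul_cancel, AVAmple.tr_one]
      rfl⟩
  haveI := dom_of_surjective S
  haveI := dom_of_surjective T
  haveI := dom_of_surjective (mulN A n).left
  have hTS : T ≫ (mulN A n).left = (mulN A n).left ≫ S := by
    rw [← Over.comp_left, ← Over.comp_left, AVAmple.comp_tr, AVAmple.tr, comp_mulN, mul_pow,
      ← MonObj.comp_pow, hy]
    rfl
  have hcl : PicF.cl (CohB1.tensorMod ((Scheme.Modules.pullback S).obj L) M) = tcl hL x := by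
    show _ = ((pc hL (𝟙 A * (toUnit A ≫ x)) / pc hL (𝟙 A) : (PicF.Cl A.left)ˣ) : PicF.Cl A.left)
    have hinv : (pc hL (𝟙 A) : PicF.Cl A.left) * PicF.cl M = 1 := by
      rw [AVCube.val_pc_id, ← PicMul.cl_tensor]
      exact (PicGrp.cl_eq_cl_iff _ _).2 hLM
    rw [div_eq_mul_inv, Units.val_mul, Units.inv_eq_of_mul_eq_one_right hinv, PicMul.cl_tensor]
    rfl
  obtain ⟨D⟩ := exists_dat (mulN A n).left (PicMul.isInvertible_tensor (PicClLib.isInvertible_pullback S hL) hM)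
    ((PicGrp.cl_eq_cl_iff _ _).1 (hcl ▸ pull_mulN_tcl hL n hx :
      PicF.pullCl (mulN A n).left (PicF.cl (CohB1.tensorMod ((Scheme.Modules.pullback S).obj L) M)) = 1))
  obtain ⟨χ, hχ⟩ := exists_monoidHom (mulN A n) D
  have hchi : chi hL n x = χ :=
    (isCharCl_chi hL n hx).unique _ ⟨pull_mulN_tcl hL n hx, _, PicMul.isInvertible_tensor (PicClLib.isInvertible_pullback S hL) hM, hcl, D, hχ⟩
  rw [e_eq hL n (mem_ker.2 hx), hchi]
  have hTn : iter T n = (AVAmple.tr x).left := by rw [iter_tr, hy]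
  refine eq_one_of_telescope (mulN A n).left T S hTS n ?_ (appTop_tr y) hL hM hLM D
    (hTn ▸ tr_comp _ (mem_ker.2 hx)) (isChar_congr D hTn.symm (hχ ⟨x, mem_ker.2 hx⟩))
  rw [iter_tr, hx, AVAmple.tr_one, Over.id_left]

/-- The form is skew. -/
theorem e_skew (hn : 0 < n) {s x : Pt ⟶ A} (hs : s ^ n = 1) (hx : x ^ n = 1) :
    e hL n s x * e hL n x s = 1 := by
  have hsx : (s * x) ^ n = 1 := by rw [mul_pow, hs, hx, _root_.one_mul]
  have h := e_self hL hn hsx
  rwa [e_mul_left hL hs hx, e_mul_right hL hs hs hx, e_mul_right hL hx hs hx, e_self hL hn hs, e_self hL hn hx,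
    _root_.one_mul, _root_.mul_one] at h

theorem appTop_over (f : A ⟶ A) (c : Γ(A.left, ⊤)) : f.left.appTop c = c := by
  obtain ⟨r, rfl⟩ := (Rigid.bijective_appTop A.hom).2 c
  exact ConcreteCategory.congr_hom ((Scheme.Hom.comp_appTop _ _).symm.trans
    (congrArg Scheme.Hom.appTop (Over.w f))) r

/-- Similitudes. -/
theorem e_comp (f : A ⟶ A) [IsMonHom f] (q : ℕ) (hf : PicF.pullCl f.left (PicF.cl L) = PicF.cl L ^ q)
    {s x : Pt ⟶ A} (hs : s ^ n = 1) (hx : x ^ n = 1) :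
    e hL n (s ≫ f) (x ≫ f) = e hL n s x ^ q := by
  have hfx : (x ≫ f) ^ n = 1 := by rw [← MonObj.pow_comp, hx, MonObj.one_comp]
  have hfs : (s ≫ f) ^ n = 1 := by rw [← MonObj.pow_comp, hs, MonObj.one_comp]
  have hpc : ∀ {T : Over (Spec (CommRingCat.of K))} (g : T ⟶ A), pc hL (g ≫ f) = pc hL g ^ q := by
    intro T g
    refine Units.ext ?_
    rw [Units.val_pow_eq_pow_val, val_pc', val_pc', Over.comp_left, ← PicClLib.pullCl_comp, hf, PicMul.pullCl_pow]
  have hcl : PicF.pullCl f.left (tcl hL (x ≫ f)) = tcl hL x ^ q := by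
    rw [pull_tcl, tcl, ← Units.val_pow_eq_pow_val]
    refine congrArg Units.val ?_
    show pc hL (f * (toUnit A ≫ x ≫ f)) / pc hL f = (pc hL (𝟙 A * (toUnit A ≫ x)) / pc hL (𝟙 A)) ^ q
    rw [div_pow, ← hpc, ← hpc, MonObj.mul_comp, Category.id_comp, Category.assoc]
  have hab : f ≫ mulN A n = mulN A n ≫ f := by
    rw [comp_mulN]
    show f ^ n = (𝟙 A ^ n) ≫ f
    rw [MonObj.pow_comp, Category.id_comp]
  have h := isCharCl_apply (mulN A n) (mulN A n) f f hab (isCharCl_chi hL n hfx)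
    (hcl ▸ (isCharCl_chi hL n hx).pow _ q) ⟨s, mem_ker.2 hs⟩ (mem_ker.2 hfs)
  rw [appTop_over f, MonoidHom.pow_apply] at h
  rw [e_eq hL n (mem_ker.2 hfs), e_eq hL n (mem_ker.2 hs)]
  exact h.symm

/-- Compatibility of levels. -/
theorem e_level {m : ℕ} {s x : Pt ⟶ A} (hs : s ^ (n * m) = 1) (hx : x ^ (n * m) = 1) :
    e hL (n * m) s x ^ m = e hL n (s ^ m) (x ^ m) := by
  have hxm : (x ^ m) ^ n = 1 := by rw [← pow_mul, mul_comm, hx]
  have hsm : (s ^ m) ^ n = 1 := by rw [← pow_mul, mul_comm, hs]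
  have hxm' : (x ^ m) ^ (n * m) = 1 := by rw [pow_mul, hxm, one_pow]
  have hab : mulN A m ≫ mulN A n = mulN A (n * m) ≫ 𝟙 A := by
    rw [Category.comp_id, comp_mulN]
    show (𝟙 A ^ m) ^ n = 𝟙 A ^ (n * m)
    rw [← pow_mul, mul_comm]
  have hpow : e hL (n * m) s x ^ m = e hL (n * m) s (x ^ m) := (e_pow_right hL hs hx m).symm
  rw [hpow]
  have hs' : s ≫ mulN A m ∈ ker (mulN A n) := by rw [comp_mulN]; exact mem_ker.2 hsm
  have h := isCharCl_apply (mulN A n) (mulN A (n * m)) (mulN A m) (𝟙 A) hab (isCharCl_chi hL n hxm)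
    (show IsCharCl (mulN A (n * m)) (PicF.pullCl (𝟙 A : A ⟶ A).left (tcl hL (x ^ m))) (chi hL (n * m) (x ^ m)) by
      rw [Over.id_left, PicClLib.pullCl_id]; exact isCharCl_chi hL _ hxm') ⟨s, mem_ker.2 hs⟩ hs'
  rw [appTop_over] at h
  rw [e_eq hL _ (mem_ker.2 hs), e_eq hL n (mem_ker.2 hsm), h]
  congr 1
  exact Subtype.ext (comp_mulN m s)

/-- A point orthogonal to all torsion has trivial translation class. -/
theorem tcl_eq_one_of_e [IsFinite (mulN A n).left] [Etale (mulN A n).left] [Surjective (mulN A n).left]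
    {x : Pt ⟶ A} (hx : x ^ n = 1) (h : ∀ s : Pt ⟶ A, s ^ n = 1 → e hL n s x = 1) : tcl hL x = 1 := by
  refine eq_one_of_isCharCl_one (mulN A n) ?_
  have : chi hL n x = 1 := MonoidHom.ext fun s => by
    rw [← e_eq hL n s.2, h s (mem_ker.1 s.2)]
    rfl
  exact this ▸ isCharCl_chi hL n hx

variable {Y : Over (Spec (CommRingCat.of K))} [GrpObj Y] [IsProper Y.hom] [GeometricallyIntegral Y.hom]
  (u : A ⟶ Y) [IsMonHom u] (v : Y ⟶ A) [IsMonHom v]

/-- **Criterion.** An isotropic kernel makes `v^*L` invariant under `Y[n]`. -/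
theorem pull_tcl_eq_one [IsFinite u.left] [Etale u.left] [Surjective u.left]
    (huv : u ≫ v = mulN A n) (hvu : v ≫ u = 𝟙 Y ^ n)
    (hiso : ∀ s x : Pt ⟶ A, s ≫ u = 1 → x ≫ u = 1 → e hL n s x = 1)
    {y : Pt ⟶ Y} (hy : y ^ n = 1) : PicF.pullCl v.left (tcl hL (y ≫ v)) = 1 := by
  have hxu : (y ≫ v) ≫ u = 1 := by
    rw [Category.assoc, hvu, MonObj.comp_pow, Category.comp_id, hy]
  have hx : (y ≫ v) ^ n = 1 := by rw [← MonObj.pow_comp, hy, MonObj.one_comp]
  refine eq_one_of_isCharCl_one u ?_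
  have hab : 𝟙 A ≫ mulN A n = u ≫ v := by rw [Category.id_comp, huv]
  have hpull : PicF.pullCl u.left (PicF.pullCl v.left (tcl hL (y ≫ v))) = 1 := by
    rw [PicClLib.pullCl_comp, ← Over.comp_left, huv]
    exact pull_mulN_tcl hL n hx
  obtain ⟨χ', hχ'⟩ := exists_isCharCl u
    (PicClLib.isInvertibleCl_pullCl v.left (isInvertibleCl_tcl hL _)) hpull
  suffices hh : χ' = 1 from hh ▸ hχ'
  refine MonoidHom.ext fun s => ?_
  have hsn : (s : Pt ⟶ A) ≫ 𝟙 A ∈ ker (mulN A n) := by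
    rw [Category.comp_id]
    show (s : Pt ⟶ A) ≫ mulN A n = 1
    rw [← huv, ← Category.assoc, show (s : Pt ⟶ A) ≫ u = 1 from s.2, MonObj.one_comp]
  have h := isCharCl_apply (mulN A n) u (𝟙 A) v hab (isCharCl_chi hL n hx) hχ' s hsn
  rw [appTop_over, ← e_eq hL n hsn, Category.comp_id, hiso _ _ s.2 hxu] at h
  exact h

end Form

end Groth.Agent.AVTate
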