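import Groth.Agent.AVTate.RootExist
import Groth.Agent.AVTate.Pairing
import Groth.Agent.AVTors.IsogDegree
import Groth.Agent.Lib.AVTateBC
import Groth.Agent.Lib.AVHilbert
import Groth.Agent.Lib.AVEuler
import Groth.Agent.AVTate.Sections

/-!
# An isotropic isogeny target carries an ample class of the same Euler characteristic
-/

set_option autoImplicit false
set_option linter.style.haveILetI false
set_option linter.unusedSectionVars false
set_option backward.isDefEq.respectTransparency false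
set_option backward.isDefEq.respectTransparency.types false
set_option maxHeartbeats 1000000
set_option synthInstance.maxHeartbeats 400000

universe u

open CategoryTheory CategoryTheory.Limits MonoidalCategory CartesianMonoidalCategory MonObj AlgebraicGeometry TopologicalSpace

noncomputable section

namespace Groth.Agent.AVTate

open Groth.Agent.H23 Groth.Agent.H23.TrivBasic
open Groth.Agent.AVCube (pc pull_pc val_pc' val_pc_id)
open scoped Groth.Agent.H23.PicMul

attribute [local instance] Functor.monObjObj Functor.grpObjObj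

variable {k : Type u} [Field k] (Ω : Type u) [Field Ω] [Algebra k Ω] [IsAlgClosed Ω]

local notation "F" => Over.pullback (AVTors.vΩ (k := k) Ω)

/-- The base change of an invertible module. -/
theorem hΩ {Y : Over (Spec (CommRingCat.of k))} {L : Y.left.Modules} (hL : PicF.IsInvertible L) :
    PicF.IsInvertible (LΩ Ω L) :=
  PicClLib.isInvertible_pullback (prX Ω Y).left hL

section Inv

variable {X Y : Over (Spec (CommRingCat.of k))} [GrpObj X] [IsCommMonObj X] [IsProper X.hom]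
  [GeometricallyIntegral X.hom] [GrpObj Y] [IsCommMonObj Y] [IsProper Y.hom] [GeometricallyIntegral Y.hom]
  {L : X.left.Modules} (hL : PicF.IsInvertible L)
  (u : X ⟶ Y) [IsMonHom u] (v : Y ⟶ X) [IsMonHom v]

/-- The kernel isotropy gives translation invariance of `v^*L` on the base change. -/
theorem invariant_of_isotropic [IsCommMonObj ((F).obj X)] [IsMonHom ((F).map u)] [IsMonHom ((F).map v)] [IsFinite ((F).map u).left] [Etale ((F).map u).left] [Surjective ((F).map u).left]
    (n : ℕ) (huv : u ≫ v = 𝟙 X ^ n) (hvu : v ≫ u = 𝟙 Y ^ n)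
    (hiso : ∀ s x : AVTors.pt0 Ω ⟶ (F).obj X, s ≫ (F).map u = 1 → x ≫ (F).map u = 1 →
      e (hΩ Ω hL) n s x = 1)
    (y : AVTors.pt0 Ω ⟶ (F).obj Y) (hy : y ^ n = 1) :
    pc (hΩ Ω (PicClLib.isInvertible_pullback v.left hL)) (𝟙 _ * (toUnit _ ≫ y)) =
      pc (hΩ Ω (PicClLib.isInvertible_pullback v.left hL)) (𝟙 ((F).obj Y)) := by
  let ρX : (X ⟶ X) →* ((F).obj X ⟶ (F).obj X) := MonoidHom.mk' (F).map fun a b => Functor.map_mul (F) a b
  let ρY : (Y ⟶ Y) →* ((F).obj Y ⟶ (F).obj Y) := MonoidHom.mk' (F).map fun a b => Functor.map_mul (F) a b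
  have huv' : (F).map u ≫ (F).map v = mulN ((F).obj X) n := by
    rw [← Functor.map_comp, huv]
    show ρX (𝟙 X ^ n) = 𝟙 _ ^ n
    rw [map_pow, show ρX (𝟙 X) = 𝟙 _ from (F).map_id X]
  have hvu' : (F).map v ≫ (F).map u = 𝟙 ((F).obj Y) ^ n := by
    rw [← Functor.map_comp, hvu]
    show ρY (𝟙 Y ^ n) = 𝟙 _ ^ n
    rw [map_pow, show ρY (𝟙 Y) = 𝟙 _ from (F).map_id Y]
  have h := pull_tcl_eq_one (hΩ Ω hL) ((F).map u) ((F).map v) huv' hvu' hiso hy
  rw [pull_tcl, dif, Units.val_eq_one, div_eq_one] at h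
  have hpc : ∀ {T : Over (Spec (CommRingCat.of Ω))} (f : T ⟶ (F).obj Y),
      pc (hΩ Ω (PicClLib.isInvertible_pullback v.left hL)) f =
      pc (hΩ Ω hL) (f ≫ (F).map v) := by
    intro T f
    refine Units.ext ?_
    show PicF.pullCl f.left (PicF.pullCl (prX Ω Y).left (PicF.pullCl v.left (PicF.cl L))) =
      PicF.pullCl (f ≫ (F).map v).left (PicF.pullCl (prX Ω X).left (PicF.cl L))
    rw [PicClLib.pullCl_comp, PicClLib.pullCl_comp, PicClLib.pullCl_comp, Over.comp_left, Category.assoc,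
      Category.assoc, show ((F).map v).left ≫ (prX Ω X).left = (prX Ω Y).left ≫ v.left from pullback.lift_fst _ _ _]
  rw [hpc, hpc, Category.id_comp]
  refine (congrArg (pc (hΩ Ω hL)) ?_).trans h
  rw [MonObj.mul_comp, Category.id_comp, Category.assoc]

end Inv

section Euler

variable {X Y : Over (Spec (CommRingCat.of k))} [GrpObj X] [IsCommMonObj X] [IsProper X.hom]
  [GeometricallyIntegral X.hom] [GrpObj Y] [IsCommMonObj Y] [IsProper Y.hom] [GeometricallyIntegral Y.hom]

/-- Two mutually inverse-up-to-`n` homomorphisms are finite. -/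
theorem isFinite_of_comp {A B : Over (Spec (CommRingCat.of k))} [GrpObj A] [IsCommMonObj A] [IsProper A.hom]
    [GeometricallyIntegral A.hom] [IsProper B.hom] (u : A ⟶ B) (v : B ⟶ A) (n : ℕ) (hn : 0 < n)
    (huv : u ≫ v = 𝟙 A ^ n) : IsFinite u.left := by
  have h1 : IsFinite (u.left ≫ v.left) := by
    rw [← Over.comp_left, huv]; exact AVMulN.isFinite_pow n hn
  haveI : IsSeparated (v.left ≫ A.hom) := by rw [Over.w v]; infer_instance
  haveI : IsSeparated v.left := IsSeparated.of_comp v.left A.hom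
  exact MorphismProperty.of_postcomp (W := @IsFinite) (W' := @IsSeparated) u.left v.left inferInstance h1

/-- The degree of `u` from the points of its kernel. -/
theorem nu_eq_of_card [IsCommMonObj ((F).obj X)] [IsCommMonObj ((F).obj Y)] {g : ℕ}
    (hX : topologicalKrullDim X.left = g) (hY : topologicalKrullDim Y.left = g)
    (u : X ⟶ Y) [IsMonHom u] [IsMonHom ((F).map u)] (v : Y ⟶ X) [IsMonHom v] (l m : ℕ) [Fact l.Prime]
    (hl : (l : k) ≠ 0) (huv : u ≫ v = 𝟙 X ^ l ^ m)
    (hcard : Nat.card {x : AVTors.pt0 Ω ⟶ (F).obj X // x ≫ (F).map u = 1} = l ^ (m * g)) :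
    AVNu.nu u = l ^ (m * g) ∧ AVNu.nu v = l ^ (m * g) := by
  haveI : IsMonHom (u ≫ v) := inferInstance
  have hn : 0 < l ^ m := pow_pos (Fact.out : l.Prime).pos m
  haveI := H23.MaxAbelian.isIntegral_of_geometricallyIntegral (X := X)
  haveI := H23.MaxAbelian.isIntegral_of_geometricallyIntegral (X := Y)
  have hprod : AVNu.nu u * AVNu.nu v = (l ^ m) ^ (2 * g) := by
    rw [← AVNu.nu_comp hX hY u v]
    haveI : IsFinite (𝟙 X ^ l ^ m : X ⟶ X).left := AVMulN.isFinite_pow _ hn
    haveI : IsMonHom (𝟙 X ^ l ^ m : X ⟶ X) := huv ▸ inferInstance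
    rw [huv, ← AVNu.finrank_eq_nu hX hX (𝟙 X ^ l ^ m) inferInstance (genericPoint X.left)]
    have h := AVDegLib.finrank_zpow hX ((l ^ m : ℕ) : ℤ) (by exact_mod_cast hn.ne') (genericPoint X.left)
    rw [zpow_natCast] at h
    rw [h, Int.natAbs_natCast]
  obtain ⟨a, -, ha⟩ := (Nat.dvd_prime_pow (Fact.out : l.Prime)).1
    (Dvd.intro (AVNu.nu v) (hprod.trans (pow_mul l m (2 * g)).symm))
  haveI : IsFinite u.left := isFinite_of_comp u v (l ^ m) hn huv
  let u' := (F).map u
  obtain ⟨hsq, hiff⟩ := AVTateBC.finite_iff Ω hX hY u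
  haveI : IsFinite u'.left := hiff.2 inferInstance
  haveI := H23.MaxAbelian.isIntegral_of_geometricallyIntegral (X := (F).obj X)
  haveI := H23.MaxAbelian.isIntegral_of_geometricallyIntegral (X := (F).obj Y)
  have hX' := AVTors.topologicalKrullDim_pullback Ω hX
  have hY' := AVTors.topologicalKrullDim_pullback Ω hY
  haveI : Surjective u'.left := H23.Isogeny.surjective_of_isFinite ((F).obj X).hom ((F).obj Y).hom _ (Over.w _)
    (hX'.trans hY'.symm)
  haveI : Flat u'.left := (S19572.result Ω _ _ u' (hX'.trans hY'.symm)).2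
  have hlΩ : (l : Ω) ≠ 0 := fun h => hl ((algebraMap k Ω).injective (by rwa [map_natCast, map_zero]))
  have hval := AVTors.padicValNat_finrank hX' u' l hlΩ (genericPoint ((F).obj Y).left)
  have hk : Nat.card (AVTors.kerPts u' Ω) = l ^ (m * g) := by
    rw [← hcard]
    have key : ∀ T', T' = SGA7.pt (K := Ω) Ω →
        Nat.card {x : T' ⟶ (F).obj X // x ≫ u' = 1} = Nat.card (AVTors.kerPts u' Ω) := by
      rintro T' rfl; rfl
    exact (key _ (AVTors.pt_self Ω).symm).symm
  rw [hk, AVNu.finrank_eq_nu hX' hY' u' inferInstance, AVTateBC.nu_map Ω hX hY u, ha, padicValNat.prime_pow,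
    padicValNat.prime_pow] at hval
  subst hval
  refine ⟨ha, ?_⟩
  rw [ha, ← pow_mul, two_mul, Nat.mul_add, pow_add] at hprod
  exact Nat.eq_of_mul_eq_mul_left (pow_pos (Fact.out : l.Prime).pos _) hprod

/-- **An isotropic target carries an ample class with `χ = χ(L ⊗ [-1]^*L)`.** -/
theorem exists_ample_class [IsCommMonObj ((F).obj X)] [IsCommMonObj ((F).obj Y)] {g : ℕ}
    (hX : topologicalKrullDim X.left = g) (hY : topologicalKrullDim Y.left = g)
    {L : X.left.Modules} (hLa : CohB1.IsAmple L) (l m : ℕ) [Fact l.Prime] (hl : (l : k) ≠ 0)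
    (u : X ⟶ Y) [IsMonHom u] [IsMonHom ((F).map u)] (v : Y ⟶ X) [IsMonHom v]
    (huv : u ≫ v = 𝟙 X ^ l ^ m) (hvu : v ≫ u = 𝟙 Y ^ l ^ m)
    (hcard : Nat.card {x : AVTors.pt0 Ω ⟶ (F).obj X // x ≫ (F).map u = 1} = l ^ (m * g))
    (hiso : ∀ s x : AVTors.pt0 Ω ⟶ (F).obj X, s ≫ (F).map u = 1 → x ≫ (F).map u = 1 →
      e (hΩ Ω hLa.1) (l ^ m) s x = 1) :
    ∃ M : Y.left.Modules, CohB1.IsAmple M ∧ @Curv2.euler k _ Y.left ⟨Y.hom⟩ M =
      @Curv2.euler k _ X.left ⟨X.hom⟩ (CohB1.tensorMod L ((Scheme.Modules.pullback ((𝟙 X)⁻¹ : X ⟶ X).left).obj L)) := by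
  have hn : 0 < l ^ m := pow_pos (Fact.out : l.Prime).pos m
  have hnk : ((l ^ m : ℕ) : k) ≠ 0 := by rw [Nat.cast_pow]; exact pow_ne_zero _ hl
  haveI : IsFinite v.left := isFinite_of_comp v u (l ^ m) hn hvu
  haveI : IsFinite u.left := isFinite_of_comp u v (l ^ m) hn huv
  haveI := H23.MaxAbelian.isIntegral_of_geometricallyIntegral (X := X)
  haveI := H23.MaxAbelian.isIntegral_of_geometricallyIntegral (X := Y)
  haveI : CompactSpace Y.left := QuasiCompact.compactSpace_of_compactSpace Y.hom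
  haveI : IsLocallyNoetherian X.left := LocallyOfFiniteType.isLocallyNoetherian X.hom
  haveI := H23.MaxAbelian.isIntegral_of_geometricallyIntegral (X := (F).obj X)
  haveI := H23.MaxAbelian.isIntegral_of_geometricallyIntegral (X := (F).obj Y)
  haveI : Surjective v.left := H23.Isogeny.surjective_of_isFinite Y.hom X.hom _ (Over.w _) (hY.trans hX.symm)
  haveI : IsMonHom ((F).map v) := inferInstance
  haveI : IsFinite ((F).map u).left := (AVTateBC.finite_iff Ω hX hY u).2.2 inferInstance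
  haveI : Surjective ((F).map u).left := H23.Isogeny.surjective_of_isFinite ((F).obj X).hom ((F).obj Y).hom _
    (Over.w _) ((AVTors.topologicalKrullDim_pullback Ω hX).trans (AVTors.topologicalKrullDim_pullback Ω hY).symm)
  haveI : Etale u.left := by
    haveI : Etale (u.left ≫ v.left) := by rw [← Over.comp_left, huv]; exact etale_mulN (l ^ m) hnk
    haveI : Etale (v.left ≫ u.left) := by rw [← Over.comp_left, hvu]; exact etale_mulN (l ^ m) hnk
    haveI : FormallyUnramified v.left := FormallyUnramified.of_comp v.left u.left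
    exact Etale.of_comp u.left v.left
  haveI : Etale ((F).map u).left :=
    MorphismProperty.of_isPullback (P := @Etale) (AVTateBC.finite_iff Ω hX hY u).1 inferInstance
  let L₂ := CohB1.tensorMod L ((Scheme.Modules.pullback ((𝟙 X)⁻¹ : X ⟶ X).left).obj L)
  obtain ⟨M, hM, hMc⟩ := exists_root (PicClLib.isInvertible_pullback v.left hLa.1) (l ^ m) hn hnk Ω
    fun y hy => invariant_of_isotropic Ω hLa.1 u v (l ^ m) huv hvu hiso y hy
  have hcl : PicF.cl (CohB1.tensorPow M (l ^ m)) = PicF.cl ((Scheme.Modules.pullback v.left).obj L₂) := by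
    rw [PicMul.cl_tensorPow, hMc]
    show _ = PicF.pullCl v.left (PicF.cl (CohB1.tensorMod L _))
    rw [PicMul.cl_tensor, PicMul.pullCl_mul]
    congr 1
    show PicF.pullCl _ (PicF.pullCl v.left (PicF.cl L)) = PicF.pullCl v.left (PicF.pullCl _ (PicF.cl L))
    rw [PicClLib.pullCl_comp, PicClLib.pullCl_comp, ← Over.comp_left, ← Over.comp_left, GrpObj.inv_comp,
      Category.id_comp, GrpObj.comp_inv, Category.comp_id]
  obtain ⟨φ⟩ := PicMul.cl_eq_iff.1 hcl
  have hL₂ : CohB1.IsAmple L₂ := by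
    haveI : IsIso ((𝟙 X)⁻¹ : X ⟶ X).left := by
      haveI : IsIso ((𝟙 X)⁻¹ : X ⟶ X) := ⟨(𝟙 X)⁻¹, by rw [GrpObj.inv_comp, Category.id_comp, inv_inv],
        by rw [GrpObj.inv_comp, Category.id_comp, inv_inv]⟩
      exact inferInstanceAs (IsIso ((Over.forget _).map ((𝟙 X)⁻¹ : X ⟶ X)))
    haveI : CompactSpace X.left := QuasiCompact.compactSpace_of_compactSpace X.hom
    refine AmpleX.isAmple_tensor hLa (PicClLib.isInvertible_pullback _ hLa.1) fun x => ?_
    obtain ⟨-, -, hx⟩ := AmpleX.isAmple_iff.1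
      (AmpleVan.FiniteSurj.isAmple_pullback_of_isAffineHom ((𝟙 X)⁻¹ : X ⟶ X).left hLa)
    obtain ⟨a, ha, s, hxs, -⟩ := hx x
    obtain ⟨b, rfl⟩ := Nat.exists_eq_add_of_le' ha
    exact ⟨b, s, hxs⟩
  have hMn : CohB1.IsAmple (CohB1.tensorPow M (l ^ m)) :=
    AmpleX.isAmple_of_iso φ.symm (AmpleVan.FiniteSurj.isAmple_pullback_of_isAffineHom v.left hL₂)
  have hMa : CohB1.IsAmple M := AmpleX.isAmple_of_tensorPow hM hn hMn
  refine ⟨M, hMa, ?_⟩
  obtain ⟨-, hnv⟩ := nu_eq_of_card Ω hX hY u v l m hl huv hcard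
  haveI : Flat v.left := (S19572.result k Y X v (hY.trans hX.symm)).2
  have h1 := AVEuler.euler_pullback v (l ^ (m * g))
    (fun b => (AVNu.finrank_eq_nu hY hX v inferInstance b).trans hnv) (CurveDeg.isCoh_of_isInvertible hL₂.1)
  have h2 : @Curv2.euler k _ Y.left ⟨Y.hom⟩ (CohB1.tensorPow M (l ^ m)) =
      ((l ^ m : ℕ) : ℤ) ^ g * @Curv2.euler k _ Y.left ⟨Y.hom⟩ M := by
    rw [AVHilbert.euler_eq_finrank hMn, AVHilbert.euler_eq_finrank hMa,
      AVHilbert.finrank_HH_zero_tensorPow g hY hMa hn]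
    push_cast
    ring
  have h3 : @Curv2.euler k _ Y.left ⟨Y.hom⟩ (CohB1.tensorPow M (l ^ m)) =
      @Curv2.euler k _ Y.left ⟨Y.hom⟩ ((Scheme.Modules.pullback v.left).obj L₂) := by
    rw [AVHilbert.euler_eq_finrank hMn, AVHilbert.euler_eq_finrank
      (AmpleVan.FiniteSurj.isAmple_pullback_of_isAffineHom v.left hL₂)]
    letI : Y.left.Over (Spec (CommRingCat.of k)) := ⟨Y.hom⟩
    exact congrArg _ (finrank_h0_of_iso φ)
  rw [h3, h1, ← Nat.cast_pow, ← pow_mul] at h2
  exact (mul_left_cancel₀ (Int.natCast_ne_zero.2 (pow_ne_zero _ (Fact.out : l.Prime).ne_zero)) h2).symm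

end Euler

end Groth.Agent.AVTate
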