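import Groth.Agent.AVTate.Isogeny
import Mathlib.RingTheory.Artinian.Module
import Mathlib.LinearAlgebra.Semisimple
import Mathlib.LinearAlgebra.Charpoly.Basic

/-!
# The centre of the endomorphism algebra, ranks
-/

set_option autoImplicit false
set_option linter.style.haveILetI false
set_option linter.unusedSectionVars false
set_option backward.isDefEq.respectTransparency false
set_option backward.isDefEq.respectTransparency.types false
set_option maxHeartbeats 2000000
set_option synthInstance.maxHeartbeats 400000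

universe u

open CategoryTheory CategoryTheory.Limits MonoidalCategory CartesianMonoidalCategory MonObj AlgebraicGeometry
open scoped TensorProduct

noncomputable section

namespace Groth.Agent.AVTate

/-- The bicommutant of a semisimple endomorphism is the algebra it generates. -/
theorem mem_adjoin_of_bicommutant {K V : Type*} [Field K] [AddCommGroup V] [Module K V] [FiniteDimensional K V]
    {f φ : Module.End K V} (hf : f.IsSemisimple) (h : ∀ c : Module.End K V, c * f = f * c → φ * c = c * φ) :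
    φ ∈ Algebra.adjoin K {f} := by
  let E := Algebra.adjoin K ({f} : Set (Module.End K V))
  letI : CommRing E := Algebra.adjoinCommRingOfComm K (by rintro a rfl b rfl; rfl)
  haveI : IsReduced E := ⟨fun x ⟨n, hn⟩ => by
    obtain ⟨p, hp⟩ : ∃ p : Polynomial K, Polynomial.aeval f p = (x : Module.End K V) := by
      have hx : (x : Module.End K V) ∈ Algebra.adjoin K ({f} : Set (Module.End K V)) := x.2
      rwa [Algebra.adjoin_singleton_eq_range_aeval] at hx
    have h0 : Polynomial.aeval f (p ^ n) = 0 := by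
      rw [map_pow, hp]
      exact congrArg Subtype.val hn
    have h1 : minpoly K f ∣ p := hf.minpoly_squarefree.isRadical n p (minpoly.dvd K f h0)
    obtain ⟨q, rfl⟩ := h1
    exact Subtype.ext (hp.symm.trans (by rw [map_mul, minpoly.aeval, zero_mul]; rfl))⟩
  haveI : IsArtinianRing E := IsArtinianRing.of_finite K E
  haveI : IsSemisimpleRing E := IsArtinianRing.isSemisimpleRing_of_isReduced E
  let G : Module.End (Module.End E V) V :=
    { toFun := φ
      map_add' := map_add φ
      map_smul' := fun c v => by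
        show φ (c v) = c (φ v)
        exact LinearMap.congr_fun (h (c.restrictScalars K) (LinearMap.ext fun x =>
          c.map_smul (⟨f, Algebra.self_mem_adjoin_singleton _ f⟩ : E) x)) v }
  obtain ⟨s, hs⟩ := Module.Finite.fg_top (R := K) (M := V)
  obtain ⟨r, hr⟩ := jacobson_density (R := E) G s
  have : φ = (r : Module.End K V) := LinearMap.ext_on hs fun x hx => hr x hx
  rw [this]
  exact r.2

variable {k : Type u} [Field k] [Finite k] {Ω : Type u} [Field Ω] [Algebra k Ω] [IsAlgClosure k Ω]
  {l : ℕ} [Fact l.Prime] {A B : Over (Spec (CommRingCat.of k))} [GrpObj A] [IsCommMonObj A] [IsProper A.hom]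
  [GeometricallyIntegral A.hom] [GrpObj B] [IsCommMonObj B] [IsProper B.hom] [GeometricallyIntegral B.hom]
  {πA : A ⟶ A} [IsMonHom πA] {πB : B ⟶ B} [IsMonHom πB]

omit [Finite k] in
/-- The integral minimal polynomial kills the rational action. -/
theorem aeval_rep_eq_zero (φ : EndAV.End A) (m : Polynomial ℤ) (hm0 : Polynomial.aeval φ m = 0) :
    Polynomial.aeval (AVTors.TateSemi.rep l Ω A φ)
      ((m.map (Int.castRingHom ℤ_[l])).map (algebraMap ℤ_[l] ℚ_[l])) = 0 := by
  haveI : IsAlgClosed Ω := IsAlgClosure.isAlgClosed k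
  rw [Polynomial.aeval_map_algebraMap,
    show AVTors.TateSemi.rep l Ω A φ = Module.End.baseChangeHom ℤ_[l] ℚ_[l] (AbDual.TateMod A l (SGA7.pt Ω))
      (EndAV.End.tateRep l (SGA7.pt Ω) φ) from rfl,
    Polynomial.aeval_algHom_apply, ← AVEnd0.aeval_tateRep, hm0, map_zero, map_zero]

/-- The centre of the rational endomorphism algebra is generated by the Frobenius. -/
theorem mem_qAdj_of_central (hC : CubeEmbeds k) (hA : IsFrob A πA) (φ : EndAV.End A)
    (hφ : ∀ ψ : EndAV.End A, φ * ψ = ψ * φ) : EndAV.toEnd0 φ ∈ EndAV.QAdj (EndAV.End.of πA) := by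
  classical
  let Ω := AlgebraicClosure k
  obtain ⟨l, hlp, hl⟩ := AVHomLattice.exists_prime k
  haveI := Fact.mk hlp
  obtain ⟨hf, hf'⟩ := free_finite_tate (A := A) (Ω := Ω) hl
  haveI := hf; haveI := hf'
  let P := AVTors.TateSemi.rep l Ω A (EndAV.End.of πA)
  have hmem : AVTors.TateSemi.rep l Ω A φ ∈ Algebra.adjoin ℚ_[l] {P} := by
    refine mem_adjoin_of_bicommutant (f := P) (isSemisimple_frob Ω hA hl) fun c hc => ?_
    have hc' : c ∈ commutant Ω l A πA := (mem_commutant Ω).2 hc
    rw [commutant_eq Ω hA hl hC, AVTors.TateSemi.alg_eq_span] at hc'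
    induction hc' using Submodule.span_induction with
    | mem x hx => obtain ⟨ψ, rfl⟩ := hx; rw [← map_mul, ← map_mul, hφ]
    | zero => rw [mul_zero, zero_mul]
    | add x y _ _ hx hy => rw [mul_add, add_mul, hx (by exact (mem_commutant Ω).1 (by
          rw [commutant_eq Ω hA hl hC, AVTors.TateSemi.alg_eq_span]; assumption)),
        hy (by exact (mem_commutant Ω).1 (by rw [commutant_eq Ω hA hl hC, AVTors.TateSemi.alg_eq_span]; assumption))]
    | smul e x _ hx => rw [mul_smul_comm, smul_mul_assoc, hx (by exact (mem_commutant Ω).1 (by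
          rw [commutant_eq Ω hA hl hC, AVTors.TateSemi.alg_eq_span]; assumption))]
  obtain ⟨m, hm, hmμ, hm0⟩ := AVEnd0.exists_int_minpoly (A := A) Ω (EndAV.End.of πA)
  by_contra hnot
  let d := m.natDegree
  have hd : d = (minpoly ℚ (EndAV.toEnd0 (EndAV.End.of πA))).natDegree := by
    rw [← hmμ, Polynomial.natDegree_map_eq_of_injective (RingHom.injective_int _)]
  let v : Fin (d + 1) → EndAV.End A := Fin.snoc (fun i : Fin d => EndAV.End.of πA ^ (i : ℕ)) φ
  have hpow : LinearIndependent ℚ fun i : Fin d => EndAV.toEnd0 (EndAV.End.of πA) ^ (i : ℕ) := by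
    have h := linearIndependent_pow (K := ℚ) (EndAV.toEnd0 (EndAV.End.of πA))
    rw [← hd] at h
    exact h
  have hv0 : LinearIndependent ℚ fun i => EndAV.toEnd0 (v i) := by
    have he : (fun i => EndAV.toEnd0 (v i)) =
        Fin.snoc (fun i : Fin d => EndAV.toEnd0 (EndAV.End.of πA) ^ (i : ℕ)) (EndAV.toEnd0 φ) := by
      funext i
      refine Fin.lastCases ?_ (fun j => ?_) i <;> simp [v]
    rw [he, linearIndependent_finSnoc]
    refine ⟨hpow, fun h => hnot ?_⟩
    refine (Subalgebra.mem_toSubmodule _).1 (Submodule.span_le.2 ?_ h)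
    rintro _ ⟨i, rfl⟩
    exact Subalgebra.pow_mem _ (Algebra.self_mem_adjoin_singleton _ _) _
  have hv : LinearIndependent ℤ fun i => v i := by
    have h1 : LinearIndependent ℤ fun i => EndAV.toEnd0 (v i) := hv0.restrict_scalars
      (by intro a b hab; simpa using hab)
    exact LinearIndependent.of_comp (EndAV.toEnd0 (A := A)).toLinearMap h1
  let e : Fin (d + 1) → EndAV.Hom A A := fun i => v i
  haveI : IsAlgClosed Ω := IsAlgClosure.isAlgClosed k
  have h1 := AVHomLattice.linearIndependent_tateMap (A := A) (B := A) Ω l hl (e := e) hv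
  have hinj : Function.Injective
      (LinearMap.baseChangeHom ℤ_[l] ℚ_[l] (AbDual.TateMod A l (SGA7.pt Ω)) (AbDual.TateMod A l (SGA7.pt Ω))) :=
    fun _ _ h => AVTors.TateSemi.baseChange_injective h
  have h2 : LinearIndependent ℤ_[l] fun i => AVTors.TateSemi.rep l Ω A (v i) := h1.map' _ (LinearMap.ker_eq_bot.2 hinj)
  rw [LinearIndependent.iff_fractionRing ℤ_[l] ℚ_[l]] at h2
  have he : (fun i => AVTors.TateSemi.rep l Ω A (v i)) =
      Fin.snoc (fun i : Fin d => P ^ (i : ℕ)) (AVTors.TateSemi.rep l Ω A φ) := by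
    funext i
    refine Fin.lastCases ?_ (fun j => ?_) i <;> simp [v, P]
  rw [he, linearIndependent_finSnoc] at h2
  refine h2.2 ?_
  rw [Algebra.adjoin_singleton_eq_range_aeval] at hmem
  obtain ⟨F, hF⟩ := hmem
  let M : Polynomial ℚ_[l] := (m.map (Int.castRingHom ℤ_[l])).map (algebraMap ℤ_[l] ℚ_[l])
  have hMm : M.Monic := (hm.map _).map _
  have hM0 : Polynomial.aeval P M = 0 := aeval_rep_eq_zero (EndAV.End.of πA) m hm0
  have hF' : AVTors.TateSemi.rep l Ω A φ = Polynomial.aeval P (F %ₘ M) := by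
    rw [← hF]
    conv_lhs => rw [← Polynomial.modByMonic_add_div F M]
    show Polynomial.aeval P (F %ₘ M + M * (F /ₘ M)) = _
    rw [map_add, map_mul, hM0, zero_mul, add_zero]
  rw [hF', Polynomial.aeval_eq_sum_range' (n := d) ?_]
  · exact Submodule.sum_mem _ fun i hi => Submodule.smul_mem _ _ (Submodule.subset_span ⟨⟨i, Finset.mem_range.1 hi⟩, rfl⟩)
  · have hMd : M.natDegree = d := by
      rw [(hm.map _).natDegree_map, hm.natDegree_map]
    rcases eq_or_ne (F %ₘ M) 0 with h0 | h0
    · rw [h0, Polynomial.natDegree_zero]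
      rcases Nat.eq_zero_or_pos d with hd0 | hd0
      · exfalso
        have h1 := hnot
        refine h1 ?_
        have hm1 : m = 1 := Polynomial.eq_one_of_monic_natDegree_zero hm hd0
        rw [hm1, map_one] at hm0
        rw [show φ = 0 from by rw [← _root_.mul_one φ, hm0, mul_zero], map_zero]
        exact Subalgebra.zero_mem _
      · exact hd0
    · rw [← hMd]
      exact Polynomial.natDegree_modByMonic_lt F hMm (fun e => h0 (by rw [e, Polynomial.modByMonic_one]))

/-- The rank of `Hom` from the characteristic polynomials. -/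
theorem finrank_hom (hC : CubeEmbeds k) (hA : IsFrob A πA) (hB : IsFrob B πB) (hl : (l : k) ≠ 0)
    [Module.Free ℤ_[l] (AbDual.TateMod A l (SGA7.pt Ω))] [Module.Finite ℤ_[l] (AbDual.TateMod A l (SGA7.pt Ω))]
    [Module.Free ℤ_[l] (AbDual.TateMod B l (SGA7.pt Ω))] [Module.Finite ℤ_[l] (AbDual.TateMod B l (SGA7.pt Ω))] :
    Module.finrank ℤ (EndAV.Hom A B) = Module.finrank ℚ_[l]
      (LinearMap.ker (LinearMap.lcomp ℚ_[l] (VT Ω l B) (repH Ω l (EndAV.Hom.of πA)) -
        LinearMap.llcomp ℚ_[l] (VT Ω l A) (VT Ω l B) (VT Ω l B) (repH Ω l (EndAV.Hom.of πB)))) := by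
  haveI : IsAlgClosed Ω := IsAlgClosure.isAlgClosed k
  obtain ⟨g, hg⟩ := AVTors.exists_dimNat A
  obtain ⟨g', hg'⟩ := AVTors.exists_dimNat B
  obtain ⟨hfree, hfin, -⟩ := AVHomLattice.free_finite (A := A) (B := B) hg hg'
  haveI := hfree
  haveI := hfin
  let b := Module.finBasis ℤ (EndAV.Hom A B)
  have h1 := AVHomLattice.linearIndependent_tateMap (A := A) (B := B) Ω l hl (e := fun i => b i) b.linearIndependent
  have hinj : Function.Injective
      (LinearMap.baseChangeHom ℤ_[l] ℚ_[l] (AbDual.TateMod A l (SGA7.pt Ω)) (AbDual.TateMod B l (SGA7.pt Ω))) :=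
    fun _ _ h => baseChange_injective' h
  have h2 : LinearIndependent ℤ_[l] fun i => repH Ω l (b i) := h1.map' _ (LinearMap.ker_eq_bot.2 hinj)
  rw [LinearIndependent.iff_fractionRing ℤ_[l] ℚ_[l]] at h2
  have hspan : Submodule.span ℚ_[l] (Set.range fun i => repH Ω l (b i)) =
      LinearMap.ker (LinearMap.lcomp ℚ_[l] (VT Ω l B) (repH Ω l (EndAV.Hom.of πA)) -
        LinearMap.llcomp ℚ_[l] (VT Ω l A) (VT Ω l B) (VT Ω l B) (repH Ω l (EndAV.Hom.of πB))) := by
    refine le_antisymm (Submodule.span_le.2 ?_) fun φ hφ => ?_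
    · rintro _ ⟨i, rfl⟩
      rw [SetLike.mem_coe, LinearMap.mem_ker, LinearMap.sub_apply, sub_eq_zero]
      show repH Ω l (b i) ∘ₗ repH Ω l (EndAV.Hom.of πA) = repH Ω l (EndAV.Hom.of πB) ∘ₗ repH Ω l (b i)
      rw [← repH_comp, ← repH_comp]
      exact congrArg _ (EndAV.Hom.ext (hA.natural hB (b i).toHom))
    · rw [LinearMap.mem_ker, LinearMap.sub_apply, sub_eq_zero] at hφ
      refine Submodule.span_le.2 ?_ (mem_spanQ_of_commute hl hC hA hB φ hφ)
      rintro _ ⟨f, rfl⟩
      rw [SetLike.mem_coe, ← b.sum_repr f, show repH Ω l (∑ i, b.repr f i • b i) =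
        AddMonoidHom.mk' (repH (A := A) (B := B) Ω l) (repH_add Ω l) (∑ i, b.repr f i • b i) from rfl, map_sum]
      refine Submodule.sum_mem _ fun i _ => ?_
      show repH Ω l _ ∈ _
      rw [repH_zsmul]
      exact Submodule.smul_mem _ _ (Submodule.subset_span ⟨i, rfl⟩)
  have h := finrank_span_eq_card h2
  rw [hspan, Fintype.card_fin] at h
  exact h.symm

omit [Finite k] in
/-- The dimension of the rational endomorphism algebra. -/
theorem finrank_end0 : Module.finrank ℚ (EndAV.End0 A) = Module.finrank ℤ (EndAV.End A) := by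
  obtain ⟨hf, -⟩ := AVEnd0.free_finite_end (A := A)
  haveI := hf
  exact Module.finrank_baseChange

end Groth.Agent.AVTate
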