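import Groth.Agent.AVTate.Ranks

/-!
# The rational endomorphism algebra of an abelian variety over a finite field
-/

set_option autoImplicit false
set_option linter.style.haveILetI false
set_option linter.unusedSectionVars false
set_option backward.isDefEq.respectTransparency false
set_option backward.isDefEq.respectTransparency.types false
set_option maxHeartbeats 2000000
set_option synthInstance.maxHeartbeats 400000

universe u

open CategoryTheory AlgebraicGeometry MonoidalCategory CartesianMonoidalCategory UniqueFactorizationMonoid Polynomial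
open scoped TensorProduct

noncomputable section

namespace Groth.Agent.AVTate

open scoped Classical

section Poly

variable {K : Type} [Field K] {f q : K[X]}

theorem exists_eq_pow (hf : f.Monic) (hq : q.Monic) (hqi : Irreducible q)
    (h : ∀ p, Irreducible p → p ∣ f → p ∣ q) : ∃ d : ℕ, f = q ^ d := by
  refine ⟨Multiset.card (normalizedFactors f), eq_of_monic_of_associated hf (hq.pow _) ?_⟩
  have hall : ∀ p ∈ normalizedFactors f, p = q := fun p hp => by
    have hpi := irreducible_of_normalized_factor p hp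
    refine eq_of_monic_of_associated ?_ hq (hpi.associated_of_dvd hqi (h p hpi (dvd_of_mem_normalizedFactors hp)))
    rw [← normalize_normalized_factor p hp]
    exact monic_normalize hpi.ne_zero
  rw [← Multiset.prod_replicate, ← Multiset.eq_replicate_card.2 hall]
  exact (prod_normalizedFactors hf.ne_zero).symm

theorem rsum_pow (hq : q.Monic) (hqi : Irreducible q) (d : ℕ) :
    S14944.rsum K (q ^ d) = q.natDegree * d ^ 2 := by
  rw [rsum_eq]
  rcases Nat.eq_zero_or_pos d with rfl | h0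
  · simp
  · rw [normalizedFactors_pow, normalizedFactors_irreducible hqi, hq.normalize_eq_self,
      Multiset.nsmul_singleton, Multiset.toFinset_replicate, if_neg h0.ne', Finset.sum_singleton,
      Multiset.count_replicate_self, pow_two, Nat.mul_comm]

end Poly

open MonObj

variable {k : Type u} [Field k] {A : Over (Spec (CommRingCat.of k))} [GrpObj A] [IsCommMonObj A]

/-- Clearing the denominator in the rational endomorphism algebra. -/
theorem exists_nat_smul (x : EndAV.End0 A) : ∃ (n : ℕ) (φ : EndAV.End A), n ≠ 0 ∧ (n : ℚ) • x = EndAV.toEnd0 φ := by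
  induction x using TensorProduct.induction_on with
  | zero => exact ⟨1, 0, one_ne_zero, by rw [Nat.cast_one, one_smul, map_zero]⟩
  | tmul q φ =>
    refine ⟨q.den, q.num • φ, q.den_ne_zero, ?_⟩
    rw [TensorProduct.smul_tmul', smul_eq_mul, _root_.mul_comm, Rat.mul_den_eq_num, EndAV.toEnd0_apply,
      ← TensorProduct.smul_tmul, zsmul_eq_mul, _root_.mul_one]
  | add a b ha hb =>
    obtain ⟨n, φ, hn, h⟩ := ha
    obtain ⟨m, ψ, hm, h'⟩ := hb
    refine ⟨n * m, m • φ + n • ψ, mul_ne_zero hn hm, ?_⟩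
    rw [smul_add, map_add, map_nsmul, map_nsmul, ← h, ← h', ← Nat.cast_smul_eq_nsmul ℚ, ← Nat.cast_smul_eq_nsmul ℚ,
      smul_smul, smul_smul, Nat.cast_mul, _root_.mul_comm (m : ℚ) (n : ℚ)]

variable [Finite k] [IsProper A.hom] [GeometricallyIntegral A.hom] {π : A ⟶ A} [IsMonHom π]

theorem toEnd0_frob_mem_center (hA : IsFrob A π) :
    EndAV.toEnd0 (EndAV.End.of π) ∈ Subalgebra.center ℚ (EndAV.End0 A) := by
  rw [Subalgebra.mem_center_iff]
  intro y
  obtain ⟨n, φ, hn, h⟩ := exists_nat_smul y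
  rw [← inv_smul_smul₀ (Nat.cast_ne_zero.2 hn : (n : ℚ) ≠ 0) y, h, smul_mul_assoc, mul_smul_comm, ← map_mul,
    ← map_mul, hA.central φ]

/-- The centre of the rational endomorphism algebra. -/
theorem center_eq_qAdj (hC : CubeEmbeds k) (hA : IsFrob A π) :
    Subalgebra.center ℚ (EndAV.End0 A) = EndAV.QAdj (EndAV.End.of π) := by
  refine le_antisymm (fun x hx => ?_) (Algebra.adjoin_le (Set.singleton_subset_iff.2 (toEnd0_frob_mem_center hA)))
  obtain ⟨n, φ, hn, h⟩ := exists_nat_smul x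
  rw [← inv_smul_smul₀ (Nat.cast_ne_zero.2 hn : (n : ℚ) ≠ 0) x, h]
  refine Subalgebra.smul_mem _ (mem_qAdj_of_central hC hA φ fun ψ => AVEnd0.toEnd0_injective ?_) _
  rw [map_mul, map_mul, ← h, smul_mul_assoc, mul_smul_comm, (Subalgebra.mem_center_iff.1 hx (EndAV.toEnd0 ψ)).symm]

theorem qAdj_eq_top_iff (hC : CubeEmbeds k) (hA : IsFrob A π) :
    EndAV.QAdj (EndAV.End.of π) = ⊤ ↔ ∀ a b : EndAV.End A, a * b = b * a := by
  rw [← center_eq_qAdj hC hA]
  constructor
  · intro h a b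
    refine AVEnd0.toEnd0_injective ?_
    rw [map_mul, map_mul]
    have hb : EndAV.toEnd0 b ∈ Subalgebra.center ℚ (EndAV.End0 A) := h ▸ Algebra.mem_top
    exact Subalgebra.mem_center_iff.1 hb _
  · intro h
    refine eq_top_iff.2 fun x _ => Subalgebra.mem_center_iff.2 fun y => ?_
    obtain ⟨n, φ, hn, hx⟩ := exists_nat_smul x
    obtain ⟨m, ψ, hm, hy⟩ := exists_nat_smul y
    rw [← inv_smul_smul₀ (Nat.cast_ne_zero.2 hn : (n : ℚ) ≠ 0) x, hx,
      ← inv_smul_smul₀ (Nat.cast_ne_zero.2 hm : (m : ℚ) ≠ 0) y, hy, smul_mul_smul_comm, smul_mul_smul_comm,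
      ← map_mul, ← map_mul, h, _root_.mul_comm (n : ℚ)⁻¹]

variable {Ω : Type u} [Field Ω] [Algebra k Ω] [IsAlgClosure k Ω] {l : ℕ} [Fact l.Prime] (hl : (l : k) ≠ 0)
  [Module.Free ℤ_[l] (AbDual.TateMod A l (SGA7.pt Ω))] [Module.Finite ℤ_[l] (AbDual.TateMod A l (SGA7.pt Ω))]
  {P : ℤ[X]} (hP : (AbDual.tateMapₗ (l := l) (T := SGA7.pt Ω) π).charpoly = P.map (Int.castRingHom ℤ_[l]))

include hl hP

theorem props {g : ℕ} (hg : topologicalKrullDim A.left = g) :
    P.Monic ∧ (P.map (Int.castRingHom ℚ)).natDegree = 2 * g ∧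
      ∀ n : ℤ, (AVNu.nu (EndAV.End.toHom (EndAV.End.of π - (n : EndAV.End A))) : ℤ) = P.eval n := by
  haveI : IsAlgClosed Ω := IsAlgClosure.isAlgClosed k
  obtain ⟨hm, hd, hv⟩ := AVWeil.charpoly_props Ω A hg π l hl hP
  exact ⟨hm, by rw [hm.natDegree_map]; exact hd, hv⟩

theorem finrank_end0_eq (hC : CubeEmbeds k) (hA : IsFrob A π) :
    Module.finrank ℚ (EndAV.End0 A) = S14944.rsum ℚ (P.map (Int.castRingHom ℚ)) := by
  obtain ⟨g, hg⟩ := AVTors.exists_dimNat A
  rw [finrank_end0]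
  exact finrank_end Ω hA hl hC (props hl hP hg).1 hP

theorem finrank_qAdj_le {g : ℕ} (hg : topologicalKrullDim A.left = g) :
    Module.finrank ℚ (EndAV.QAdj (EndAV.End.of π)) ≤ 2 * g := by
  haveI : IsAlgClosed Ω := IsAlgClosure.isAlgClosed k
  obtain ⟨hm, hd, -⟩ := props hl hP hg
  rw [EndAV.QAdj, finrank_adjoin_singleton _ (isIntegral_frob hl hP), ← hd]
  exact natDegree_le_of_dvd (minpoly_dvd hl hP) (hm.map _).ne_zero

theorem commutative_iff_squarefree (hC : CubeEmbeds k) (hA : IsFrob A π) {g : ℕ}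
    (hg : topologicalKrullDim A.left = g) :
    ((∀ a b : EndAV.End A, a * b = b * a) ↔ Squarefree (P.map (Int.castRingHom ℚ))) ∧
      (Squarefree (P.map (Int.castRingHom ℚ)) ↔ Module.finrank ℚ (EndAV.End0 A) = 2 * g) := by
  haveI : IsAlgClosed Ω := IsAlgClosure.isAlgClosed k
  obtain ⟨hm, hd, -⟩ := props hl hP hg
  have h0 := (hm.map (Int.castRingHom ℚ)).ne_zero
  have h2 : Squarefree (P.map (Int.castRingHom ℚ)) ↔ Module.finrank ℚ (EndAV.End0 A) = 2 * g := by
    rw [finrank_end0_eq hl hP hC hA, ← hd]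
    exact (rsum_eq_natDegree_iff h0).symm
  refine ⟨⟨fun h => h2.2 ?_, fun h => ?_⟩, h2⟩
  · refine le_antisymm ?_ ?_
    · rw [← Subalgebra.topEquiv.toLinearEquiv.finrank_eq, ← (qAdj_eq_top_iff hC hA).2 h]
      exact finrank_qAdj_le hl hP hg
    · rw [finrank_end0_eq hl hP hC hA, ← hd]
      exact natDegree_le_rsum h0
  · refine (qAdj_eq_top_iff hC hA).1 ?_
    haveI := AVEnd0.finite_end0 (A := A)
    refine Algebra.toSubmodule_eq_top.1 (Submodule.eq_top_of_finrank_eq ?_)
    rw [Subalgebra.finrank_toSubmodule, EndAV.QAdj, finrank_adjoin_singleton _ (isIntegral_frob hl hP),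
      minpoly_eq_of_squarefree hl hP h, hd, h2.1 h]

theorem finrank_sq_iff (hC : CubeEmbeds k) (hA : IsFrob A π) {g : ℕ} (hg : topologicalKrullDim A.left = g) :
    (Module.finrank ℚ (EndAV.End0 A) = (2 * g) ^ 2 ↔ ∃ n : ℤ, EndAV.End.of π = (n : EndAV.End A)) ∧
      ((∃ n : ℤ, EndAV.End.of π = (n : EndAV.End A)) ↔ ∃ a : ℤ, P = (X - C a) ^ (2 * g)) := by
  haveI : IsAlgClosed Ω := IsAlgClosure.isAlgClosed k
  obtain ⟨hm, hd, hv⟩ := props hl hP hg
  have hPd : P.natDegree = 2 * g := by rw [← hd, hm.natDegree_map]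
  have hmQ := hm.map (Int.castRingHom ℚ)
  have hback : (∃ a : ℤ, P = (X - C a) ^ (2 * g)) → ∃ n : ℤ, EndAV.End.of π = (n : EndAV.End A) := by
    rintro ⟨a, ha⟩
    refine ⟨a, AVEnd0.toEnd0_injective ?_⟩
    have hdvd := minpoly_dvd hl hP
    rw [ha, Polynomial.map_pow, Polynomial.map_sub, map_X, map_C, eq_intCast] at hdvd
    obtain ⟨r, hr⟩ := (AVSemisimple.squarefree_minpoly (EndAV.End.of π) hA.central).isRadical (2 * g) _ hdvd
    have h1 := congrArg (aeval (EndAV.toEnd0 (EndAV.End.of π))) hr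
    rw [map_mul, minpoly.aeval, zero_mul, map_sub, aeval_X, aeval_C, map_intCast, sub_eq_zero] at h1
    rw [h1, map_intCast]
  have hfwd : (∃ n : ℤ, EndAV.End.of π = (n : EndAV.End A)) → ∃ a : ℤ, P = (X - C a) ^ (2 * g) := by
    rintro ⟨n, hn⟩
    refine ⟨n, Polynomial.map_injective (Int.castRingHom ℚ) (RingHom.injective_int _) ?_⟩
    obtain ⟨e, h⟩ := exists_eq_pow hmQ (monic_X_sub_C (n : ℚ)) (irreducible_X_sub_C _) fun p hpi hp =>
      (AVEnd0.dvd_minpoly hg (EndAV.End.of π) hm hPd hv hpi hp).trans (minpoly.dvd ℚ _ (by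
          rw [map_sub, aeval_X, aeval_C, map_intCast, hn, map_intCast, sub_self]))
    have hc := congrArg natDegree h
    rw [hd, natDegree_pow, natDegree_X_sub_C, _root_.mul_one] at hc
    rw [← hc] at h
    rw [h, Polynomial.map_pow, Polynomial.map_sub, map_X, map_C, eq_intCast]
  refine ⟨⟨fun h => hback ?_, fun h => ?_⟩, hfwd, hback⟩
  · rw [finrank_end0_eq hl hP hC hA, ← hd] at h
    obtain ⟨a, ha⟩ := (rsum_eq_sq_iff hmQ).1 h
    rw [hd] at ha
    rcases Nat.eq_zero_or_pos g with rfl | h0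
    · exact ⟨0, by simpa using Polynomial.eq_one_of_monic_natDegree_zero hm hPd⟩
    · have hroot : aeval a P = 0 := by
        rw [← aeval_map_algebraMap ℚ a P, show algebraMap ℤ ℚ = Int.castRingHom ℚ from rfl, ha, map_pow, map_sub,
          aeval_X, aeval_C, Algebra.algebraMap_self, RingHom.id_apply, sub_self, zero_pow (by omega)]
      obtain ⟨b, hb⟩ := isInteger_of_is_root_of_monic hm hroot
      refine ⟨b, Polynomial.map_injective (Int.castRingHom ℚ) (RingHom.injective_int _) ?_⟩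
      rw [ha, Polynomial.map_pow, Polynomial.map_sub, map_X, map_C, ← hb, algebraMap_int_eq]
  · obtain ⟨a, ha⟩ := hfwd h
    rw [finrank_end0_eq hl hP hC hA, ← hd]
    exact (rsum_eq_sq_iff hmQ).2 ⟨(a : ℚ), by
      rw [hd, ha, Polynomial.map_pow, Polynomial.map_sub, map_X, map_C, eq_intCast]⟩

theorem exists_sq_of_isField (hC : CubeEmbeds k) (hA : IsFrob A π) {g : ℕ} (hg : topologicalKrullDim A.left = g)
    (hK : IsField (EndAV.QAdj (EndAV.End.of π))) :
    ∃ d : ℕ, Module.finrank ℚ (EndAV.End0 A) = Module.finrank ℚ (EndAV.QAdj (EndAV.End.of π)) * d ^ 2 ∧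
      d * Module.finrank ℚ (EndAV.QAdj (EndAV.End.of π)) = 2 * g ∧
      P.map (Int.castRingHom ℚ) = (minpoly ℚ (EndAV.toEnd0 (EndAV.End.of π))) ^ d := by
  haveI : IsAlgClosed Ω := IsAlgClosure.isAlgClosed k
  obtain ⟨hm, hd, hv⟩ := props hl hP hg
  have hPd : P.natDegree = 2 * g := by rw [← hd, hm.natDegree_map]
  haveI : IsDomain (EndAV.QAdj (EndAV.End.of π)) := hK.isDomain
  have hint := isIntegral_frob hl hP
  let x : EndAV.QAdj (EndAV.End.of π) := ⟨_, Algebra.self_mem_adjoin_singleton ℚ (EndAV.toEnd0 (EndAV.End.of π))⟩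
  have hx : minpoly ℚ (EndAV.toEnd0 (EndAV.End.of π)) = minpoly ℚ x :=
    minpoly.algHom_eq (EndAV.QAdj (EndAV.End.of π)).val Subtype.val_injective x
  have hxi : IsIntegral ℚ x :=
    (isIntegral_algHom_iff (EndAV.QAdj (EndAV.End.of π)).val Subtype.val_injective).1 hint
  have hirr : Irreducible (minpoly ℚ (EndAV.toEnd0 (EndAV.End.of π))) := hx ▸ minpoly.irreducible hxi
  have hmn := minpoly.monic hint
  obtain ⟨e, h⟩ := exists_eq_pow (hm.map (Int.castRingHom ℚ)) hmn hirr fun p hpi hp =>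
    AVEnd0.dvd_minpoly hg (EndAV.End.of π) hm hPd hv hpi hp
  refine ⟨e, ?_, ?_, h⟩
  · conv_lhs => rw [finrank_end0_eq hl hP hC hA, h, rsum_pow hmn hirr]
    rw [EndAV.QAdj, finrank_adjoin_singleton _ hint]
  · rw [EndAV.QAdj, finrank_adjoin_singleton _ hint, ← hd]
    conv_rhs => rw [h, natDegree_pow]

end Groth.Agent.AVTate
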