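import Groth.Agent.AVTate.ConeInt
import Mathlib.FieldTheory.Minpoly.IsIntegrallyClosed
import Mathlib.RingTheory.Polynomial.UniqueFactorization
import Mathlib.RingTheory.Polynomial.RationalRoot
import Mathlib.Algebra.Order.Antidiag.FinsuppEquiv
import Mathlib.LinearAlgebra.Dimension.Constructions

/-!
# A variety of bounded degree is cut out by forms of bounded degree

If the degree-`n` part of the coordinate ring of a `g`-dimensional projective variety is smaller than
`∑_{i ≤ D} C(n - i + g, g)`, then a point off the variety is detected by a form of degree `≤ D`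
(the equation of the projection from a general linear subspace through the point).
-/

set_option autoImplicit false

universe u

namespace Groth.Agent.AVTate

open MvPolynomial

theorem finrank_homogeneousSubmodule (K : Type u) [Field K] (m n : ℕ) :
    Module.finrank K (homogeneousSubmodule (Fin m) K n) = (m + n - 1).choose n := by
  classical
  let S : Set (Fin m →₀ ℕ) := {e | e.degree = n}
  let e : {a // a ∈ (Finset.univ : Finset (Fin m)).finsuppAntidiag n} ≃ S :=
    Equiv.subtypeEquivRight fun a => by
      simp [S, Finset.mem_finsuppAntidiag, Finsupp.degree_eq_sum]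
  haveI : Fintype S := Fintype.ofEquiv _ e
  let φ : homogeneousSubmodule (Fin m) K n ≃ₗ[K] (S →₀ K) :=
    (LinearEquiv.ofEq _ _ (homogeneousSubmodule_eq_finsupp_supported (σ := Fin m) (R := K) n)).trans
      (AddMonoidAlgebra.supportedEquivFinsupp S)
  rw [φ.finrank_eq, Module.finrank_finsupp_self, ← Fintype.card_congr e, Fintype.card_coe,
    Finset.card_finsuppAntidiag_nat_eq_choose, Finset.card_univ, Fintype.card_fin]

/-- The degree-`n` part of the coordinate ring, inside the affine coordinate ring. -/
noncomputable def degPart {K : Type u} [CommRing K] {A : Type u} [CommRing A] [Algebra K A] {σ : Type*}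
    (a : σ → A) (n : ℕ) : Submodule K A :=
  (homogeneousSubmodule σ K n).map (MvPolynomial.aeval (R := K) a).toLinearMap

variable {K : Type u} [Field K] [Infinite K] {A : Type u} [CommRing A] [IsDomain A] [Algebra K A]
  {N g D n : ℕ}

private theorem one_le_card_of_trdeg (a : Fin (N + 1) → A) (hgen : Algebra.adjoin K (Set.range a) = ⊤)
    (i0 : Fin (N + 1)) (ha0 : a i0 = 1) (hg : (g : Cardinal.{u}) ≤ Algebra.trdeg K A) {m : ℕ} (b : Fin m → Polynomial A)
    (hb : AlgebraicIndependent K b) (hI : ∀ j, IsIntegral (Algebra.adjoin K (Set.range b)) (sc (a j))) :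
    g + 1 ≤ m := by
  let C := Algebra.adjoin K (Set.range b)
  let Al := Subalgebra.algebraicClosure C (Polynomial A)
  have hX : (Polynomial.X : Polynomial A) ∈ Al := by
    have := (hI i0).isAlgebraic
    rwa [sc, ha0, map_one, one_mul] at this
  have hC : ∀ r : A, Polynomial.C r ∈ Al := by
    have : (⊤ : Subalgebra K A) ≤ (Al.restrictScalars K).comap (IsScalarTower.toAlgHom K A (Polynomial A)) := by
      rw [← hgen]
      refine Algebra.adjoin_le ?_
      rintro _ ⟨j, rfl⟩
      show IsAlgebraic C (Polynomial.C (a j))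
      refine IsAlgebraic.of_mul (mem_nonZeroDivisors_of_ne_zero Polynomial.X_ne_zero) hX ?_
      rw [mul_comm]
      exact (hI j).isAlgebraic
    exact fun r => this trivial
  haveI : Algebra.IsAlgebraic C (Polynomial A) := by
    refine ⟨fun q => ?_⟩
    show q ∈ Al
    induction q using Polynomial.induction_on' with
    | add p q hp hq => exact Al.add_mem hp hq
    | monomial k r =>
      rw [← Polynomial.C_mul_X_pow_eq_monomial]
      exact Al.mul_mem (hC r) (Al.pow_mem hX k)
  have h1 : Algebra.trdeg K (Polynomial A) ≤ (m : Cardinal.{u}) := by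
    refine (Algebra.IsAlgebraic.trdeg_le_cardinalMk K (Set.range b)).trans ?_
    have := Cardinal.mk_range_le_lift (f := b)
    simpa using this
  haveI : FaithfulSMul K A := (faithfulSMul_iff_algebraMap_injective K A).2 (algebraMap K A).injective
  have h2 := trdeg_add_eq K A (A := Polynomial A)
  rw [Polynomial.trdeg_of_isDomain] at h2
  have h3 : ((g + 1 : ℕ) : Cardinal.{u}) ≤ (m : Cardinal.{u}) := by
    refine le_trans ?_ (h2.le.trans h1)
    push_cast
    exact add_le_add hg le_rfl
  exact_mod_cast h3

/-- **The projection trick.** -/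
theorem exists_form_of_finrank_lt (a : Fin (N + 1) → A) (hgen : Algebra.adjoin K (Set.range a) = ⊤)
    (i0 : Fin (N + 1)) (ha0 : a i0 = 1) (hg : (g : Cardinal.{u}) ≤ Algebra.trdeg K A) (hn : D ≤ n)
    (hfin : FiniteDimensional K (degPart (K := K) a n))
    (hH : Module.finrank K (degPart (K := K) a n) < ∑ i ∈ Finset.range (D + 1), (n - i + g).choose g)
    (c : Fin (N + 1) → K)
    (hc : ∃ (e : ℕ) (f : MvPolynomial (Fin (N + 1)) K), f.IsHomogeneous e ∧ MvPolynomial.aeval a f = 0 ∧
      MvPolynomial.eval c f ≠ 0) :
    ∃ (e : ℕ) (f : MvPolynomial (Fin (N + 1)) K), e ≤ D ∧ f.IsHomogeneous e ∧ MvPolynomial.aeval a f = 0 ∧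
      MvPolynomial.eval c f ≠ 0 := by
  classical
  obtain ⟨e₀, f₀, hf₀, hfa, hfc⟩ := hc
  by_cases hc0 : c = 0
  · refine ⟨e₀, f₀, ?_, hf₀, hfa, hfc⟩
    by_contra hne
    apply hfc
    rw [hc0, MvPolynomial.eval_zero, constantCoeff_eq]
    exact hf₀.coeff_eq_zero (by simp; omega)
  obtain ⟨j₀, hj₀⟩ := Function.ne_iff.1 hc0
  set v : MvPolynomial (Fin (N + 1)) K := MvPolynomial.C (c j₀)⁻¹ * X j₀ with hv
  have hv1 : v.IsHomogeneous 1 := (isHomogeneous_X K j₀).C_mul _
  have hvc : MvPolynomial.eval c v = 1 := by simp [hv, inv_mul_cancel₀ hj₀]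
  set w : A := MvPolynomial.aeval a v with hw
  let u : Fin (N + 1) → MvPolynomial (Fin (N + 1)) K := fun j => X j - MvPolynomial.C (c j) * v
  have hu : ∀ j, (u j).IsHomogeneous 1 ∧ MvPolynomial.eval c (u j) = 0 := fun j =>
    ⟨(isHomogeneous_X K j).sub (hv1.C_mul _), by simp [u, hvc]⟩
  -- everything is integral over the forms vanishing at `c`
  have hint : ∀ j, IsIntegral (Algebra.adjoin K (Set.range fun l => sc (MvPolynomial.aeval a (u l)))) (sc (a j)) ∧
      IsIntegral (Algebra.adjoin K (Set.range fun l => sc (MvPolynomial.aeval a (u l)))) (sc w) := by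
    have e : (fun l => sc (a l) - c l • sc w) = fun l => sc (MvPolynomial.aeval a (u l)) := by
      funext l
      simp only [u, map_sub, map_mul (MvPolynomial.aeval (R := K) a), MvPolynomial.aeval_X, MvPolynomial.aeval_C,
        ← Algebra.smul_def, sc_sub, sc_smul, hw]
    have h := isIntegral_of_relation (fun l => sc (a l)) c (sc w) hf₀
      (by rw [aeval_sc_of_isHomogeneous a hf₀, hfa, map_zero, zero_mul]) hfc
    rw [e] at h
    intro j
    refine ⟨?_, h⟩
    rw [show sc (a j) = sc (MvPolynomial.aeval a (u j)) + c j • sc w by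
      rw [← congrFun e j, sub_add_cancel]]
    exact (isIntegral_algebraMap (R := Algebra.adjoin K (Set.range fun l => sc (MvPolynomial.aeval a (u l))))
      (x := ⟨_, Algebra.subset_adjoin ⟨j, rfl⟩⟩)).add (IsIntegral.smul (c j) h)
  obtain ⟨m, L, hL, hLI, hind⟩ := exists_independent a c (N + 1) u hu fun j => (hint j).1
  have hgm : g + 1 ≤ m := one_le_card_of_trdeg a hgen i0 ha0 hg _ hind hLI
  set b : Fin m → A := fun l => MvPolynomial.aeval a (L l) with hb
  -- the base ring `K[T]`
  letI alg : Algebra (MvPolynomial (Fin m) K) (Polynomial A) :=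
    (MvPolynomial.aeval (fun l => sc (b l))).toRingHom.toAlgebra
  haveI : FaithfulSMul (MvPolynomial (Fin m) K) (Polynomial A) :=
    (faithfulSMul_iff_algebraMap_injective _ _).2 (algebraicIndependent_iff_injective_aeval.1 hind)
  haveI : Module.IsTorsionFree (MvPolynomial (Fin m) K) (Polynomial A) := inferInstance
  have hzint : IsIntegral (MvPolynomial (Fin m) K) (sc w) := by
    have h : IsIntegral (Algebra.adjoin K (Set.range fun l => sc (b l))) (sc w) :=
      isIntegral_adjoin_trans (t := Set.range fun j => sc (a j)) (by rintro _ ⟨j, rfl⟩; exact hLI j)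
        (isIntegral_algebraMap (R := Algebra.adjoin K (Set.range fun j => sc (a j))) (x := ⟨sc w, ?_⟩))
    · obtain ⟨P, hP, hP0⟩ := h
      refine ⟨P.map hind.aevalEquiv.symm.toRingEquiv.toRingHom, hP.map _, ?_⟩
      rw [Polynomial.eval₂_map]
      have hcomp : (algebraMap (MvPolynomial (Fin m) K) (Polynomial A)).comp
          hind.aevalEquiv.symm.toRingEquiv.toRingHom =
          algebraMap (Algebra.adjoin K (Set.range fun l => sc (b l))) (Polynomial A) :=
        RingHom.ext fun x => hind.aeval_repr x
      exact (congrArg (fun f => Polynomial.eval₂ f (sc w) P) hcomp).trans hP0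
    · rw [hw, hv, map_mul, MvPolynomial.aeval_C, MvPolynomial.aeval_X, ← Algebra.smul_def, sc_smul]
      exact Subalgebra.smul_mem _ (Algebra.subset_adjoin (Set.mem_range_self j₀)) _
  set P := minpoly (MvPolynomial (Fin m) K) (sc w) with hP
  set e := P.natDegree with he
  have hcoef : ∀ (p : MvPolynomial (Fin m) K) (i d : ℕ), i ≤ d →
      (algebraMap (MvPolynomial (Fin m) K) (Polynomial A) p * sc w ^ i).coeff d =
        MvPolynomial.aeval b (homogeneousComponent (d - i) p) * w ^ i := by
    intro p i d hid
    rw [show sc w ^ i = Polynomial.C (w ^ i) * Polynomial.X ^ i by simp [sc, mul_pow], ← mul_assoc,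
      Polynomial.coeff_mul_X_pow', if_pos hid, Polynomial.coeff_mul_C]
    show (MvPolynomial.aeval (fun l => sc (b l)) p).coeff (d - i) * _ = _
    rw [coeff_aeval_sc]
  -- the forms
  refine ⟨e, ∑ i ∈ Finset.range (e + 1),
    MvPolynomial.aeval L (homogeneousComponent (e - i) (P.coeff i)) * v ^ i, ?_, ?_, ?_, ?_⟩
  · -- `e ≤ D` by counting
    by_contra hlt
    push Not at hlt
    let Φ : (Π i : Fin (D + 1), homogeneousSubmodule (Fin m) K (n - i)) →ₗ[K] A :=
      ∑ i : Fin (D + 1), (LinearMap.mulRight K (w ^ (i : ℕ))).comp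
        ((MvPolynomial.aeval b).toLinearMap.comp ((Submodule.subtype _).comp (LinearMap.proj i)))
    have hΦ : ∀ h, Φ h = ∑ i : Fin (D + 1), MvPolynomial.aeval b (h i).1 * w ^ (i : ℕ) := fun h => by
      simp [Φ]
    have hmem : ∀ h, Φ h ∈ degPart (K := K) a n := by
      intro h
      rw [hΦ]
      refine Submodule.sum_mem _ fun i _ => ⟨MvPolynomial.aeval L (h i).1 * v ^ (i : ℕ), ?_, ?_⟩
      · have h1 := ((mem_homogeneousSubmodule _ _).1 (h i).2).aeval L (fun l => (hL l).1)
        have h2 := h1.mul (hv1.pow (i : ℕ))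
        rw [show 1 * (n - (i : ℕ)) + 1 * (i : ℕ) = n by have := i.isLt; omega] at h2
        exact h2
      · show MvPolynomial.aeval a (MvPolynomial.aeval L (h i).1 * v ^ (i : ℕ)) = _
        rw [map_mul, map_pow, MvPolynomial.comp_aeval_apply]
    have hinj : Function.Injective (Φ.codRestrict _ hmem) := by
      rw [← LinearMap.ker_eq_bot, LinearMap.ker_codRestrict, LinearMap.ker_eq_bot']
      intro h h0
      set q : Polynomial (MvPolynomial (Fin m) K) :=
        ∑ i : Fin (D + 1), Polynomial.C (h i).1 * Polynomial.X ^ (i : ℕ) with hq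
      have hq0 : Polynomial.aeval (sc w) q = 0 := by
        have e : Polynomial.aeval (sc w) q = Polynomial.C (Φ h) * Polynomial.X ^ n := by
          rw [hq, map_sum, hΦ, map_sum, Finset.sum_mul]
          refine Finset.sum_congr rfl fun i _ => ?_
          rw [map_mul, map_pow, Polynomial.aeval_C, Polynomial.aeval_X]
          show MvPolynomial.aeval (fun l => sc (b l)) (h i).1 * _ = _
          have e1 : (Polynomial.X : Polynomial A) ^ n = Polynomial.X ^ (n - (i : ℕ)) * Polynomial.X ^ (i : ℕ) := by
            rw [← pow_add]; congr 1; have := i.isLt; omega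
          rw [aeval_sc_of_isHomogeneous b ((mem_homogeneousSubmodule _ _).1 (h i).2), e1, map_mul, map_pow,
            show sc w ^ (i : ℕ) = Polynomial.C w ^ (i : ℕ) * Polynomial.X ^ (i : ℕ) by simp [sc, mul_pow]]
          ring
        rw [e, h0, map_zero, zero_mul]
      have hqz : q = 0 := by
        by_contra hne
        have h1 := Polynomial.natDegree_le_natDegree
          (minpoly.IsIntegrallyClosed.degree_le_of_ne_zero hne hq0)
        have h2 : q.natDegree ≤ D := Polynomial.natDegree_sum_le_of_forall_le _ _ fun i _ =>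
          (Polynomial.natDegree_C_mul_X_pow_le _ _).trans (Nat.le_of_lt_succ i.isLt)
        change e ≤ q.natDegree at h1
        omega
      funext i
      have := congrArg (fun q => q.coeff (i : ℕ)) hqz
      simp only [hq, Polynomial.finsetSum_coeff, Polynomial.coeff_C_mul_X_pow, Polynomial.coeff_zero] at this
      rw [Finset.sum_eq_single i (fun j _ hj => if_neg fun h => hj (Fin.ext h.symm))
        (fun h => absurd (Finset.mem_univ i) h), if_pos rfl] at this
      exact Subtype.ext this
    haveI : ∀ i : Fin (D + 1), FiniteDimensional K (homogeneousSubmodule (Fin m) K (n - i)) := fun i =>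
      Module.Finite.iff_fg.2 (homogeneousSubmodule_fg _ _ _)
    have h1 := LinearMap.finrank_le_finrank_of_injective hinj
    rw [Module.finrank_pi_fintype] at h1
    simp only [finrank_homogeneousSubmodule] at h1
    refine absurd (hH.trans_le ?_) (not_lt.2 h1)
    rw [← Fin.sum_univ_eq_sum_range]
    refine Finset.sum_le_sum fun i _ => ?_
    rw [← Nat.choose_symm_add]
    exact Nat.choose_le_choose _ (by omega)
  · refine MvPolynomial.IsHomogeneous.sum _ _ _ fun i hi => ?_
    have h2 := ((homogeneousComponent_isHomogeneous (e - i) (P.coeff i)).aeval L fun l => (hL l).1).mul (hv1.pow i)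
    rw [show 1 * (e - i) + 1 * i = e by simp at hi; omega] at h2
    exact h2
  · have h0 : Polynomial.aeval (sc w) P = 0 := minpoly.aeval _ _
    rw [Polynomial.aeval_eq_sum_range] at h0
    have := congrArg (fun q => Polynomial.coeff q e) h0
    simp only [Polynomial.finsetSum_coeff, Polynomial.coeff_zero, Algebra.smul_def] at this
    rw [map_sum, ← this]
    refine Finset.sum_congr rfl fun i hi => ?_
    rw [hcoef _ _ _ (Nat.le_of_lt_succ (Finset.mem_range.1 hi)), map_mul, map_pow, MvPolynomial.comp_aeval_apply]
  · rw [map_sum, Finset.sum_eq_single e]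
    · rw [Nat.sub_self, he, (minpoly.monic hzint).coeff_natDegree, map_mul, map_pow, hvc, one_pow, mul_one,
        homogeneousComponent_zero]
      simp
    · intro i hi hie
      have hlt : 0 < e - i := by simp at hi; omega
      rw [map_mul]
      refine mul_eq_zero_of_left ?_ _
      show (MvPolynomial.aeval c : MvPolynomial (Fin (N + 1)) K →ₐ[K] K) (MvPolynomial.aeval L _) = 0
      rw [MvPolynomial.comp_aeval_apply,
        show (fun l => (MvPolynomial.aeval c : MvPolynomial (Fin (N + 1)) K →ₐ[K] K) (L l)) = 0 from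
          funext fun l => (hL l).2,
        MvPolynomial.aeval_zero, constantCoeff_eq, (homogeneousComponent_isHomogeneous _ _).coeff_eq_zero
          (by simp; omega), map_zero]
    · intro h
      exact absurd (Finset.self_mem_range_succ e) h

end Groth.Agent.AVTate
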