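import Groth.Agent.AVTate.Cone
import Mathlib.RingTheory.TensorProduct.MvPolynomial
import Mathlib.RingTheory.Flat.Basic
import Mathlib.RingTheory.Ideal.Quotient.Operations
import Mathlib.FieldTheory.IsAlgClosed.AlgebraicClosure
import Mathlib.RingTheory.Localization.FractionRing

/-!
# Bounded equations over an arbitrary ground field
-/

set_option autoImplicit false
set_option linter.style.haveILetI false

universe u

open scoped TensorProduct

namespace Groth.Agent.AVTate

open MvPolynomial

variable {k : Type u} [Field k] {A : Type u} [CommRing A] [Algebra k A] {N g D n : ℕ}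

variable (k) in
/-- The base change of a coordinate family. -/
noncomputable abbrev bcA (K : Type u) [Field K] [Algebra k K] {σ : Type*} (a : σ → A) (j : σ) : K ⊗[k] A :=
  1 ⊗ₜ[k] a j

theorem aeval_bcA_monomial (K : Type u) [Field K] [Algebra k K] {σ : Type*} (a : σ → A) (s : σ →₀ ℕ) (c : K) :
    MvPolynomial.aeval (bcA k K a) (monomial s c) = c ⊗ₜ[k] MvPolynomial.aeval a (monomial s (1 : k)) := by
  rw [MvPolynomial.aeval_monomial, MvPolynomial.aeval_monomial, map_one, one_mul,
    Algebra.TensorProduct.algebraMap_apply, Algebra.algebraMap_self, RingHom.id_apply]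
  have e : (s.prod fun i m => bcA k K a i ^ m) = Algebra.TensorProduct.includeRight (R := k) (A := K)
      (s.prod fun i m => a i ^ m) := by
    simp [map_finsuppProd]
  rw [e, Algebra.TensorProduct.includeRight_apply, Algebra.TensorProduct.tmul_mul_tmul, mul_one, one_mul]

theorem algebraicIndependent_bcA (K : Type u) [Field K] [Algebra k K] {σ : Type*} (x : σ → A)
    (hx : AlgebraicIndependent k x) : AlgebraicIndependent K (bcA k K x) := by
  rw [algebraicIndependent_iff_injective_aeval] at hx ⊢
  let E : MvPolynomial σ K ≃ₐ[K] K ⊗[k] MvPolynomial σ k := (MvPolynomial.algebraTensorAlgEquiv k K).symm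
  let T : MvPolynomial σ K →ₐ[K] K ⊗[k] A :=
    (Algebra.TensorProduct.map (AlgHom.id K K) (MvPolynomial.aeval (R := k) x)).comp E.toAlgHom
  have e : MvPolynomial.aeval (bcA k K x) = T := MvPolynomial.algHom_ext fun i => by
    simp [T, E]
  rw [e]
  show Function.Injective (⇑(Algebra.TensorProduct.map (AlgHom.id K K) (MvPolynomial.aeval (R := k) x)) ∘ ⇑E)
  refine Function.Injective.comp ?_ E.injective
  exact Module.Flat.lTensor_preserves_injective_linearMap (M := K) (MvPolynomial.aeval (R := k) x).toLinearMap hx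

theorem exists_algebraicIndependent_fin [IsDomain A] [FaithfulSMul k A] (hg : (g : Cardinal.{u}) ≤ Algebra.trdeg k A) :
    ∃ x : Fin g → A, AlgebraicIndependent k x := by
  obtain ⟨s, hs⟩ := exists_isTranscendenceBasis k A
  rw [← hs.cardinalMk_eq_trdeg] at hg
  have : Nonempty (ULift.{u} (Fin g) ↪ s) := Cardinal.lift_mk_le'.1 (by simpa using hg)
  obtain ⟨f⟩ := this
  exact ⟨fun i => (f (ULift.up i)).1, hs.1.comp (fun i => f (ULift.up i))
    (f.injective.comp ULift.up_injective)⟩

/-- A point off the variety is detected by a form of degree `≤ D` over the ground field. -/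
theorem exists_form_notMem [IsDomain A] (a : Fin (N + 1) → A) (hgen : Algebra.adjoin k (Set.range a) = ⊤)
    (i0 : Fin (N + 1)) (ha0 : a i0 = 1) (hg : (g : Cardinal.{u}) ≤ Algebra.trdeg k A) (hn : D ≤ n)
    (hdom : ∀ (K : Type u) [Field K] [Algebra k K], IsDomain (K ⊗[k] A))
    (hH : Module.finrank k (degPart (K := k) a n) < ∑ i ∈ Finset.range (D + 1), (n - i + g).choose g)
    (y : Ideal (MvPolynomial (Fin (N + 1)) k)) [y.IsPrime]
    (hy : ∃ (e : ℕ) (f : MvPolynomial (Fin (N + 1)) k), f.IsHomogeneous e ∧ MvPolynomial.aeval a f = 0 ∧ f ∉ y) :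
    ∃ (e : ℕ) (f : MvPolynomial (Fin (N + 1)) k), e ≤ D ∧ f.IsHomogeneous e ∧ MvPolynomial.aeval a f = 0 ∧ f ∉ y := by
  classical
  let K := AlgebraicClosure (FractionRing (MvPolynomial (Fin (N + 1)) k ⧸ y))
  haveI := hdom K
  let π : MvPolynomial (Fin (N + 1)) k →ₐ[k] K :=
    (IsScalarTower.toAlgHom k (MvPolynomial (Fin (N + 1)) k ⧸ y) K).comp (Ideal.Quotient.mkₐ k y)
  let c : Fin (N + 1) → K := fun j => π (X j)
  have hπ : ∀ f, f ∈ y ↔ MvPolynomial.aeval c f = 0 := by
    intro f
    have e : MvPolynomial.aeval c = π := MvPolynomial.algHom_ext fun i => by simp [c]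
    rw [e, ← Ideal.Quotient.eq_zero_iff_mem]
    refine (map_eq_zero_iff (algebraMap (MvPolynomial (Fin (N + 1)) k ⧸ y) K) ?_).symm
    exact (algebraMap (FractionRing (MvPolynomial (Fin (N + 1)) k ⧸ y)) K).injective.comp
      (IsFractionRing.injective (MvPolynomial (Fin (N + 1)) k ⧸ y)
        (FractionRing (MvPolynomial (Fin (N + 1)) k ⧸ y)))
  let a' : Fin (N + 1) → K ⊗[k] A := bcA k K a
  have hgen' : Algebra.adjoin K (Set.range a') = ⊤ := by
    refine top_le_iff.1 fun z _ => ?_
    induction z using TensorProduct.induction_on with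
    | zero => exact zero_mem _
    | tmul r b =>
      have hb : Algebra.adjoin k (Set.range a) ≤
          ((Algebra.adjoin K (Set.range a')).restrictScalars k).comap
            (Algebra.TensorProduct.includeRight : A →ₐ[k] K ⊗[k] A) :=
        Algebra.adjoin_le (by rintro _ ⟨j, rfl⟩; exact Algebra.subset_adjoin (Set.mem_range_self j))
      rw [hgen] at hb
      have h2 : (1 : K) ⊗ₜ[k] b ∈ Algebra.adjoin K (Set.range a') := hb (trivial : b ∈ (⊤ : Subalgebra k A))
      have h3 := Subalgebra.smul_mem _ h2 r
      rwa [TensorProduct.smul_tmul', smul_eq_mul, mul_one] at h3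
    | add p q hp hq => exact add_mem (hp trivial) (hq trivial)
  have hg' : (g : Cardinal.{u}) ≤ Algebra.trdeg K (K ⊗[k] A) := by
    haveI : FaithfulSMul k A := (faithfulSMul_iff_algebraMap_injective k A).2 (algebraMap k A).injective
    obtain ⟨x, hx⟩ := exists_algebraicIndependent_fin hg
    simpa using (algebraicIndependent_bcA K x hx).lift_cardinalMk_le_trdeg
  -- the degree part over `K` is spanned by the one over `k`
  haveI hfin : FiniteDimensional k (degPart (K := k) a n) :=
    Module.Finite.iff_fg.2 ((homogeneousSubmodule_fg _ _ n).map _)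
  let bs := Module.finBasis k (degPart (K := k) a n)
  have hle : degPart (K := K) a' n ≤ Submodule.span K (Set.range fun i => (1 : K) ⊗ₜ[k] (bs i : A)) := by
    rintro _ ⟨f, hf, rfl⟩
    show MvPolynomial.aeval a' f ∈ _
    rw [← f.support_sum_monomial_coeff, map_sum]
    refine Submodule.sum_mem _ fun s hs => ?_
    have hsd : s.degree = n := by
      by_contra hne
      exact mem_support_iff.1 hs (((mem_homogeneousSubmodule _ _).1 hf).coeff_eq_zero hne)
    have hm : MvPolynomial.aeval a (monomial s (1 : k)) ∈ degPart (K := k) a n :=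
      ⟨_, (mem_homogeneousSubmodule _ _).2 (isHomogeneous_monomial _ hsd), rfl⟩
    rw [aeval_bcA_monomial]
    have := congrArg Subtype.val (bs.sum_repr ⟨_, hm⟩)
    simp only [AddSubmonoidClass.coe_finsetSum, SetLike.val_smul] at this
    rw [← this, TensorProduct.tmul_sum]
    refine Submodule.sum_mem _ fun i _ => ?_
    rw [TensorProduct.tmul_smul,
      show f.coeff s ⊗ₜ[k] (bs i : A) = f.coeff s • ((1 : K) ⊗ₜ[k] (bs i : A)) by
        rw [TensorProduct.smul_tmul', smul_eq_mul, mul_one]]
    exact Submodule.smul_of_tower_mem _ _ (Submodule.smul_mem _ _ (Submodule.subset_span (Set.mem_range_self i)))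
  haveI : FiniteDimensional K (Submodule.span K (Set.range fun i => (1 : K) ⊗ₜ[k] (bs i : A))) :=
    FiniteDimensional.span_of_finite K (Set.finite_range _)
  haveI : FiniteDimensional K (degPart (K := K) a' n) := Submodule.finiteDimensional_of_le hle
  have hH' : Module.finrank K (degPart (K := K) a' n) < ∑ i ∈ Finset.range (D + 1), (n - i + g).choose g := by
    refine lt_of_le_of_lt ((Submodule.finrank_mono hle).trans ((finrank_range_le_card _).trans ?_)) hH
    rw [Fintype.card_fin]
  obtain ⟨e₀, f₀, hf₀, hfa₀, hfy₀⟩ := hy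
  obtain ⟨e, F, he, hFh, hFa, hFc⟩ := exists_form_of_finrank_lt (K := K) a' hgen' i0
    (by simp [a', bcA, ha0, Algebra.TensorProduct.one_def]) hg' hn ‹_› hH' c
    ⟨e₀, MvPolynomial.map (algebraMap k K) f₀, hf₀.map _, by
      rw [MvPolynomial.aeval_map_algebraMap,
        show a' = fun j => (Algebra.TensorProduct.includeRight : A →ₐ[k] K ⊗[k] A) (a j) from rfl,
        ← MvPolynomial.comp_aeval_apply, hfa₀, map_zero], by
      rw [MvPolynomial.eval_map, ← MvPolynomial.aeval_def]
      exact fun h => hfy₀ ((hπ f₀).2 h)⟩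
  -- coordinates of `F` over a basis of `K`
  let bK := Module.Free.chooseBasis k K
  let P : Module.Free.ChooseBasisIndex k K → MvPolynomial (Fin (N + 1)) k := fun i =>
    ∑ s ∈ F.support, monomial s (bK.repr (F.coeff s) i)
  have hPa : ∀ i, MvPolynomial.aeval a (P i) = 0 := by
    intro i
    let φ : K ⊗[k] A →ₗ[k] A :=
      (TensorProduct.lid k A).toLinearMap ∘ₗ (bK.coord i).rTensor A
    have h1 := congrArg φ hFa
    rw [← F.support_sum_monomial_coeff, map_sum, map_sum, map_zero] at h1
    rw [map_sum, ← h1]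
    refine Finset.sum_congr rfl fun s _ => ?_
    rw [aeval_bcA_monomial]
    simp only [φ, LinearMap.comp_apply, LinearMap.rTensor_tmul, LinearEquiv.coe_coe, TensorProduct.lid_tmul,
      Module.Basis.coord_apply]
    rw [← map_smul (MvPolynomial.aeval (R := k) a), smul_monomial, smul_eq_mul, mul_one]
  by_cases hP : ∀ i, P i ∈ y
  · exfalso
    apply hFc
    let T : Finset (Module.Free.ChooseBasisIndex k K) := F.support.biUnion fun s => (bK.repr (F.coeff s)).support
    have hF : MvPolynomial.eval c F = ∑ i ∈ T, bK i * MvPolynomial.aeval c (P i) := by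
      conv_lhs => rw [← F.support_sum_monomial_coeff]
      simp only [P, map_sum, Finset.mul_sum, MvPolynomial.eval_monomial, MvPolynomial.aeval_monomial]
      rw [Finset.sum_comm]
      refine Finset.sum_congr rfl fun s hs => ?_
      simp only [← mul_assoc]
      rw [← Finset.sum_mul]
      congr 1
      conv_lhs => rw [← bK.linearCombination_repr (F.coeff s), Finsupp.linearCombination_apply]
      rw [Finsupp.sum_of_support_subset _ (Finset.subset_biUnion_of_mem
        (fun s => (bK.repr (F.coeff s)).support) hs) (fun i r => r • bK i) fun i _ => zero_smul k (bK i)]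
      refine Finset.sum_congr rfl fun i _ => ?_
      rw [Algebra.smul_def, mul_comm]
    rw [hF]
    exact Finset.sum_eq_zero fun i _ => by rw [(hπ _).1 (hP i), mul_zero]
  · push Not at hP
    obtain ⟨i, hi⟩ := hP
    refine ⟨e, P i, he, MvPolynomial.IsHomogeneous.sum _ _ _ fun s hs => isHomogeneous_monomial _ ?_, hPa i, hi⟩
    by_contra hne
    exact mem_support_iff.1 hs (hFh.coeff_eq_zero hne)

end Groth.Agent.AVTate
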