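import Groth.Agent.AVTate.ConeGeom
import Groth.Agent.Lib.PnChart
import Groth.Agent.VarDim.Top

/-!
# The chart rings of a geometrically integral subvariety: dimension and base change
-/

set_option autoImplicit false
set_option linter.style.haveILetI false
set_option linter.unusedSectionVars false
set_option backward.isDefEq.respectTransparency false
set_option backward.isDefEq.respectTransparency.types false

universe u

open CategoryTheory CategoryTheory.Limits AlgebraicGeometry TopologicalSpace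
open scoped TensorProduct

noncomputable section

namespace Groth.Agent.AVTate

variable {k : Type u} [Field k] {N : ℕ} {B : Scheme.{u}}

theorem isAffineOpen_chart (r : B ⟶ CohB1.ProjSpace N k) [IsAffineHom r] (i : Fin (N + 1)) :
    IsAffineOpen (r ⁻¹ᵁ Dp i) :=
  (Proj.isAffineOpen_basicOpen (CohB1.polyGrading N k) _ (ProjPt.X_mem i) one_pos).preimage r

theorem chartC_eq (r : B ⟶ CohB1.ProjSpace N k) (i : Fin (N + 1)) :
    CommRingCat.ofHom (algebraMap k Γ(B, r ⁻¹ᵁ Dp i)) =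
      (Scheme.ΓSpecIso (CommRingCat.of k)).inv ≫
        (r ≫ CohB1.ProjSpace.toSpec N k).appLE ⊤ (r ⁻¹ᵁ Dp i) (by simp) := by
  ext c
  show (r.app (Dp i)).hom ((Proj.awayToSection _ _).hom (ProjPt.cst i c)) = _
  rw [← PnChart.str_eq, CommRingCat.comp_apply]
  refine ConcreteCategory.congr_hom (?_ : (CohB1.ProjSpace.toSpec N k).appLE ⊤ (Dp i) (by simp) ≫ r.app (Dp i) =
    (r ≫ CohB1.ProjSpace.toSpec N k).appLE ⊤ (r ⁻¹ᵁ Dp i) (by simp)) ((Scheme.ΓSpecIso (CommRingCat.of k)).inv c)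
  rw [Scheme.Hom.app_eq_appLE, Scheme.Hom.appLE_comp_appLE]

theorem fromSpec_chart (r : B ⟶ CohB1.ProjSpace N k) [IsAffineHom r] (i : Fin (N + 1)) :
    (isAffineOpen_chart r i).fromSpec ≫ r ≫ CohB1.ProjSpace.toSpec N k =
      Spec.map (CommRingCat.ofHom (algebraMap k Γ(B, r ⁻¹ᵁ Dp i))) := by
  rw [chartC_eq r i, Spec.map_comp,
    ← IsAffineOpen.SpecMap_appLE_fromSpec _ (isAffineOpen_top _) (isAffineOpen_chart r i) (by simp),
    IsAffineOpen.fromSpec_top, Scheme.isoSpec_Spec_inv]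

theorem isDomain_chart_tensor (r : B ⟶ CohB1.ProjSpace N k) [IsAffineHom r] (i : Fin (N + 1))
    [GeometricallyIntegral (r ≫ CohB1.ProjSpace.toSpec N k)] (hne : Nonempty (r ⁻¹ᵁ Dp i))
    (K : Type u) [Field K] [Algebra k K] : IsDomain (K ⊗[k] Γ(B, r ⁻¹ᵁ Dp i)) := by
  haveI := hne
  haveI : Nontrivial (K ⊗[k] Γ(B, r ⁻¹ᵁ Dp i)) := by
    haveI : Nontrivial Γ(B, r ⁻¹ᵁ Dp i) := inferInstance
    infer_instance
  haveI : AlgebraicGeometry.IsIntegral (pullback (r ≫ CohB1.ProjSpace.toSpec N k)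
      (Spec.map (CommRingCat.ofHom (algebraMap k K)))) :=
    GeometricallyIntegral.isIntegral_of_subsingleton (pullback.snd _ _)
  let j : pullback (Spec.map (CommRingCat.ofHom (algebraMap k Γ(B, r ⁻¹ᵁ Dp i))))
      (Spec.map (CommRingCat.ofHom (algebraMap k K))) ⟶
        pullback (r ≫ CohB1.ProjSpace.toSpec N k) (Spec.map (CommRingCat.ofHom (algebraMap k K))) :=
    pullback.map _ _ _ _ (isAffineOpen_chart r i).fromSpec (𝟙 _) (𝟙 _)
      (by rw [Category.comp_id, fromSpec_chart]) (by simp)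
  haveI : IsOpenImmersion j := inferInstanceAs (IsOpenImmersion (pullback.map _ _ _ _ _ _ _ _ _))
  let e : pullback (Spec.map (CommRingCat.ofHom (algebraMap k K)))
      (Spec.map (CommRingCat.ofHom (algebraMap k Γ(B, r ⁻¹ᵁ Dp i)))) ⟶
      pullback (r ≫ CohB1.ProjSpace.toSpec N k) (Spec.map (CommRingCat.ofHom (algebraMap k K))) :=
    (pullbackSymmetry _ _).hom ≫ j
  haveI : IsOpenImmersion e := inferInstance
  let e' : Spec (CommRingCat.of (K ⊗[k] Γ(B, r ⁻¹ᵁ Dp i))) ⟶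
      pullback (r ≫ CohB1.ProjSpace.toSpec N k) (Spec.map (CommRingCat.ofHom (algebraMap k K))) :=
    (pullbackSpecIso k K Γ(B, r ⁻¹ᵁ Dp i)).inv ≫ e
  haveI : Nonempty (Spec (CommRingCat.of (K ⊗[k] Γ(B, r ⁻¹ᵁ Dp i)))) :=
    inferInstanceAs (Nonempty (PrimeSpectrum _))
  haveI := isIntegral_of_isOpenImmersion e'
  exact (affine_isIntegral_iff _).1 ‹_›

theorem le_trdeg_chart (r : B ⟶ CohB1.ProjSpace N k) [IsClosedImmersion r] [AlgebraicGeometry.IsIntegral B]
    [LocallyOfFiniteType (r ≫ CohB1.ProjSpace.toSpec N k)]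
    (i : Fin (N + 1)) (hne : Nonempty (r ⁻¹ᵁ Dp i)) {g : ℕ}
    (hdim : topologicalKrullDim B = (g : WithBot ℕ∞)) :
    (g : Cardinal.{u}) ≤ Algebra.trdeg k Γ(B, r ⁻¹ᵁ Dp i) := by
  haveI := hne
  haveI : Algebra.FiniteType k Γ(B, r ⁻¹ᵁ Dp i) := by
    classical
    refine ⟨⟨(Finset.univ : Finset (Fin (N + 1))).image (coordFn r i), ?_⟩⟩
    rw [Finset.coe_image, Finset.coe_univ, Set.image_univ]
    exact adjoin_coordFn r i
  obtain ⟨d, hd, htr⟩ := VarDim.exists_dim_eq_trdeg k Γ(B, r ⁻¹ᵁ Dp i)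
  have hU : topologicalKrullDim ((r ⁻¹ᵁ Dp i : B.Opens) : Set B) = topologicalKrullDim B := by
    rw [VarDim.topologicalKrullDim_opens_eq_iSup_deg (r ≫ CohB1.ProjSpace.toSpec N k),
      VarDim.topologicalKrullDim_eq_deg_genericPoint (r ≫ CohB1.ProjSpace.toSpec N k)]
    refine le_antisymm (iSup_le fun x => ?_) ?_
    · exact_mod_cast VarDim.deg_le_of_specializes (r ≫ CohB1.ProjSpace.toSpec N k) (genericPoint_specializes x.1)
    · have hη : genericPoint B ∈ r ⁻¹ᵁ Dp i :=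
        ((genericPoint_spec B).mem_open_set_iff (r ⁻¹ᵁ Dp i).isOpen).2
          ⟨hne.some.1, trivial, hne.some.2⟩
      exact le_iSup_of_le ⟨_, hη⟩ le_rfl
  have hS : topologicalKrullDim ((r ⁻¹ᵁ Dp i : B.Opens) : Set B) = ringKrullDim Γ(B, r ⁻¹ᵁ Dp i) := by
    rw [← PrimeSpectrum.topologicalKrullDim_eq_ringKrullDim]
    exact IsHomeomorph.topologicalKrullDim_eq _ (isAffineOpen_chart r i).isoSpec.hom.homeomorph.isHomeomorph
  rw [hdim, hS, hd] at hU
  have hgd : g = d := by exact_mod_cast hU.symm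
  rw [htr, hgd]

/-- **Bounded equations, geometric form.** -/
theorem range_eq_of_bound (r : B ⟶ CohB1.ProjSpace N k) [IsClosedImmersion r]
    [AlgebraicGeometry.IsIntegral B] [GeometricallyIntegral (r ≫ CohB1.ProjSpace.toSpec N k)]
    [LocallyOfFiniteType (r ≫ CohB1.ProjSpace.toSpec N k)]
    {g D n : ℕ} (hn : D ≤ n) (hdim : topologicalKrullDim B = (g : WithBot ℕ∞))
    (hH : ∀ i, Module.finrank k (degPart (K := k) (coordFn r i) n) < ∑ l ∈ Finset.range (D + 1), (n - l + g).choose g) :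
    Set.range r = {y : CohB1.ProjSpace N k | ∀ f ∈ smallForms r D, y ∉ Proj.basicOpen (CohB1.polyGrading N k) f} := by
  obtain ⟨i, hi⟩ : ∃ i, r (genericPoint B) ∈ Dp (k := k) (N := N) i := by
    have : r (genericPoint B) ∈ ⨆ i, Proj.basicOpen (CohB1.polyGrading N k) (MvPolynomial.X i) := by
      rw [AmpleEmbed.iSup_basicOpen_X N k]; trivial
    exact Opens.mem_iSup.1 this
  have hne : Nonempty (r ⁻¹ᵁ Dp i) := ⟨⟨genericPoint B, hi⟩⟩
  exact range_eq r i hne hn (le_trdeg_chart r i hne hdim)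
    (fun K _ _ => isDomain_chart_tensor r i hne K) (hH i)

end Groth.Agent.AVTate
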