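import Groth.Agent.AVTate.ConeBC
import Groth.Agent.GrModX.QCohTilde
import Groth.Agent.ProjUPX.Unique
import Groth.Agent.Lib.AmpleEmbed
import Groth.Prelude.Def_CohB1
import Mathlib.AlgebraicGeometry.Morphisms.ClosedImmersion
import Mathlib.AlgebraicGeometry.Geometrically.Integral
import Mathlib.AlgebraicGeometry.Pullbacks

/-!
# Subvarieties of projective space of bounded degree are cut out by forms of bounded degree
-/

set_option autoImplicit false
set_option linter.style.haveILetI false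
set_option linter.unusedSectionVars false
set_option backward.isDefEq.respectTransparency false
set_option backward.isDefEq.respectTransparency.types false

universe u

open CategoryTheory CategoryTheory.Limits AlgebraicGeometry TopologicalSpace HomogeneousLocalization
open scoped TensorProduct

noncomputable section

namespace Groth.Agent.AVTate

variable {k : Type u} [Field k] {N : ℕ} {B : Scheme.{u}}

local notation "𝒫" => CohB1.polyGrading N k

/-- The coordinate chart. -/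
abbrev Dp (i : Fin (N + 1)) : (CohB1.ProjSpace N k).Opens :=
  Proj.basicOpen (CohB1.polyGrading N k) (MvPolynomial.X i)

/-- Functions of degree zero on a chart, pulled back. -/
def chartHom (r : B ⟶ CohB1.ProjSpace N k) (i : Fin (N + 1)) :
    Away (CohB1.polyGrading N k) (MvPolynomial.X i) →+* Γ(B, r ⁻¹ᵁ Dp i) :=
  (r.app (Dp i)).hom.comp (Proj.awayToSection (CohB1.polyGrading N k) (MvPolynomial.X i)).hom

/-- The constants. -/
def chartC (r : B ⟶ CohB1.ProjSpace N k) (i : Fin (N + 1)) : k →+* Γ(B, r ⁻¹ᵁ Dp i) :=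
  (chartHom r i).comp ((fromZeroRingHom 𝒫 _).comp (algebraMap k (CohB1.polyGrading N k 0)))

instance chartAlgebra (r : B ⟶ CohB1.ProjSpace N k) (i : Fin (N + 1)) : Algebra k Γ(B, r ⁻¹ᵁ Dp i) :=
  (chartC r i).toAlgebra

/-- The coordinate functions `X_j / X_i`. -/
def coordFn (r : B ⟶ CohB1.ProjSpace N k) (i j : Fin (N + 1)) : Γ(B, r ⁻¹ᵁ Dp i) :=
  chartHom r i (Away.mk 𝒫 (ProjPt.X_mem i) 1 (MvPolynomial.X j) (by rw [one_smul]; exact ProjPt.X_mem j))

theorem chartHom_mk (r : B ⟶ CohB1.ProjSpace N k) (i : Fin (N + 1)) {e : ℕ}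
    {f : MvPolynomial (Fin (N + 1)) k} (hf : f ∈ CohB1.polyGrading N k (e • 1)) :
    chartHom r i (Away.mk 𝒫 (ProjPt.X_mem i) e f hf) = MvPolynomial.aeval (coordFn r i) f := by
  have hf' : MvPolynomial.aeval (MvPolynomial.X : Fin (N + 1) → MvPolynomial (Fin (N + 1)) k) f ∈
      CohB1.polyGrading N k (e • 1) := by rwa [MvPolynomial.aeval_X_left_apply]
  have h := ProjUPX.away_mk_eq_eval (𝒜 := 𝒫) (T := MvPolynomial.X) (fun l => ProjPt.X_mem l)
    (ProjPt.X_mem i) e f (by simpa using (MvPolynomial.mem_homogeneousSubmodule _ _).1 hf) hf'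
  simp only [MvPolynomial.aeval_X_left_apply] at h
  rw [h, MvPolynomial.map_eval₂Hom]
  rfl

theorem coordFn_self (r : B ⟶ CohB1.ProjSpace N k) (i : Fin (N + 1)) : coordFn r i i = 1 := by
  rw [coordFn, show Away.mk 𝒫 (ProjPt.X_mem i) 1 (MvPolynomial.X i)
    (by rw [one_smul]; exact ProjPt.X_mem i) = 1 from ?_, map_one]
  apply val_injective
  rw [Away.val_mk, val_one]
  simp only [pow_one]
  exact Localization.mk_self (⟨MvPolynomial.X i, Submonoid.mem_powers _⟩ :
    Submonoid.powers (MvPolynomial.X i : MvPolynomial (Fin (N + 1)) k))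

theorem adjoin_coordFn (r : B ⟶ CohB1.ProjSpace N k) [IsClosedImmersion r] (i : Fin (N + 1)) :
    Algebra.adjoin k (Set.range (coordFn r i)) = ⊤ := by
  refine top_le_iff.1 fun b _ => ?_
  have haff : IsAffineOpen (Dp (k := k) i) := Proj.isAffineOpen_basicOpen _ _ (ProjPt.X_mem i) one_pos
  have hsurj : Function.Surjective (r.app (Dp i)).hom := by
    exact Scheme.Hom.app_surjective r (Dp i) haff
  obtain ⟨c, rfl⟩ := hsurj b
  haveI : IsIso (Proj.awayToSection (CohB1.polyGrading N k) (MvPolynomial.X i)) :=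
    inferInstanceAs (IsIso (Proj.basicOpenIsoAway (CohB1.polyGrading N k) (MvPolynomial.X i) (ProjPt.X_mem i) Nat.one_pos).hom)
  obtain ⟨x, rfl⟩ := (ConcreteCategory.bijective_of_isIso
    (Proj.awayToSection (CohB1.polyGrading N k) (MvPolynomial.X i))).2 c
  obtain ⟨e, f, hf, rfl⟩ := Away.mk_surjective 𝒫 (ProjPt.X_mem i) x
  rw [Algebra.adjoin_range_eq_range_aeval]
  exact ⟨f, (chartHom_mk r i hf).symm⟩

/-- A form vanishes on `B` iff its dehomogenisation does. -/
theorem aeval_coordFn_eq_zero_iff (r : B ⟶ CohB1.ProjSpace N k) [IsIntegral B] (i : Fin (N + 1))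
    (hne : Nonempty (r ⁻¹ᵁ Dp i)) {e : ℕ} {f : MvPolynomial (Fin (N + 1)) k} (hf : f.IsHomogeneous e) :
    MvPolynomial.aeval (coordFn r i) f = 0 ↔ ∀ z : B, r z ∉ Proj.basicOpen 𝒫 f := by
  have hf' : f ∈ CohB1.polyGrading N k (e • 1) := by simpa using hf
  rw [← chartHom_mk r i hf', ← basicOpen_eq_bot_iff]
  have hb : B.basicOpen (chartHom r i (Away.mk 𝒫 (ProjPt.X_mem i) e f hf')) =
      r ⁻¹ᵁ Proj.basicOpen 𝒫 (MvPolynomial.X i * f) := by
    rw [← GrModX.basicOpen_awayToSection 𝒫 (ProjPt.X_mem i) e hf']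
    exact (Scheme.preimage_basicOpen r _).symm
  rw [hb, Proj.basicOpen_mul]
  constructor
  · intro h z hz
    obtain ⟨w, hw, hw'⟩ := nonempty_preirreducible_inter (X := B) (r ⁻¹ᵁ Dp i).isOpen
      (r ⁻¹ᵁ Proj.basicOpen 𝒫 f).isOpen (Set.nonempty_coe_sort.1 hne) ⟨z, hz⟩
    exact (h.le (show w ∈ r ⁻¹ᵁ (Proj.basicOpen 𝒫 (MvPolynomial.X i) ⊓ Proj.basicOpen 𝒫 f) from ⟨hw, hw'⟩) : w ∈ (⊥ : B.Opens))
  · intro h
    exact eq_bot_iff.2 fun z hz => (h z hz.2).elim

/-- The dimension of the degree-`n` part of the coordinate ring, seen on a chart. -/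
def hilb (r : B ⟶ CohB1.ProjSpace N k) (i : Fin (N + 1)) (n : ℕ) : ℕ :=
  Module.finrank k (degPart (K := k) (coordFn r i) n)

/-- The forms of degree `≤ D` vanishing on `B`. -/
def smallForms (r : B ⟶ CohB1.ProjSpace N k) (D : ℕ) : Set (MvPolynomial (Fin (N + 1)) k) :=
  {f | ∃ e ≤ D, f.IsHomogeneous e ∧ ∀ z : B, r z ∉ Proj.basicOpen 𝒫 f}

/-- **Bounded equations.** -/
theorem range_eq (r : B ⟶ CohB1.ProjSpace N k) [IsClosedImmersion r] [IsIntegral B] (i : Fin (N + 1))
    (hne : Nonempty (r ⁻¹ᵁ Dp i)) {g D n : ℕ} (hn : D ≤ n)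
    (hg : (g : Cardinal.{u}) ≤ Algebra.trdeg k Γ(B, r ⁻¹ᵁ Dp i))
    (hdom : ∀ (K : Type u) [Field K] [Algebra k K], IsDomain (K ⊗[k] Γ(B, r ⁻¹ᵁ Dp i)))
    (hH : Module.finrank k (degPart (K := k) (coordFn r i) n) < ∑ l ∈ Finset.range (D + 1), (n - l + g).choose g) :
    Set.range r = {y : CohB1.ProjSpace N k | ∀ f ∈ smallForms r D, y ∉ Proj.basicOpen 𝒫 f} := by
  haveI := hne
  ext y
  constructor
  · rintro ⟨z, rfl⟩ f ⟨e, -, -, hf⟩
    exact hf z
  · intro hy
    by_contra hyr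
    obtain ⟨o, ⟨_, ⟨g₀, rfl⟩, hgo⟩, hyg, hsub⟩ := (Proj.isBasis_basicOpen 𝒫).exists_subset_of_mem_open hyr
      r.isClosedEmbedding.isClosed_range.isOpen_compl
    subst hgo
    rw [SetLike.mem_coe, Proj.basicOpen_eq_iSup_proj, Opens.mem_iSup] at hyg
    obtain ⟨e, hye⟩ := hyg
    have hhom : (GradedRing.proj 𝒫 e g₀).IsHomogeneous e :=
      (MvPolynomial.mem_homogeneousSubmodule _ _).1 (SetLike.coe_mem _)
    have hzero : MvPolynomial.aeval (coordFn r i) (GradedRing.proj 𝒫 e g₀) = 0 := by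
      rw [aeval_coordFn_eq_zero_iff r i hne hhom]
      intro z hz
      exact hsub (by
        rw [SetLike.mem_coe, Proj.basicOpen_eq_iSup_proj, Opens.mem_iSup]
        exact ⟨e, hz⟩) ⟨z, rfl⟩
    haveI : (y.asHomogeneousIdeal.toIdeal).IsPrime := y.isPrime
    obtain ⟨e', f, he', hfh, hfa, hfy⟩ := exists_form_notMem (coordFn r i) (adjoin_coordFn r i) i
      (coordFn_self r i) hg hn hdom hH y.asHomogeneousIdeal.toIdeal ⟨e, _, hhom, hzero, hye⟩
    exact hy f ⟨e', he', hfh, (aeval_coordFn_eq_zero_iff r i hne hfh).1 hfa⟩ hfy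

end Groth.Agent.AVTate
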