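import Mathlib.RingTheory.MvPolynomial.Homogeneous
import Mathlib.RingTheory.AlgebraicIndependent.TranscendenceBasis
import Mathlib.RingTheory.Algebraic.Integral
import Mathlib.Algebra.Polynomial.Degree.Lemmas
import Mathlib.Algebra.MvPolynomial.Funext

/-!
# Noether normalisation by linear forms through a given point

`sc r = r t` in `A[t]`; a family `a` of elements of `A` is the dehomogenised coordinate family of a
projective variety, and `sc ∘ a` the coordinate family of its cone.
-/

set_option autoImplicit false

universe u v

namespace Groth.Agent.AVTate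

open MvPolynomial

section Lead

variable {K : Type u} [CommRing K] {S : Type v} [CommRing S] [Algebra K S] {σ : Type*}

/-- The substitution `X i ↦ y i + p i X` has leading coefficient `h(p)` on forms `h`. -/
theorem natDegree_subst_le (y : σ → S) (p : σ → K) {h : MvPolynomial σ K} {d : ℕ} (hh : h.IsHomogeneous d) :
    (MvPolynomial.aeval (fun i => Polynomial.C (y i) + Polynomial.C (algebraMap K S (p i)) * Polynomial.X) h).natDegree ≤ d ∧
    (MvPolynomial.aeval (fun i => Polynomial.C (y i) + Polynomial.C (algebraMap K S (p i)) * Polynomial.X) h).coeff d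
      = algebraMap K S (MvPolynomial.eval p h) := by
  classical
  set q : σ → Polynomial S := fun i => Polynomial.C (y i) + Polynomial.C (algebraMap K S (p i)) * Polynomial.X
  have h1 : ∀ i, (q i).natDegree ≤ 1 := fun i =>
    (Polynomial.natDegree_add_le _ _).trans (max_le (by simp) ((Polynomial.natDegree_C_mul_le _ _).trans Polynomial.natDegree_X_le))
  have h2 : ∀ i, (q i).coeff 1 = algebraMap K S (p i) := fun i => by
    simp [q, Polynomial.coeff_C_ne_zero]
  have mon : ∀ (s : σ →₀ ℕ) (c : K),
      (MvPolynomial.aeval q (monomial s c)).natDegree ≤ s.degree ∧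
      (MvPolynomial.aeval q (monomial s c)).coeff s.degree = algebraMap K S (MvPolynomial.eval p (monomial s c)) := by
    intro s
    induction s using Finsupp.induction with
    | zero =>
      intro c
      simp [monomial_zero', Polynomial.algebraMap_apply]
    | single_add i m s his hm ih =>
      intro c
      obtain ⟨ihd, ihc⟩ := ih c
      have hqm : (q i ^ m).natDegree ≤ m :=
        (Polynomial.natDegree_pow_le).trans (by simpa using Nat.mul_le_mul_left m (h1 i))
      have e : monomial (Finsupp.single i m + s) c = X i ^ m * monomial s c := by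
        rw [X_pow_eq_monomial, monomial_mul, one_mul]
      have hd : (Finsupp.single i m + s).degree = m + s.degree := by simp
      rw [e, map_mul, map_pow, MvPolynomial.aeval_X, hd]
      refine ⟨Polynomial.natDegree_mul_le.trans (add_le_add hqm ihd), ?_⟩
      rw [Polynomial.coeff_mul_add_eq_of_natDegree_le hqm ihd, ihc,
        show (q i ^ m).coeff m = (q i ^ m).coeff (m * 1) by rw [mul_one],
        Polynomial.coeff_pow_of_natDegree_le (h1 i), h2, map_mul (MvPolynomial.eval p), map_pow, eval_X,
        map_mul, map_pow]
  have e := h.support_sum_monomial_coeff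
  have hs : ∀ s ∈ h.support, s.degree = d := fun s hs => by
    by_contra hne
    exact mem_support_iff.1 hs (hh.coeff_eq_zero hne)
  constructor
  · rw [← e, map_sum]
    refine Polynomial.natDegree_sum_le_of_forall_le _ _ fun s hsm => ?_
    rw [← hs s hsm]
    exact (mon s _).1
  · conv_rhs => rw [← e, map_sum, map_sum]
    conv_lhs => rw [← e, map_sum, Polynomial.finsetSum_coeff]
    refine Finset.sum_congr rfl fun s hsm => ?_
    rw [← hs s hsm]
    exact (mon s _).2

end Lead

section Relation

variable {K : Type u} [Field K] {S : Type v} [CommRing S] [Algebra K S] {σ : Type*}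

/-- A form relation among `x` not vanishing at `p` makes `z` integral over the `x i - p i z`. -/
theorem isIntegral_of_relation (x : σ → S) (p : σ → K) (z : S) {h : MvPolynomial σ K} {d : ℕ}
    (hh : h.IsHomogeneous d) (hx : MvPolynomial.aeval x h = 0) (hp : MvPolynomial.eval p h ≠ 0) :
    IsIntegral (Algebra.adjoin K (Set.range fun i => x i - p i • z)) z := by
  let R := Algebra.adjoin K (Set.range fun i => x i - p i • z)
  let y : σ → R := fun i => ⟨x i - p i • z, Algebra.subset_adjoin ⟨i, rfl⟩⟩
  let P : Polynomial R :=
    MvPolynomial.aeval (fun i => Polynomial.C (y i) + Polynomial.C (algebraMap K R (p i)) * Polynomial.X) h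
  obtain ⟨hdeg, hcoeff⟩ := natDegree_subst_le (S := R) y p hh
  have hP0 : Polynomial.aeval z P = 0 := by
    have e : (((Polynomial.aeval z : Polynomial R →ₐ[R] S)).restrictScalars K).comp
        (MvPolynomial.aeval (R := K) (fun i => Polynomial.C (y i) + Polynomial.C (algebraMap K R (p i)) * Polynomial.X))
        = MvPolynomial.aeval x := by
      refine MvPolynomial.algHom_ext fun i => ?_
      simp [y, Algebra.smul_def]
    exact (congrArg (fun f => f h) e).trans hx
  refine ⟨Polynomial.C (algebraMap K R (MvPolynomial.eval p h)⁻¹) * P,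
    Polynomial.monic_of_natDegree_le_of_coeff_eq_one d ((Polynomial.natDegree_C_mul_le _ _).trans hdeg) ?_, ?_⟩
  · rw [Polynomial.coeff_C_mul, hcoeff, ← map_mul, inv_mul_cancel₀ hp, map_one]
  · show Polynomial.aeval z (Polynomial.C (algebraMap K R (MvPolynomial.eval p h)⁻¹) * P) = 0
    rw [map_mul, hP0, mul_zero]

/-- Integrality over `adjoin s` is transitive. -/
theorem isIntegral_adjoin_trans {s t : Set S} (ht : ∀ x ∈ t, IsIntegral (Algebra.adjoin K s) x) {z : S}
    (hz : IsIntegral (Algebra.adjoin K t) z) : IsIntegral (Algebra.adjoin K s) z := by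
  let C := integralClosure (Algebra.adjoin K s) S
  have hle : Algebra.adjoin K t ≤ C.restrictScalars K := Algebra.adjoin_le ht
  obtain ⟨P, hP, hP0⟩ := hz
  refine isIntegral_trans (A := C) z
    ⟨P.map (Subalgebra.inclusion hle).toRingHom, hP.map _, ?_⟩
  rw [Polynomial.eval₂_map]
  exact hP0

end Relation

section Scaled

variable {K : Type u} [Field K] {A : Type v} [CommRing A] [Algebra K A]

/-- `sc r = r t`. -/
noncomputable def sc (r : A) : Polynomial A := Polynomial.C r * Polynomial.X

theorem sc_sub (r r' : A) : sc (r - r') = sc r - sc r' := by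
  simp [sc, sub_mul]

theorem sc_smul (c : K) (r : A) : sc (c • r) = c • sc r := by
  simp [sc, Algebra.smul_def, Polynomial.algebraMap_apply, mul_assoc]

theorem aeval_sc_of_isHomogeneous {σ : Type*} (b : σ → A) {h : MvPolynomial σ K} {d : ℕ}
    (hh : h.IsHomogeneous d) :
    MvPolynomial.aeval (fun i => sc (b i)) h = Polynomial.C (MvPolynomial.aeval b h) * Polynomial.X ^ d := by
  classical
  conv_lhs => rw [← h.support_sum_monomial_coeff, map_sum]
  conv_rhs => rw [← h.support_sum_monomial_coeff, map_sum, map_sum, Finset.sum_mul]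
  refine Finset.sum_congr rfl fun s hs => ?_
  have hd : s.degree = d := by
    by_contra hne
    exact mem_support_iff.1 hs (hh.coeff_eq_zero hne)
  rw [MvPolynomial.aeval_monomial, MvPolynomial.aeval_monomial, ← hd]
  simp only [sc, mul_pow, Finsupp.prod, Finsupp.degree_apply, Polynomial.algebraMap_apply, map_mul, map_prod,
    map_pow, Finset.prod_mul_distrib, Finset.prod_pow_eq_pow_sum]
  ring

theorem coeff_aeval_sc {σ : Type*} (b : σ → A) (p : MvPolynomial σ K) (d : ℕ) :
    (MvPolynomial.aeval (fun i => sc (b i)) p).coeff d = MvPolynomial.aeval b (homogeneousComponent d p) := by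
  conv_lhs => rw [← sum_homogeneousComponent p, map_sum, Polynomial.finsetSum_coeff]
  simp only [aeval_sc_of_isHomogeneous b (homogeneousComponent_isHomogeneous _ _), Polynomial.coeff_C_mul_X_pow]
  rw [Finset.sum_ite_eq]
  split_ifs with h
  · rfl
  · rw [homogeneousComponent_eq_zero d p (by simp at h; omega), map_zero]

end Scaled

section Normalise

variable {K : Type u} [Field K] [Infinite K] {A : Type v} [CommRing A] [Algebra K A] [Nontrivial A]
  {N : ℕ}

/-- Linear forms vanishing at `c`, cutting out nothing on the cone, can be made independent. -/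
theorem exists_independent (a : Fin (N + 1) → A) (c : Fin (N + 1) → K) :
    ∀ (m : ℕ) (L : Fin m → MvPolynomial (Fin (N + 1)) K),
      (∀ l, (L l).IsHomogeneous 1 ∧ MvPolynomial.eval c (L l) = 0) →
      (∀ j, IsIntegral (Algebra.adjoin K (Set.range fun l => sc (MvPolynomial.aeval a (L l)))) (sc (a j))) →
      ∃ (m' : ℕ) (L' : Fin m' → MvPolynomial (Fin (N + 1)) K),
        (∀ l, (L' l).IsHomogeneous 1 ∧ MvPolynomial.eval c (L' l) = 0) ∧
        (∀ j, IsIntegral (Algebra.adjoin K (Set.range fun l => sc (MvPolynomial.aeval a (L' l)))) (sc (a j))) ∧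
        AlgebraicIndependent K fun l => sc (MvPolynomial.aeval a (L' l)) := by
  intro m
  induction m with
  | zero =>
    intro L hL hI
    exact ⟨0, L, hL, hI, algebraicIndependent_empty_type⟩
  | succ m ih =>
    intro L hL hI
    by_cases hind : AlgebraicIndependent K fun l => sc (MvPolynomial.aeval a (L l))
    · exact ⟨_, L, hL, hI, hind⟩
    set b : Fin (m + 1) → A := fun l => MvPolynomial.aeval a (L l) with hb
    rw [algebraicIndependent_iff] at hind
    push Not at hind
    obtain ⟨q, hq, hq0⟩ := hind
    obtain ⟨d, hd⟩ : ∃ d, homogeneousComponent d q ≠ 0 := by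
      by_contra h
      push Not at h
      exact hq0 (by rw [← sum_homogeneousComponent q]; exact Finset.sum_eq_zero fun i _ => h i)
    set h := homogeneousComponent d q with hh
    have hhom : h.IsHomogeneous d := homogeneousComponent_isHomogeneous d q
    have hx : MvPolynomial.aeval (fun l => sc (b l)) h = 0 := by
      rw [aeval_sc_of_isHomogeneous b hhom, hh, ← coeff_aeval_sc b q d, hq]
      simp
    obtain ⟨p, hp⟩ : ∃ p, MvPolynomial.eval p h ≠ 0 := by
      by_contra hne
      push Not at hne
      exact hd (MvPolynomial.funext fun x => by rw [hne x, map_zero])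
    obtain ⟨l0, hl0⟩ : ∃ l, p l ≠ 0 := by
      by_contra hne
      push Not at hne
      have hd0 : d = 0 := by
        by_contra hd0
        apply hp
        rw [show p = 0 from funext hne, MvPolynomial.eval_zero, constantCoeff_eq]
        exact hhom.coeff_eq_zero (by simpa using Ne.symm hd0)
      rw [hd0] at hhom
      obtain ⟨r, hr⟩ : ∃ r, h = MvPolynomial.C r :=
        ⟨_, (totalDegree_eq_zero_iff_eq_C.1 ((totalDegree_zero_iff_isHomogeneous _).2 hhom))⟩
      rw [hr, MvPolynomial.aeval_C, map_eq_zero_iff _ (algebraMap K (Polynomial A)).injective] at hx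
      exact hd (by rw [hr, hx, map_zero])
    let L' : Fin m → MvPolynomial (Fin (N + 1)) K := fun l =>
      L (l0.succAbove l) - MvPolynomial.C (p (l0.succAbove l) * (p l0)⁻¹) * L l0
    have hL' : ∀ l, (L' l).IsHomogeneous 1 ∧ MvPolynomial.eval c (L' l) = 0 := fun l =>
      ⟨(hL _).1.sub ((hL l0).1.C_mul _), by simp [L', (hL _).2]⟩
    refine ih L' hL' fun j => ?_
    set z : Polynomial A := (p l0)⁻¹ • sc (b l0) with hz
    set y : Fin (m + 1) → Polynomial A := fun l => sc (b l) - p l • z with hy
    have hy' : ∀ l, y l ∈ Algebra.adjoin K (Set.range fun l => sc (MvPolynomial.aeval a (L' l))) := by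
      intro l
      rcases Fin.eq_self_or_eq_succAbove l0 l with rfl | ⟨l, rfl⟩
      · rw [hy, hz]
        simp only [smul_smul, mul_inv_cancel₀ hl0, one_smul, sub_self, zero_mem]
      · refine Algebra.subset_adjoin ⟨l, ?_⟩
        simp only [hy, hz, L', hb, map_sub, map_mul (MvPolynomial.aeval (R := K) a), MvPolynomial.aeval_C,
          ← Algebra.smul_def, sc_sub, sc_smul, smul_smul]
    have hzint : IsIntegral (Algebra.adjoin K (Set.range fun l => sc (MvPolynomial.aeval a (L' l)))) z :=
      isIntegral_adjoin_trans (t := Set.range y)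
        (by rintro _ ⟨l, rfl⟩
            exact isIntegral_algebraMap (R := Algebra.adjoin K (Set.range fun l => sc (MvPolynomial.aeval a (L' l))))
              (x := ⟨y l, hy' l⟩))
        (isIntegral_of_relation (fun l => sc (b l)) p z hhom hx hp)
    refine isIntegral_adjoin_trans ?_ (hI j)
    rintro _ ⟨l, rfl⟩
    show IsIntegral _ (sc (b l))
    have e : sc (b l) = y l + p l • z := by simp [hy]
    rw [e]
    refine IsIntegral.add (isIntegral_algebraMap (x := (⟨y l, hy' l⟩ :
      Algebra.adjoin K (Set.range fun l => sc (MvPolynomial.aeval a (L' l)))))) ?_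
    exact IsIntegral.smul (p l) hzint

end Normalise

end Groth.Agent.AVTate
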