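import Groth.Agent.S16837

/-!
# Semisimple endomorphisms with the same characteristic polynomial are conjugate
-/

set_option autoImplicit false
set_option maxHeartbeats 1000000

universe v w

open Polynomial UniqueFactorizationMonoid Groth.Agent.S16837

noncomputable section

namespace Groth.Agent.AVTate

variable {K : Type*} [Field K]

open scoped Classical in
/-- A semisimple `K[X]`-module, finite over `K`, is the product of the `K[X]/(P)` over the factors of its
characteristic polynomial. -/
theorem exists_pi_quot (M : Type*) [AddCommGroup M] [Module K M] [Module K[X] M] [IsScalarTower K K[X] M]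
    [FiniteDimensional K M] [IsSemisimpleModule K[X] M] :
    ∃ (a : ℕ) (p : Fin a → K[X]), normalizedFactors (actX (K := K) M).charpoly = Finset.univ.val.map p ∧
      Nonempty (M ≃ₗ[K[X]] ∀ i, K[X] ⧸ Ideal.span {p i}) := by
  haveI : Module.Finite K[X] M := Module.Finite.of_restrictScalars_finite K K[X] M
  obtain ⟨a, S, eS, hS⟩ := IsSemisimpleModule.exists_linearEquiv_fin_dfinsupp K[X] M
  haveI : ∀ i, FiniteDimensional K (S i) := fun i =>
    FiniteDimensional.of_injective ((S i).subtype.restrictScalars K) Subtype.val_injective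
  let eS' : M ≃ₗ[K[X]] (∀ i, S i) := eS ≪≫ₗ DFinsupp.linearEquivFunOnFintype
  have hcS : (actX (K := K) M).charpoly = ∏ i, (actX (K := K) (S i)).charpoly := by
    rw [← charpoly_piMap, ← LinearEquiv.charpoly_conj (eS'.restrictScalars K) (actX M)]
    congr 1
    refine LinearMap.ext fun x => ?_
    change eS' ((X : K[X]) • eS'.symm x) = _
    rw [map_smul, eS'.apply_symm_apply]
    rfl
  have hi : ∀ i, Irreducible (actX (K := K) (S i)).charpoly ∧
      Nonempty (S i ≃ₗ[K[X]] K[X] ⧸ Ideal.span {(actX (K := K) (S i)).charpoly}) := fun i =>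
    @simple_iso K _ (S i) _ _ _ _ _ (hS i)
  refine ⟨a, fun i => (actX (K := K) (S i)).charpoly, ?_, ⟨eS' ≪≫ₗ LinearEquiv.piCongrRight fun i => (hi i).2.some⟩⟩
  rw [hcS, Finset.prod_eq_multiset_prod]
  generalize (Finset.univ : Finset (Fin a)).val = s
  induction s using Multiset.induction_on with
  | empty => simp
  | cons i s ih =>
    rw [Multiset.map_cons, Multiset.prod_cons, normalizedFactors_mul (hi i).1.ne_zero
      (Multiset.prod_ne_zero (by simpa using fun i _ => (hi i).1.ne_zero)), ih,
      normalizedFactors_irreducible (hi i).1, (LinearMap.charpoly_monic _).normalize_eq_self, Multiset.singleton_add]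

theorem actX_charpoly {V : Type*} [AddCommGroup V] [Module K V] [FiniteDimensional K V] (f : Module.End K V)
    [FiniteDimensional K (Module.AEval' f)] : (actX (K := K) (Module.AEval' f)).charpoly = f.charpoly := by
  rw [← LinearEquiv.charpoly_conj (Module.AEval'.of f) f]
  congr 1
  refine LinearMap.ext fun m => ?_
  obtain ⟨x, rfl⟩ := (Module.AEval'.of f).surjective m
  rw [LinearEquiv.conj_apply_apply, LinearEquiv.symm_apply_apply]
  exact Module.AEval'.X_smul_of f x

/-- **Semisimple endomorphisms with equal characteristic polynomials are conjugate.** -/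
theorem exists_conj {V₁ : Type v} {V₂ : Type w} [AddCommGroup V₁] [Module K V₁] [FiniteDimensional K V₁]
    [AddCommGroup V₂] [Module K V₂] [FiniteDimensional K V₂] (π₁ : Module.End K V₁) (π₂ : Module.End K V₂)
    (h₁ : π₁.IsSemisimple) (h₂ : π₂.IsSemisimple) (h : π₁.charpoly = π₂.charpoly) :
    ∃ e : V₁ ≃ₗ[K] V₂, e.toLinearMap ∘ₗ π₁ = π₂ ∘ₗ e.toLinearMap := by
  classical
  haveI : FiniteDimensional K (Module.AEval' π₁) := (Module.AEval'.of π₁).finiteDimensional
  haveI : FiniteDimensional K (Module.AEval' π₂) := (Module.AEval'.of π₂).finiteDimensional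
  haveI : IsSemisimpleModule K[X] (Module.AEval' π₁) := h₁
  haveI : IsSemisimpleModule K[X] (Module.AEval' π₂) := h₂
  obtain ⟨a, p, hp, ⟨e₁⟩⟩ := exists_pi_quot (K := K) (Module.AEval' π₁)
  obtain ⟨b, q, hq, ⟨e₂⟩⟩ := exists_pi_quot (K := K) (Module.AEval' π₂)
  rw [actX_charpoly] at hp hq
  have hcard : ∀ c, Nonempty ({i // p i = c} ≃ {j // q j = c}) := fun c => by
    refine ⟨Fintype.equivOfCardEq ?_⟩
    have hc := congrArg (Multiset.count c) (hp.symm.trans (h ▸ hq))
    rw [Multiset.count_map, Multiset.count_map] at hc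
    simp only [Fintype.card_subtype]
    convert hc using 1 <;> simp [Finset.filter, eq_comm]
  let σ : Fin a ≃ Fin b := Equiv.ofFiberEquiv fun c => (hcard c).some
  have hσ : ∀ i, q (σ i) = p i := fun i => Equiv.ofFiberEquiv_map _ i
  let E : Module.AEval' π₁ ≃ₗ[K[X]] Module.AEval' π₂ := e₁ ≪≫ₗ
    (LinearEquiv.piCongrRight fun i => Submodule.quotEquivOfEq _ _ (by rw [hσ i])) ≪≫ₗ
    (LinearEquiv.piCongrLeft K[X] (fun j => K[X] ⧸ Ideal.span {q j}) σ) ≪≫ₗ e₂.symm
  refine ⟨Module.AEval'.of π₁ ≪≫ₗ E.restrictScalars K ≪≫ₗ (Module.AEval'.of π₂).symm, LinearMap.ext fun x => ?_⟩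
  show (Module.AEval'.of π₂).symm (E (Module.AEval'.of π₁ (π₁ x))) =
    π₂ ((Module.AEval'.of π₂).symm (E (Module.AEval'.of π₁ x)))
  rw [← Module.AEval'.X_smul_of, map_smul, Module.AEval'.of_symm_X_smul]

end Groth.Agent.AVTate
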