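import Groth.Agent.AVTate.Targets
import Groth.Agent.AVTate.VeryAmple

/-!
# The cube of an ample module on an abelian variety embeds
-/

set_option autoImplicit false
set_option linter.style.haveILetI false
set_option backward.isDefEq.respectTransparency false
set_option backward.isDefEq.respectTransparency.types false

universe u

open CategoryTheory AlgebraicGeometry

namespace Groth.Agent.AVTate

/-- The embedding hypothesis holds over every field. -/
theorem cubeEmbeds (k : Type u) [Field k] : CubeEmbeds k := fun _ _ _ _ _ hM _ hN => exists_embedding_cube hM hN

end Groth.Agent.AVTate
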