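import Mathlib.Algebra.Module.PID
import Mathlib.Algebra.Polynomial.Module.AEval
import Mathlib.Algebra.Polynomial.Lifts
import Mathlib.LinearAlgebra.FreeModule.Finite.Basic
import Mathlib.LinearAlgebra.Matrix.Block
import Mathlib.LinearAlgebra.Matrix.ToLinearEquiv
import Mathlib.LinearAlgebra.Dual.Lemmas
import Mathlib.RingTheory.Nakayama
import Mathlib.RingTheory.LocalRing.Basic

/-!
# Cyclic endomorphisms of lattices and the duality they give
-/

set_option autoImplicit false

open Polynomial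

noncomputable section

namespace Groth.Agent.AVTate

/-- An endomorphism of a vector space with minimal polynomial of full degree has a cyclic vector. -/
theorem exists_cyclic_field {K V : Type*} [Field K] [AddCommGroup V] [Module K V] [FiniteDimensional K V]
    (f : Module.End K V) {n : ℕ} (hdim : Module.finrank K V ≤ n)
    (h : ∀ q : K[X], q.Monic → q.natDegree < n → aeval f q ≠ 0) :
    ∃ v, Submodule.span K (Set.range fun i : Fin n => (f ^ (i : ℕ)) v) = ⊤ := by
  haveI : Module.Finite K[X] (Module.AEval' f) := by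
    haveI : Module.Finite K (Module.AEval' f) := Module.Finite.equiv (Module.AEval'.of f)
    exact Module.Finite.of_restrictScalars_finite K K[X] _
  obtain ⟨x, hx⟩ := Module.exists_ker_toSpanSingleton_eq_annihilator K[X] (Module.AEval' f)
  obtain ⟨v, rfl⟩ := (Module.AEval'.of f).surjective x
  refine ⟨v, ?_⟩
  have hli : LinearIndependent K fun i : Fin n => (f ^ (i : ℕ)) v := by
    rw [Fintype.linearIndependent_iff]
    intro c hc i
    by_contra hci
    let q : K[X] := ∑ j : Fin n, C (c j) * X ^ (j : ℕ)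
    have hq0 : q ≠ 0 := fun h0 => hci (by
      have := congrArg (fun r : K[X] => r.coeff i) h0
      simpa [q, coeff_C_mul_X_pow, Fin.val_inj] using this)
    have hqv : aeval f q v = 0 := by
      rw [← hc]
      simp [q, map_sum, LinearMap.sum_apply, Algebra.algebraMap_eq_smul_one, smul_smul]
    have hdeg : q.natDegree < n := by
      have : q.natDegree ≤ n - 1 := natDegree_sum_le_of_forall_le _ _ fun j _ =>
        (natDegree_C_mul_X_pow_le _ _).trans (by have := j.2; omega)
      have := i.2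
      omega
    have hann : q ∈ Module.annihilator K[X] (Module.AEval' f) := by
      rw [← hx, LinearMap.mem_ker, LinearMap.toSpanSingleton_apply]
      show q • Module.AEval.of K V f v = 0
      rw [← Module.AEval.of_aeval_smul, Module.End.smul_def, hqv, map_zero]
    have h0 : aeval f q = 0 := LinearMap.ext fun w => by
      have := Module.mem_annihilator.1 hann (Module.AEval.of K V f w)
      rw [← Module.AEval.of_aeval_smul, Module.End.smul_def, LinearEquiv.map_eq_zero_iff] at this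
      exact this
    refine h (q * C q.leadingCoeff⁻¹) (monic_mul_leadingCoeff_inv hq0) ?_ (by rw [map_mul, h0, zero_mul])
    rwa [natDegree_mul_C (inv_ne_zero (leadingCoeff_ne_zero.2 hq0))]
  refine Submodule.eq_top_of_finrank_eq (le_antisymm (Submodule.finrank_le _) ?_)
  rw [finrank_span_eq_card hli, Fintype.card_fin]
  exact hdim

variable {R : Type*} [CommRing R] [IsLocalRing R] {T : Type*} [AddCommGroup T] [Module R T]

/-- A saturated endomorphism of a lattice has a cyclic vector. -/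
theorem exists_cyclic [Module.Finite R T] (Φ : Module.End R T) {n : ℕ} (b : Fin n → T)
    (hb : Submodule.span R (Set.range b) = ⊤)
    (h : ∀ q : R[X], q.Monic → q.natDegree < n → ∃ t, aeval Φ q t ∉ IsLocalRing.maximalIdeal R • (⊤ : Submodule R T)) :
    ∃ x, Submodule.span R (Set.range fun i : Fin n => (Φ ^ (i : ℕ)) x) = ⊤ := by
  classical
  let 𝔪 := IsLocalRing.maximalIdeal R
  letI : Field (R ⧸ 𝔪) := Ideal.Quotient.field 𝔪
  let N : Submodule R T := 𝔪 • ⊤
  have hN : N ≤ N.comap Φ := by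
    refine Submodule.smul_le.2 fun r hr t _ => ?_
    rw [Submodule.mem_comap, map_smul]
    exact Submodule.smul_mem_smul hr trivial
  let Φ₀ : Module.End R (T ⧸ N) := N.mapQ N Φ hN
  let Φ₁ : Module.End (R ⧸ 𝔪) (T ⧸ N) :=
    { toFun := Φ₀
      map_add' := map_add Φ₀
      map_smul' := fun c t => by
        obtain ⟨r, rfl⟩ := Ideal.Quotient.mk_surjective c
        exact map_smul Φ₀ r t }
  have hpow : ∀ (i : ℕ) (t : T), (Φ₁ ^ i) (N.mkQ t) = N.mkQ ((Φ ^ i) t) := by
    intro i
    induction i with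
    | zero => intro t; rfl
    | succ i ih => intro t; rw [pow_succ', pow_succ', Module.End.mul_apply, Module.End.mul_apply, ih]; rfl
  have hspan₀ : Submodule.span (R ⧸ 𝔪) (Set.range fun i => N.mkQ (b i)) = ⊤ := by
    refine eq_top_iff.2 fun z _ => ?_
    obtain ⟨t, rfl⟩ := N.mkQ_surjective z
    obtain ⟨c, rfl⟩ := (Submodule.mem_span_range_iff_exists_fun R).1 (hb.ge trivial : t ∈ _)
    rw [map_sum]
    refine Submodule.sum_mem _ fun i _ => ?_
    rw [map_smul]
    exact Submodule.smul_mem (Submodule.span (R ⧸ 𝔪) (Set.range fun j => N.mkQ (b j))) (Ideal.Quotient.mk 𝔪 (c i))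
      (Submodule.subset_span ⟨i, rfl⟩)
  haveI : Module.Finite (R ⧸ 𝔪) (T ⧸ N) := Module.Finite.of_fg_top (hspan₀ ▸ Submodule.fg_span (Set.finite_range _))
  have hdim : Module.finrank (R ⧸ 𝔪) (T ⧸ N) ≤ n := by
    have := finrank_range_le_card (R := R ⧸ 𝔪) fun i => N.mkQ (b i)
    rwa [Set.finrank, hspan₀, finrank_top, Fintype.card_fin] at this
  obtain ⟨v, hv⟩ := exists_cyclic_field Φ₁ hdim fun q hq hdeg h0 => by
    obtain ⟨q₀, hq₀, hd₀, hm₀⟩ := lifts_and_degree_eq_and_monic
      ((mem_lifts q).2 (Polynomial.map_surjective _ (Ideal.Quotient.mk_surjective (I := 𝔪)) q)) hq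
    obtain ⟨t, ht⟩ := h q₀ hm₀ (by rwa [natDegree_eq_of_degree_eq hd₀])
    refine ht ((Submodule.Quotient.mk_eq_zero N).1 ?_)
    have e : N.mkQ (aeval Φ q₀ t) = aeval Φ₁ (q₀.map (Ideal.Quotient.mk 𝔪)) (N.mkQ t) := by
      rw [aeval_eq_sum_range, aeval_eq_sum_range' (Nat.lt_succ_of_le natDegree_map_le), LinearMap.sum_apply,
        LinearMap.sum_apply, map_sum]
      refine Finset.sum_congr rfl fun i _ => ?_
      rw [LinearMap.smul_apply, LinearMap.smul_apply, coeff_map, hpow, map_smul]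
      rfl
    rw [hq₀, h0, LinearMap.zero_apply] at e
    exact e
  obtain ⟨x, rfl⟩ := N.mkQ_surjective v
  refine ⟨x, top_unique (Submodule.le_of_le_smul_of_le_jacobson_bot (I := 𝔪) Module.Finite.fg_top
    (IsLocalRing.maximalIdeal_le_jacobson ⊥) fun t _ => ?_)⟩
  obtain ⟨c, hc⟩ := (Submodule.mem_span_range_iff_exists_fun (R ⧸ 𝔪)).1 (hv.ge trivial : N.mkQ t ∈ _)
  choose r hr using fun i => Ideal.Quotient.mk_surjective (I := 𝔪) (c i)
  refine Submodule.mem_sup.2 ⟨∑ i, r i • (Φ ^ (i : ℕ)) x, Submodule.sum_mem _ fun i _ =>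
    Submodule.smul_mem _ _ (Submodule.subset_span ⟨i, rfl⟩), t - ∑ i, r i • (Φ ^ (i : ℕ)) x, ?_, by abel⟩
  rw [show 𝔪 • (⊤ : Submodule R T) = N from rfl, ← Submodule.Quotient.mk_eq_zero]
  show N.mkQ (t - _) = 0
  rw [map_sub, map_sum, ← hc, sub_eq_zero]
  refine Finset.sum_congr rfl fun i _ => ?_
  rw [map_smul, ← hpow, ← hr i]
  rfl

section Duality

variable {S : Type*} [CommRing S] {M N : Type*} [AddCommGroup M] [Module S M] [AddCommGroup N] [Module S N]
  {n : ℕ} (Φ : Module.End S M) (e : Module.Basis (Fin n) S M) {x : M} (he : ∀ i, e i = (Φ ^ (i : ℕ)) x)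

/-- The last coordinate in a cyclic basis. -/
def lastCoord : M →ₗ[S] S := if h : 0 < n then e.coord ⟨n - 1, by omega⟩ else 0

/-- The coordinates against the powers of the endomorphism. -/
def kappa : M →ₗ[S] (Fin n → S) := LinearMap.pi fun i : Fin n => lastCoord e ∘ₗ (Φ ^ (i : ℕ))

theorem kappa_apply (m : M) (i : Fin n) : kappa Φ e m i = lastCoord e ((Φ ^ (i : ℕ)) m) := rfl

include he in
theorem kappa_bijective : Function.Bijective (kappa Φ e) := by
  classical
  let v : Fin n → (Fin n → S) := fun j => kappa Φ e (e (Fin.rev j))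
  let A : Matrix (Fin n) (Fin n) S := Matrix.of fun i j => v j i
  have hA : ∀ i j : Fin n, i ≤ j → A i j = if i = j then 1 else 0 := by
    intro i j hij
    have hlt : (i : ℕ) + (n - 1 - j) < n := by have := i.2; have := Fin.le_def.1 hij; omega
    show lastCoord e ((Φ ^ (i : ℕ)) (e (Fin.rev j))) = _
    rw [he, ← Module.End.mul_apply, ← pow_add, Fin.val_rev,
      show (i : ℕ) + (n - ((j : ℕ) + 1)) = (⟨_, hlt⟩ : Fin n).val by simp; omega, ← he,
      lastCoord, dif_pos (Nat.lt_of_le_of_lt (Nat.zero_le _) i.2), Module.Basis.coord_apply, Module.Basis.repr_self,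
      Finsupp.single_apply]
    refine if_congr ⟨fun h => ?_, fun h => ?_⟩ rfl rfl
    · have := congrArg Fin.val h; simp at this; exact Fin.ext (by have := Fin.le_def.1 hij; have := j.2; omega)
    · subst h; exact Fin.ext (by simp; have := i.2; omega)
  have hdet : A.det = 1 := by
    rw [Matrix.det_of_lowerTriangular A fun i j hij => (hA i j (le_of_lt (OrderDual.toDual_lt_toDual.1 hij))).trans
      (if_neg (ne_of_lt (OrderDual.toDual_lt_toDual.1 hij)))]
    exact Finset.prod_eq_one fun i _ => (hA i i le_rfl).trans (if_pos rfl)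
  have hk : kappa Φ e = Matrix.toLin' A ∘ₗ (e.reindex Fin.revPerm).equivFun.toLinearMap := by
    refine (e.reindex Fin.revPerm).ext fun j => ?_
    rw [LinearMap.comp_apply, LinearEquiv.coe_coe, Matrix.toLin'_apply, Module.Basis.equivFun_apply,
      Module.Basis.repr_self, Module.Basis.reindex_apply]
    funext i
    simp [A, v, Matrix.mulVec, dotProduct, Fin.revPerm, Finsupp.single_apply]
  rw [hk, LinearMap.coe_comp]
  exact (Matrix.toLinearEquiv' A (A.invertibleOfIsUnitDet (hdet ▸ isUnit_one))).bijective.comp (LinearEquiv.bijective _)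

/-- The unique intertwiner with a given last coordinate. -/
def adjoint (he : ∀ i, e i = (Φ ^ (i : ℕ)) x) (Φ' : Module.End S N) : Module.Dual S N →ₗ[S] (N →ₗ[S] M) where
  toFun l := (LinearEquiv.ofBijective _ (kappa_bijective Φ e he)).symm.toLinearMap ∘ₗ
    LinearMap.pi fun i : Fin n => l ∘ₗ (Φ' ^ (i : ℕ))
  map_add' l l' := LinearMap.ext fun t => by
    simp only [LinearMap.comp_apply, LinearMap.add_apply, LinearEquiv.coe_coe, ← map_add]
    rfl
  map_smul' c l := LinearMap.ext fun t => by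
    simp only [LinearMap.comp_apply, LinearMap.smul_apply, LinearEquiv.coe_coe, RingHom.id_apply]
    rw [← map_smul]
    rfl

include he in
theorem lastCoord_pow_adjoint (Φ' : Module.End S N) (l : Module.Dual S N) (t : N) (i : Fin n) :
    lastCoord e ((Φ ^ (i : ℕ)) (adjoint Φ e he Φ' l t)) = l ((Φ' ^ (i : ℕ)) t) := by
  rw [← kappa_apply]
  exact congrFun ((LinearEquiv.ofBijective _ (kappa_bijective Φ e he)).apply_symm_apply _) i

include he in
theorem ext_lastCoord {y z : M} (h : ∀ i : Fin n, lastCoord e ((Φ ^ (i : ℕ)) y) = lastCoord e ((Φ ^ (i : ℕ)) z)) :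
    y = z := (kappa_bijective Φ e he).1 (funext h)

theorem pow_apply_eq {P : S[X]} (hP : P.Monic) (hd : P.natDegree = n) {Q : Type*} [AddCommGroup Q] [Module S Q]
    (G : Module.End S Q) (hG : aeval G P = 0) (q : Q) :
    (G ^ n) q = - ∑ j : Fin n, P.coeff j • (G ^ (j : ℕ)) q := by
  have h := LinearMap.congr_fun hG q
  rw [aeval_eq_sum_range, Finset.sum_range_succ, hP.coeff_natDegree, one_smul, hd, LinearMap.add_apply,
    LinearMap.sum_apply, LinearMap.zero_apply, Finset.sum_range] at h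
  exact (eq_neg_of_add_eq_zero_right h).trans (by simp only [LinearMap.smul_apply])

include he in
theorem adjoint_comm (Φ' : Module.End S N) {P : S[X]} (hP : P.Monic) (hd : P.natDegree = n)
    (h0 : aeval Φ P = 0) (h0' : aeval Φ' P = 0) (l : Module.Dual S N) :
    adjoint Φ e he Φ' l ∘ₗ Φ' = Φ ∘ₗ adjoint Φ e he Φ' l := by
  refine LinearMap.ext fun t => ext_lastCoord Φ e he fun i => ?_
  rw [LinearMap.comp_apply, LinearMap.comp_apply, lastCoord_pow_adjoint, ← Module.End.mul_apply, ← pow_succ,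
    ← Module.End.mul_apply, ← pow_succ]
  rcases Nat.lt_or_ge ((i : ℕ) + 1) n with hlt | hge
  · exact (lastCoord_pow_adjoint Φ e he Φ' l t ⟨_, hlt⟩).symm
  · rw [show (i : ℕ) + 1 = n by have := i.2; omega, pow_apply_eq hP hd Φ' h0', pow_apply_eq hP hd Φ h0]
    simp only [map_neg, map_sum, map_smul, lastCoord_pow_adjoint]

include he in
theorem adjoint_lastCoord (Φ' : Module.End S N) (u : N →ₗ[S] M) (hu : ∀ t, u (Φ' t) = Φ (u t)) :
    adjoint Φ e he Φ' (lastCoord e ∘ₗ u) = u := by
  refine LinearMap.ext fun t => ext_lastCoord Φ e he fun i => ?_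
  rw [lastCoord_pow_adjoint, LinearMap.comp_apply]
  congr 1
  induction (i : ℕ) generalizing t with
  | zero => rfl
  | succ j ih => rw [pow_succ, pow_succ, Module.End.mul_apply, Module.End.mul_apply, ih, hu]

include he in
/-- Every functional on the intertwiners is an evaluation. -/
theorem exists_eval [Module.Free S N] [Module.Finite S N] (Φ' : Module.End S N) {P : S[X]} (hP : P.Monic)
    (hd : P.natDegree = n) (h0 : aeval Φ P = 0) (h0' : aeval Φ' P = 0) (I : Submodule S (N →ₗ[S] M))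
    (hI : ∀ u, u ∈ I ↔ u ∘ₗ Φ' = Φ ∘ₗ u) (g : I →ₗ[S] M) (hg : ∀ u : I, ∀ h : Φ ∘ₗ (u : N →ₗ[S] M) ∈ I, g ⟨_, h⟩ = Φ (g u)) :
    ∃ t : N, ∀ u : I, (u : N →ₗ[S] M) t = g u := by
  let U : Module.Dual S N →ₗ[S] I := LinearMap.codRestrict I (adjoint Φ e he Φ') fun l =>
    (hI _).2 (adjoint_comm Φ e he Φ' hP hd h0 h0' l)
  obtain ⟨t, ht⟩ := (Module.evalEquiv S N).surjective (lastCoord e ∘ₗ g ∘ₗ U)
  refine ⟨t, fun u => ext_lastCoord Φ e he fun i => ?_⟩
  have hup : ∀ j : ℕ, ∃ hj : (Φ ^ j) ∘ₗ (u : N →ₗ[S] M) ∈ I, g ⟨_, hj⟩ = (Φ ^ j) (g u) := by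
    intro j
    induction j with
    | zero => exact ⟨u.2, rfl⟩
    | succ j ih =>
      obtain ⟨hj, hgj⟩ := ih
      have hc := (hI _).1 hj
      have hj' : Φ ∘ₗ ((Φ ^ j) ∘ₗ (u : N →ₗ[S] M)) ∈ I := (hI _).2 (by rw [LinearMap.comp_assoc, hc])
      have e1 : (Φ ^ (j + 1)) ∘ₗ (u : N →ₗ[S] M) = Φ ∘ₗ ((Φ ^ j) ∘ₗ (u : N →ₗ[S] M)) := by rw [pow_succ']; rfl
      have hj'' : (Φ ^ (j + 1)) ∘ₗ (u : N →ₗ[S] M) ∈ I := by rw [e1]; exact hj'
      refine ⟨hj'', ?_⟩
      rw [show (⟨_, hj''⟩ : I) = ⟨_, hj'⟩ from Subtype.ext e1, hg ⟨_, hj⟩ hj', hgj, pow_succ']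
      rfl
  obtain ⟨hi, hgi⟩ := hup i
  rw [← hgi]
  have e2 : U (lastCoord e ∘ₗ ((Φ ^ (i : ℕ)) ∘ₗ (u : N →ₗ[S] M))) = ⟨_, hi⟩ :=
    Subtype.ext (adjoint_lastCoord Φ e he Φ' _ fun t => LinearMap.congr_fun ((hI _).1 hi) t)
  have h := LinearMap.congr_fun ht (lastCoord e ∘ₗ ((Φ ^ (i : ℕ)) ∘ₗ (u : N →ₗ[S] M)))
  rw [Module.evalEquiv_apply, Module.Dual.eval_apply, LinearMap.comp_apply, LinearMap.comp_apply,
    LinearMap.comp_apply] at h
  rw [LinearMap.comp_apply, e2] at h
  exact h

end Duality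

end Groth.Agent.AVTate
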