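import Groth.Agent.AVTate.RatPull
import Groth.Agent.Lib.AVTorsChar
import Groth.Agent.CurveFF.Divisor

/-!
# Trivialisations along a finite map: pullback, and the rational function of a trivialisation
-/

set_option autoImplicit false
set_option linter.style.haveILetI false
set_option linter.unusedSectionVars false
set_option backward.isDefEq.respectTransparency false
set_option backward.isDefEq.respectTransparency.types false
set_option maxHeartbeats 1000000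

universe u

open CategoryTheory CategoryTheory.Limits AlgebraicGeometry TopologicalSpace
open Groth.Agent.CurveCohLib.Polar (InR gη eta_mem gη_res gη_injective)
open Groth.Agent.CurveFF (ratio gM ratio_eq ratio_spec ratio_trans ratio_ne_zero gM_res gM_smul inR_ratio)

noncomputable section

namespace Groth.Agent.AVTate

open Groth.Agent.InvX Groth.Agent.AVTorsChar
open Groth.Agent.AModX (res resR)

section DatPull

variable {X Y X' Y' : Scheme.{u}} {π : X ⟶ Y} {π' : X' ⟶ Y'} {a : X' ⟶ X} {b : Y' ⟶ Y}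
  (hab : a ≫ π = π' ≫ b) {N : Y.Modules}

include hab in
theorem pre_pre (U : Y.Opens) : π' ⁻¹ᵁ (b ⁻¹ᵁ U) ≤ a ⁻¹ᵁ (π ⁻¹ᵁ U) := by
  rw [← Scheme.Hom.comp_preimage, ← Scheme.Hom.comp_preimage, hab]

/-- Functions on preimages, pulled back along a square. -/
def sq (U : Y.Opens) : Γ(X, π ⁻¹ᵁ U) →+* Γ(X', π' ⁻¹ᵁ (b ⁻¹ᵁ U)) :=
  (a.appLE _ _ (pre_pre hab U)).hom

theorem sq_res {U W : Y.Opens} (h : W ≤ U) (f : Γ(X, π ⁻¹ᵁ U)) :
    sq hab W (resR (π.preimage_mono h) f) = resR (π'.preimage_mono (b.preimage_mono h)) (sq hab U f) := by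
  show ((X.presheaf.map (homOfLE (π.preimage_mono h)).op) ≫ a.appLE _ _ (pre_pre hab W)).hom f =
    (a.appLE _ _ (pre_pre hab U) ≫ X'.presheaf.map (homOfLE (π'.preimage_mono (b.preimage_mono h))).op).hom f
  rw [Scheme.Hom.map_appLE, Scheme.Hom.appLE_map]

theorem sq_app (U : Y.Opens) (g : Γ(Y, U)) : sq hab U (π.app U g) = π'.app _ (b.app U g) := by
  show (π.app U ≫ a.appLE _ _ (pre_pre hab U)).hom g = (b.app U ≫ π'.app _).hom g
  rw [← π.appLE_eq_app, ← π'.appLE_eq_app, ← b.appLE_eq_app, Scheme.Hom.appLE_comp_appLE,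
    Scheme.Hom.appLE_comp_appLE]
  simp only [hab]

/-- A trivialisation pulled back along a square. -/
def datPull (D : Dat π N) : Dat π' ((Scheme.Modules.pullback b).obj N) where
  U y := b ⁻¹ᵁ D.U (b y)
  mem y := D.mem (b y)
  e y := pullElt b (D.e (b y))
  frame y := isFrame_pullElt b (D.frame (b y))
  f y := sq hab _ (D.f (b y))
  isUnit y := (D.isUnit (b y)).map _
  compat y z W hy hz g hg := by
    obtain ⟨c, hc⟩ := ((D.frame (b y)).res (inf_le_left : D.U (b y) ⊓ D.U (b z) ≤ _)).exists_coord le_rfl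
      (AModX.res N (inf_le_right : D.U (b y) ⊓ D.U (b z) ≤ _) (D.e (b z)))
    rw [AModX.res_self] at hc
    have hW : W ≤ b ⁻¹ᵁ (D.U (b y) ⊓ D.U (b z)) := fun p hp => ⟨hy hp, hz hp⟩
    have h1 := congrArg (fun t => AModX.res _ hW (pullElt b t)) hc
    simp only [pullElt_smul, ← res_pullElt, AModX.res_smul, AModX.res_res] at h1
    have hgc : g = resR hW (b.app _ c) := by
      refine (isFrame_pullElt b (D.frame (b y))).coord_unique hy ?_
      exact hg.symm.trans h1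
    have h2 := congrArg (resR (π'.preimage_mono hW))
      (congrArg (sq hab _) (D.compat (b y) (b z) _ inf_le_left inf_le_right c hc))
    rw [map_mul, map_mul, sq_res hab inf_le_left, sq_res hab inf_le_right, sq_app hab] at h2
    simp only [AModX.resR_resR] at h2
    rw [h2, hgc, app_resR π' hW]

theorem isChar_datPull (D : Dat π N) {τ : X ⟶ X} {τ' : X' ⟶ X'} (hτ : τ ≫ π = π) (hτ' : τ' ≫ π' = π')
    (hcomm : τ' ≫ a = a ≫ τ) {c : Γ(X, ⊤)} (h : IsChar D hτ c) :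
    IsChar (datPull hab D) hτ' (a.appTop c) := by
  intro y
  show sh π' hτ' _ (sq hab _ (D.f (b y))) = _ * sq hab _ (D.f (b y))
  have h1 := congrArg (sq hab _) (h (b y))
  rw [map_mul] at h1
  have e1 : sh π' hτ' (b ⁻¹ᵁ D.U (b y)) (sq hab _ (D.f (b y))) = sq hab _ (sh π hτ _ (D.f (b y))) := by
    show (a.appLE _ _ (pre_pre hab _) ≫ τ'.appLE _ _ (pre_le π' hτ' _)).hom _ =
      (τ.appLE _ _ (pre_le π hτ _) ≫ a.appLE _ _ (pre_pre hab _)).hom _
    rw [Scheme.Hom.appLE_comp_appLE, Scheme.Hom.appLE_comp_appLE]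
    simp only [hcomm]
  rw [e1, h1]
  congr 1
  show (X.presheaf.map (homOfLE (le_top : π ⁻¹ᵁ D.U (b y) ≤ ⊤)).op ≫ a.appLE _ _ (pre_pre hab _)).hom c =
    (a.app ⊤ ≫ X'.presheaf.map (homOfLE (le_top : π' ⁻¹ᵁ (b ⁻¹ᵁ D.U (b y)) ≤ ⊤)).op).hom c
  rw [Scheme.Hom.map_appLE]
  rfl

end DatPull

section Ratio

variable {X : Scheme.{u}} [IsIntegral X] {M : X.Modules}

theorem unR_ratio {U V : X.Opens} {e : Γ(M, U)} (he : IsFrame e) {e' : Γ(M, V)} (he' : IsFrame e')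
    (hU : genericPoint X ∈ U) (hV : genericPoint X ∈ V) {z : X} (hzU : z ∈ U) (hzV : z ∈ V) :
    UnR z (ratio he hU hV e') := by
  have h3 : ratio he' hV hU e * ratio he hU hV e' = 1 := by
    rw [← ratio_trans he hU he' hV hU e]
    exact ratio_eq he (one_smul _ _)
  refine ⟨inR_ratio he hU hV e' hzU hzV, ?_, ratio_ne_zero he hU he' hV⟩
  rw [inv_eq_of_mul_eq_one_left h3]
  exact inR_ratio he' hV hU e hzV hzU

theorem ratio_of_coord {U₀ W : X.Opens} {e₀ : Γ(M, U₀)} (he₀ : IsFrame e₀) (h₀ : genericPoint X ∈ U₀)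
    {U : X.Opens} (hU : genericPoint X ∈ U) (s : Γ(M, U)) (hW₀ : W ≤ U₀) (hWU : W ≤ U)
    (hW : genericPoint X ∈ W) {r : Γ(X, W)} (h : AModX.res M hWU s = r • AModX.res M hW₀ e₀) :
    ratio he₀ h₀ hU s = gη hW r :=
  ratio_eq he₀ (by rw [← gM_res hWU hW s, h, gM_smul, gM_res hW₀ hW]; rfl)

theorem exists_coord {U₀ : X.Opens} {e₀ : Γ(M, U₀)} (he₀ : IsFrame e₀) (h₀ : genericPoint X ∈ U₀)
    {U : X.Opens} (hU : genericPoint X ∈ U) (s : Γ(M, U)) :
    ∃ r : Γ(X, U₀ ⊓ U), AModX.res M (inf_le_right : U₀ ⊓ U ≤ U) s = r • AModX.res M (inf_le_left : U₀ ⊓ U ≤ U₀) e₀ ∧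
      ratio he₀ h₀ hU s = gη (show genericPoint X ∈ U₀ ⊓ U from ⟨h₀, hU⟩) r := by
  obtain ⟨r, hr⟩ := he₀.exists_coord (inf_le_left : U₀ ⊓ U ≤ U₀) (AModX.res M (inf_le_right : U₀ ⊓ U ≤ U) s)
  exact ⟨r, hr, ratio_of_coord he₀ h₀ hU s (W := U₀ ⊓ U) inf_le_left inf_le_right ⟨h₀, hU⟩ hr⟩

theorem ratio_res {U₀ U V : X.Opens} {e₀ : Γ(M, U₀)} (he₀ : IsFrame e₀) (h₀ : genericPoint X ∈ U₀)
    (hU : genericPoint X ∈ U) (h : U ≤ V) (s : Γ(M, V)) :
    ratio he₀ h₀ hU (AModX.res M h s) = ratio he₀ h₀ (h hU) s :=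
  ratio_eq he₀ (by rw [ratio_spec, gM_res])

theorem ratio_frame_res {U₀ V₀ U : X.Opens} {e₀ : Γ(M, V₀)} (he₀ : IsFrame e₀) (h : U₀ ≤ V₀)
    (h₀ : genericPoint X ∈ U₀) (hU : genericPoint X ∈ U) (s : Γ(M, U)) :
    ratio (he₀.res h) h₀ hU s = ratio he₀ (h h₀) hU s :=
  ratio_eq (he₀.res h) (by rw [gM_res, ratio_spec])

theorem ratio_tmul {N : X.Modules} {U₀ U : X.Opens} {e₀ : Γ(M, U₀)} (he₀ : IsFrame e₀) {m₀ : Γ(N, U₀)}
    (hm₀ : IsFrame m₀) (h₀ : genericPoint X ∈ U₀) (hU : genericPoint X ∈ U) (s : Γ(M, U)) (t : Γ(N, U)) :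
    ratio (isFrame_tmul he₀ hm₀) h₀ hU (tmul s t) = ratio he₀ h₀ hU s * ratio hm₀ h₀ hU t := by
  obtain ⟨r, hr, hr'⟩ := exists_coord he₀ h₀ hU s
  obtain ⟨q, hq, hq'⟩ := exists_coord hm₀ h₀ hU t
  rw [hr', hq', ← map_mul]
  refine ratio_of_coord (isFrame_tmul he₀ hm₀) h₀ hU _ inf_le_left inf_le_right ⟨h₀, hU⟩ ?_
  rw [res_tmul, res_tmul, hr, hq, tmul_smul_left, tmul_smul_right, mul_smul]

theorem ratio_pullElt {X' : Scheme.{u}} [IsIntegral X'] (f : X' ⟶ X) [Dom f] {U₀ U : X.Opens} {e₀ : Γ(M, U₀)}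
    (he₀ : IsFrame e₀) (h₀ : genericPoint X ∈ U₀) (h₀' : genericPoint X' ∈ f ⁻¹ᵁ U₀)
    (hU : genericPoint X ∈ U) (hU' : genericPoint X' ∈ f ⁻¹ᵁ U) (s : Γ(M, U)) :
    ratio (isFrame_pullElt f he₀) h₀' hU' (pullElt f s) = fm f (ratio he₀ h₀ hU s) := by
  obtain ⟨r, hr, hr'⟩ := exists_coord he₀ h₀ hU s
  have h1 := congrArg (pullElt f) hr
  simp only [pullElt_smul, ← res_pullElt] at h1
  rw [ratio_of_coord (isFrame_pullElt f he₀) h₀' hU' (pullElt f s) (W := f ⁻¹ᵁ (U₀ ⊓ U))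
    (f.preimage_mono inf_le_left) (f.preimage_mono inf_le_right) ⟨h₀', hU'⟩ h1, hr']
  exact (fm_gη f (U := U₀ ⊓ U) (x := genericPoint X') ⟨h₀', hU'⟩ r).symm

end Ratio

section Gen

variable {X Y : Scheme.{u}} [IsIntegral X] [IsIntegral Y] {π : X ⟶ Y} [Dom π] {N : Y.Modules}
  {U₀ : Y.Opens} {e₀ : Γ(N, U₀)} (he₀ : IsFrame e₀) (h₀ : genericPoint Y ∈ U₀) (D : Dat π N)

theorem eta_pre {U : Y.Opens} (h : genericPoint Y ∈ U) : genericPoint X ∈ π ⁻¹ᵁ U := by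
  show π (genericPoint X) ∈ U
  rw [Dom.eta]; exact h

/-- The rational function of a trivialisation, computed at `y`. -/
def genAt (y : Y) : X.functionField :=
  gη (eta_pre (π := π) (eta_mem (D.mem y))) (D.f y) * fm π (ratio he₀ h₀ (eta_mem (D.mem y)) (D.e y))

theorem genAt_eq (y z : Y) : genAt he₀ h₀ D y = genAt he₀ h₀ D z := by
  have hyz : genericPoint Y ∈ D.U y ⊓ D.U z := ⟨eta_mem (D.mem y), eta_mem (D.mem z)⟩
  obtain ⟨c, hc⟩ := ((D.frame y).res (inf_le_left : D.U y ⊓ D.U z ≤ _)).exists_coord le_rfl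
    (AModX.res N (inf_le_right : D.U y ⊓ D.U z ≤ _) (D.e z))
  rw [AModX.res_self] at hc
  have h := congrArg (gη (eta_pre (π := π) hyz)) (D.compat y z _ inf_le_left inf_le_right c hc)
  rw [map_mul, gη_res _ _ (eta_pre (π := π) hyz.1), gη_res _ _ (eta_pre (π := π) hyz.2)] at h
  have hz : ratio he₀ h₀ (eta_mem (D.mem z)) (D.e z) = gη hyz c * ratio he₀ h₀ (eta_mem (D.mem y)) (D.e y) := by
    refine ratio_eq he₀ ?_
    rw [mul_smul, ratio_spec, ← gM_res (inf_le_right : D.U y ⊓ D.U z ≤ _) hyz (D.e z), hc, gM_smul,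
      gM_res (inf_le_left : D.U y ⊓ D.U z ≤ _) hyz]
    rfl
  have hpc : gη (eta_pre (π := π) hyz) (π.app _ c) = fm π (gη hyz c) :=
    (fm_gη π (x := genericPoint X) (eta_pre (π := π) hyz) c).symm
  rw [genAt, genAt, hz, map_mul, h, hpc]
  ring

theorem genAt_ne_zero (y : Y) : genAt he₀ h₀ D y ≠ 0 :=
  mul_ne_zero ((D.isUnit y).map _).ne_zero ((map_ne_zero _).2 (ratio_ne_zero he₀ h₀ (D.frame y) _))

/-- At every point the rational function is, up to a unit, the equation of a frame. -/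
theorem unR_genAt (y : Y) (z : X) {U : Y.Opens} {e : Γ(N, U)} (he : IsFrame e) (hz : π z ∈ U) :
    UnR z (genAt he₀ h₀ D y / fm π (ratio he₀ h₀ (eta_mem hz) e)) := by
  rw [genAt_eq he₀ h₀ D y (π z), genAt, ratio_trans he₀ h₀ he (eta_mem hz) (eta_mem (D.mem (π z))) (D.e (π z)),
    map_mul, ← mul_assoc, mul_div_assoc, div_self ((map_ne_zero _).2 (ratio_ne_zero he₀ h₀ he _)), mul_one]
  refine UnR.mul ?_ (unR_fm π (unR_ratio he (D.frame (π z)) _ _ hz (D.mem (π z))))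
  exact unR_gη (W := π ⁻¹ᵁ D.U (π z)) (D.mem (π z)) (D.isUnit (π z))

theorem fm_genAt {τ : X ⟶ X} [Dom τ] (hτ : τ ≫ π = π) {c : Γ(X, ⊤)} (h : IsChar D hτ c) (y : Y) :
    fm τ (genAt he₀ h₀ D y) = gη (W := ⊤) (x := genericPoint X) trivial c * genAt he₀ h₀ D y := by
  have hη : genericPoint X ∈ π ⁻¹ᵁ D.U y := eta_pre (π := π) (eta_mem (D.mem y))
  have hη' : τ (genericPoint X) ∈ π ⁻¹ᵁ D.U y := by rw [Dom.eta]; exact hη
  have e1 : fm τ (gη hη (D.f y)) = gη (W := ⊤) (x := genericPoint X) trivial c * gη hη (D.f y) := by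
    have e2 : fm τ (gη (x := τ (genericPoint X)) hη' (D.f y)) =
        gη (W := τ ⁻¹ᵁ (π ⁻¹ᵁ D.U y)) (x := genericPoint X) hη' (τ.app _ (D.f y)) :=
      fm_gη τ (U := π ⁻¹ᵁ D.U y) (x := genericPoint X) hη' (D.f y)
    rw [show gη hη (D.f y) = gη (x := τ (genericPoint X)) hη' (D.f y) from rfl, e2]
    have e3 := congrArg (gη hη) (h y)
    rw [map_mul, gη_res le_top hη (trivial : genericPoint X ∈ (⊤ : X.Opens))] at e3
    refine (?_ : _ = gη hη (sh π hτ (D.U y) (D.f y))).trans e3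
    exact (gη_res (pre_le π hτ (D.U y)) hη hη' (τ.app _ (D.f y))).symm
  rw [genAt, map_mul, e1, ← fm_comp, fm_congr hτ]
  ring

end Gen

section Alternating

variable {X Y : Scheme.{u}} [IsIntegral X] [IsIntegral Y] (p : X ⟶ Y) [Dom p] (T : X ⟶ X) [Dom T]
  (S : Y ⟶ Y) [Dom S]

/-- **Alternation.** A trivialisation of `p^*(S^*L ⊗ L⁻¹)` is fixed by `T^n` when `T` lies over `S` and `S^n = 1`. -/
theorem eq_one_of_telescope (hTS : T ≫ p = p ≫ S) (n : ℕ) (hS : iter S n = 𝟙 Y)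
    (hconst : ∀ r : Γ(X, ⊤), T.appTop r = r) {L M : Y.Modules} (hL : PicF.IsInvertible L) (hM : PicF.IsInvertible M)
    (hLM : H23.TrivBasic.Triv (CohB1.tensorMod L M))
    (D : Dat p (CohB1.tensorMod ((Scheme.Modules.pullback S).obj L) M))
    {c : Γ(X, ⊤)} (hτ : iter T n ≫ p = p) (h : IsChar D hτ c) : c = 1 := by
  obtain ⟨ε, hε⟩ := hLM.exists_frame
  obtain ⟨V, hηV, l₀, hl₀⟩ := InvX.exists_frame hL (genericPoint Y)
  obtain ⟨V', hηV', m₀, hm₀⟩ := InvX.exists_frame hM (genericPoint Y)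
  have hSV : genericPoint Y ∈ S ⁻¹ᵁ V := eta_pre (π := S) hηV
  let W₀ : Y.Opens := S ⁻¹ᵁ V ⊓ (V ⊓ V')
  have hW₀ : genericPoint Y ∈ W₀ := ⟨hSV, hηV, hηV'⟩
  let s₀ := AModX.res _ (inf_le_left : W₀ ≤ S ⁻¹ᵁ V) (pullElt S l₀)
  let l₁ := AModX.res L (inf_le_right.trans inf_le_left : W₀ ≤ V) l₀
  let m₁ := AModX.res M (inf_le_right.trans inf_le_right : W₀ ≤ V') m₀
  have hs₀ : IsFrame s₀ := (isFrame_pullElt S hl₀).res _
  have hl₁ : IsFrame l₁ := hl₀.res _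
  have hm₁ : IsFrame m₁ := hm₀.res _
  have he₀ := isFrame_tmul hs₀ hm₁
  choose U hU e he using InvX.exists_frame hL
  choose U' hU' e' he' using InvX.exists_frame hM
  let DD : Y → Y.functionField := fun P => ratio hl₀ hηV (eta_mem (hU P)) (e P)
  let hh : Y.functionField := ratio (isFrame_tmul hl₁ hm₁) hW₀ (U := ⊤) trivial ε
  have hh0 : hh ≠ 0 := ratio_ne_zero _ _ hε _
  let g := genAt he₀ hW₀ D (genericPoint Y) / fm p hh
  have hg : g ≠ 0 := div_ne_zero (genAt_ne_zero _ _ _ _) ((map_ne_zero _).2 hh0)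
  have key := fm_iter_eq_self T S p hTS n hS DD (fun P => ratio_ne_zero _ _ (he P) _) hg (fun z => ?_) hconst
  · rw [map_div₀, fm_genAt he₀ hW₀ D hτ h, ← fm_comp, fm_congr hτ, mul_div_assoc] at key
    refine gη_injective (W := ⊤) (x := genericPoint X) trivial ?_
    rw [map_one]
    exact mul_right_cancel₀ hg (key.trans (one_mul g).symm)
  · let P := p z
    let W : Y.Opens := S ⁻¹ᵁ U (S P) ⊓ (U P ⊓ U' P)
    have hPW : P ∈ W := ⟨hU (S P), hU P, hU' P⟩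
    let sP := AModX.res _ (inf_le_left : W ≤ S ⁻¹ᵁ U (S P)) (pullElt S (e (S P)))
    let lP := AModX.res L (inf_le_right.trans inf_le_left : W ≤ U P) (e P)
    let mP := AModX.res M (inf_le_right.trans inf_le_right : W ≤ U' P) (e' P)
    have hsP : IsFrame sP := (isFrame_pullElt S (he (S P))).res _
    have hlP : IsFrame lP := (he P).res _
    have hmP : IsFrame mP := (he' P).res _
    have hηW : genericPoint Y ∈ W := eta_mem hPW
    have h1 := unR_genAt he₀ hW₀ D (genericPoint Y) z (isFrame_tmul hsP hmP) (show p z ∈ W from hPW)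
    have r1 : ratio hs₀ hW₀ hηW sP = fm S (DD (S P)) := by
      rw [ratio_res, ratio_frame_res]
      exact ratio_pullElt S hl₀ hηV hSV (eta_mem (hU (S P))) _ (e (S P))
    have r2 : ratio hl₁ hW₀ hηW lP = DD P := by rw [ratio_res, ratio_frame_res]
    have h2 : UnR P (ratio (isFrame_tmul hl₁ hm₁) hW₀ hηW (tmul lP mP) / hh) := by
      rw [ratio_trans (isFrame_tmul hl₁ hm₁) hW₀ hε (U := ⊤) trivial hηW (tmul lP mP), mul_div_assoc,
        div_self hh0, mul_one]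
      exact unR_ratio hε (isFrame_tmul hlP hmP) _ _ trivial hPW
    rw [ratio_tmul hl₁ hm₁, r2] at h2
    rw [ratio_tmul hs₀ hm₁, r1] at h1
    have e1 : g / fm p (fm S (DD (S P)) / DD P) =
        genAt he₀ hW₀ D (genericPoint Y) / fm p (fm S (DD (S P)) * ratio hm₁ hW₀ hηW mP) *
          fm p (DD P * ratio hm₁ hW₀ hηW mP / hh) := by
      have hb : fm p (ratio hm₁ hW₀ hηW mP) ≠ 0 := (map_ne_zero _).2 (ratio_ne_zero _ _ hmP _)
      have ha : fm p (fm S (DD (S P))) ≠ 0 := (map_ne_zero _).2 ((map_ne_zero _).2 (ratio_ne_zero _ _ (he _) _))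
      have hd : fm p (DD P) ≠ 0 := (map_ne_zero _).2 (ratio_ne_zero _ _ (he P) _)
      have hh' : fm p hh ≠ 0 := (map_ne_zero _).2 hh0
      simp only [g, map_mul, map_div₀]
      field_simp
    show UnR z (g / fm p (fm S (DD (S P)) / DD P))
    rw [e1]
    exact h1.mul (unR_fm p h2)

end Alternating

end Groth.Agent.AVTate
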