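import Mathlib.LinearAlgebra.Lagrange
import Mathlib.LinearAlgebra.Eigenspace.Minpoly
import Mathlib.RingTheory.Adjoin.Polynomial.Basic
import Mathlib.Algebra.Algebra.Pi

/-!
# Endomorphisms killed by a product of distinct linear factors
-/

set_option autoImplicit false

open Polynomial

namespace Groth.Agent.AVTate

variable {K V : Type*} [Field K] [AddCommGroup V] [Module K V] {ι : Type*} [Fintype ι]
  {f : Module.End K V} {r : ι → K}

theorem exists_eigen_sum (hr : Function.Injective r) (hf : aeval f (∏ i, (X - C (r i))) = 0) (v : V) :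
    ∃ w : ι → V, (∀ i, f (w i) = r i • w i) ∧ v = ∑ i, w i := by
  classical
  rcases isEmpty_or_nonempty ι with hι | hι
  · refine ⟨fun i => isEmptyElim i, fun i => isEmptyElim i, ?_⟩
    rw [Finset.univ_eq_empty, Finset.prod_empty, map_one] at hf
    rw [Finset.univ_eq_empty, Finset.sum_empty]
    exact LinearMap.congr_fun hf v
  refine ⟨fun i => aeval f (Lagrange.basis Finset.univ r i) v, fun i => ?_, ?_⟩
  · have hd : (∏ j, (X - C (r j))) ∣ (X - C (r i)) * Lagrange.basis Finset.univ r i := by
      refine Finset.prod_dvd_of_coprime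
        (fun a _ b _ hab => isCoprime_X_sub_C_of_isUnit_sub (sub_ne_zero.2 (hr.ne hab)).isUnit) fun j _ => ?_
      rw [dvd_iff_isRoot, IsRoot, eval_mul]
      rcases eq_or_ne j i with rfl | hji
      · simp
      · rw [Lagrange.eval_basis_of_ne hji.symm (Finset.mem_univ j), mul_zero]
    obtain ⟨q, hq⟩ := hd
    have h0 := congrArg (aeval f) hq
    rw [map_mul, map_mul, hf, zero_mul, map_sub, aeval_X, aeval_C] at h0
    have h1 := LinearMap.congr_fun h0 v
    rw [Module.End.mul_apply, LinearMap.sub_apply, Module.algebraMap_end_apply, LinearMap.zero_apply, sub_eq_zero] at h1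
    exact h1
  · rw [← LinearMap.sum_apply, ← map_sum, Lagrange.sum_basis hr.injOn Finset.univ_nonempty, map_one]
    rfl

/-- An endomorphism preserving all eigenlines is a scalar on each eigenspace. -/
theorem apply_eq_smul_of_eigen {d : Module.End K V} (hd : ∀ (v : V) (a : K), f v = a • v → ∃ c : K, d v = c • v)
    {a : K} {v u : V} (hv : f v = a • v) (hu : f u = a • u) (hv0 : v ≠ 0) {c : K} (hc : d v = c • v) :
    d u = c • u := by
  obtain ⟨c', hc'⟩ := hd u a hu
  obtain ⟨c'', hc''⟩ := hd (v + u) a (by rw [map_add, hv, hu, smul_add])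
  rw [map_add, hc, hc', smul_add] at hc''
  by_cases hli : LinearIndependent K ![v, u]
  · have h := LinearIndependent.pair_iff.1 hli (c - c'') (c' - c'') (by
      rw [sub_smul, sub_smul, sub_add_sub_comm, hc'', sub_self])
    rw [hc', show c' = c from (sub_eq_zero.1 h.2).trans (sub_eq_zero.1 h.1).symm]
  · rw [LinearIndependent.pair_iff' hv0] at hli
    push_neg at hli
    obtain ⟨s, rfl⟩ := hli
    rw [map_smul, hc, smul_smul, smul_smul, mul_comm]

/-- An endomorphism preserving all eigenlines commutes with the commutant. -/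
theorem commute_of_eigen (hr : Function.Injective r) (hf : aeval f (∏ i, (X - C (r i))) = 0)
    {d φ : Module.End K V} (hd : ∀ (v : V) (a : K), f v = a • v → ∃ c : K, d v = c • v) (hφ : φ * f = f * φ) :
    φ * d = d * φ := by
  refine LinearMap.ext fun v => ?_
  obtain ⟨w, hw, rfl⟩ := exists_eigen_sum hr hf v
  simp only [map_sum]
  refine Finset.sum_congr rfl fun i _ => ?_
  show φ (d (w i)) = d (φ (w i))
  rcases eq_or_ne (w i) 0 with h0 | h0
  · simp [h0]
  obtain ⟨c, hc⟩ := hd _ _ (hw i)
  have h2 : f (φ (w i)) = r i • φ (w i) := by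
    rw [← map_smul, ← hw i]
    exact (LinearMap.congr_fun hφ (w i)).symm
  rw [hc, map_smul, apply_eq_smul_of_eigen hd (hw i) h2 h0 hc]

theorem exists_algEquiv_pi (hr : Function.Injective r) (hf : aeval f (∏ i, (X - C (r i))) = 0) :
    ∃ s : ℕ, Nonempty (Algebra.adjoin K {f} ≃ₐ[K] (Fin s → K)) := by
  classical
  let S : Finset ι := Finset.univ.filter fun i => ∃ v : V, v ≠ 0 ∧ f v = r i • v
  have key : ∀ p : K[X], aeval f p = 0 ↔ ∀ i ∈ S, p.eval (r i) = 0 := by
    intro p
    constructor
    · intro hp i hi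
      obtain ⟨v, hv, hfv⟩ := (Finset.mem_filter.1 hi).2
      have h := Module.End.aeval_apply_of_hasEigenvector (p := p) ⟨Module.End.mem_eigenspace_iff.2 hfv, hv⟩
      rw [hp, LinearMap.zero_apply] at h
      exact (smul_eq_zero.1 h.symm).resolve_right hv
    · intro hp
      refine LinearMap.ext fun v => ?_
      obtain ⟨w, hw, rfl⟩ := exists_eigen_sum hr hf v
      rw [map_sum, LinearMap.zero_apply]
      refine Finset.sum_eq_zero fun i _ => ?_
      rcases eq_or_ne (w i) 0 with h0 | h0
      · simp [h0]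
      rw [Module.End.aeval_apply_of_hasEigenvector (p := p) ⟨Module.End.mem_eigenspace_iff.2 (hw i), h0⟩,
        hp i (Finset.mem_filter.2 ⟨Finset.mem_univ _, w i, h0, hw i⟩), zero_smul]
  let e := S.equivFin
  let f₁ : K[X] →ₐ[K] (aeval f : K[X] →ₐ[K] Module.End K V).range := (aeval f).rangeRestrict
  let f₂ : K[X] →ₐ[K] (Fin S.card → K) := Pi.algHom K _ fun j => aeval (r (e.symm j).1)
  have h₂ : Function.Surjective f₂ := fun c => by
    refine ⟨Lagrange.interpolate S r fun i => if h : i ∈ S then c (e ⟨i, h⟩) else 0, funext fun j => ?_⟩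
    show aeval (r (e.symm j).1) _ = c j
    rw [coe_aeval_eq_eval, Lagrange.eval_interpolate_at_node _ hr.injOn (e.symm j).2, dif_pos (e.symm j).2]
    simp
  have hker : RingHom.ker f₁ = RingHom.ker f₂ := by
    ext p
    rw [RingHom.mem_ker, RingHom.mem_ker, Subtype.ext_iff]
    refine (key p).trans ⟨fun h => funext fun j => ?_, fun h i hi => ?_⟩
    · show aeval (r (e.symm j).1) p = 0
      rw [coe_aeval_eq_eval]; exact h _ (e.symm j).2
    · have h' : aeval (r (e.symm (e ⟨i, hi⟩)).1) p = 0 := congrFun h (e ⟨i, hi⟩)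
      rwa [coe_aeval_eq_eval, Equiv.symm_apply_apply] at h'
  exact ⟨S.card, ⟨(Subalgebra.equivOfEq _ _ (Algebra.adjoin_singleton_eq_range_aeval K f)).trans
    ((Ideal.quotientKerAlgEquivOfSurjective (AlgHom.rangeRestrict_surjective (aeval f))).symm.trans
      ((Ideal.quotientEquivAlgOfEq K hker).trans (Ideal.quotientKerAlgEquivOfSurjective h₂)))⟩⟩

theorem adjoin_eq_span_pow : Subalgebra.toSubmodule (Algebra.adjoin K {f}) =
    Submodule.span K (Set.range fun n : ℕ => f ^ n) := by
  rw [Algebra.adjoin_eq_span, ← Submonoid.powers_eq_closure, Submonoid.coe_powers]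

end Groth.Agent.AVTate
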