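import Groth.Agent.AVTors.TatePt
import Groth.Agent.Lib.AVWeilCount
import Groth.Agent.Lib.AVFrobExists
import Groth.Agent.Lib.AVSemisimple
import Mathlib.FieldTheory.Finite.Basic
import Groth.Prelude.Def_SGA7a

/-!
# Galois acts on torsion points through powers of the Frobenius
-/

set_option autoImplicit false
set_option linter.style.haveILetI false
set_option linter.unusedSectionVars false
set_option backward.isDefEq.respectTransparency false
set_option backward.isDefEq.respectTransparency.types false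
set_option maxHeartbeats 1000000
set_option synthInstance.maxHeartbeats 400000

universe u

open CategoryTheory CategoryTheory.Limits MonoidalCategory CartesianMonoidalCategory MonObj AlgebraicGeometry

noncomputable section

namespace Groth.Agent.AVTate

variable {k : Type u} [Field k]

/-- The `q`-Frobenius endomorphism. -/
def IsFrob (X : Over (Spec (CommRingCat.of k))) (π : X ⟶ X) : Prop :=
  π.left.base = 𝟙 _ ∧ ∃ hle : ∀ U : X.left.Opens, U ≤ π.left ⁻¹ᵁ U,
    ∀ (U : X.left.Opens) (s : Γ(X.left, U)), (π.left.appLE U U (hle U)).hom s = s ^ Nat.card k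

variable [Finite k]

theorem exists_isFrob (X : Over (Spec (CommRingCat.of k))) [GrpObj X] [IsProper X.hom] [GeometricallyIntegral X.hom] :
    ∃ (π : X ⟶ X) (_ : IsMonHom π), IsFrob X π := by
  obtain ⟨π, h, hle, hb, happ⟩ := AVFrobExists.exists_frob X
  exact ⟨π, h, hb, hle, happ⟩

theorem exists_card_eq : ∃ p r : ℕ, p.Prime ∧ CharP k p ∧ 0 < r ∧ Nat.card k = p ^ r := by
  haveI := Fintype.ofFinite k
  obtain ⟨p, hp⟩ := CharP.exists k
  haveI := hp
  obtain ⟨r, hpp, hr⟩ := FiniteField.card k p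
  exact ⟨p, r, hpp, hp, r.pos, by rw [Nat.card_eq_fintype_card, hr]⟩

variable {X Y : Over (Spec (CommRingCat.of k))} [GrpObj X] [IsCommMonObj X] [IsProper X.hom]
  [GeometricallyIntegral X.hom] [GrpObj Y] [IsCommMonObj Y] [IsProper Y.hom] [GeometricallyIntegral Y.hom]

theorem IsFrob.natural {π : X ⟶ X} [IsMonHom π] {π' : Y ⟶ Y} [IsMonHom π'] (hπ : IsFrob X π) (hπ' : IsFrob Y π') (f : X ⟶ Y) :
    π ≫ f = f ≫ π' := by
  obtain ⟨-, hle, happ⟩ := hπ
  obtain ⟨-, hle', happ'⟩ := hπ'
  obtain ⟨p, r, hp, hc, -, hq⟩ := exists_card_eq (k := k)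
  haveI := hc
  haveI := Fact.mk hp
  exact AVSemisimple.frob_natural f π π' (Nat.card k) p r hq hle happ hle' happ'

theorem IsFrob.central {π : X ⟶ X} [IsMonHom π] (hπ : IsFrob X π) (φ : EndAV.End X) :
    φ * EndAV.End.of π = EndAV.End.of π * φ := EndAV.End.ext (by
  rw [EndAV.End.toHom_mul, EndAV.End.toHom_mul]
  exact hπ.natural hπ φ.toHom)

theorem IsFrob.unique {π π' : X ⟶ X} [IsMonHom π] [IsMonHom π'] (hπ : IsFrob X π) (hπ' : IsFrob X π') : π = π' := by
  simpa using hπ.natural hπ' (𝟙 X)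

variable {Ω : Type u} [Field Ω] [Algebra k Ω] [IsAlgClosure k Ω]

/-- The Frobenius automorphism acts as the Frobenius endomorphism. -/
theorem galAct_frob {π : X ⟶ X} [IsMonHom π] (hπ : IsFrob X π) :
    ∃ τ : Ω ≃ₐ[k] Ω, ∀ x : SGA7.pt Ω ⟶ X, SGA7.galAct τ x = x ≫ π := by
  obtain ⟨-, hle, happ⟩ := hπ
  obtain ⟨p, r, hp, hc, -, hq⟩ := exists_card_eq (k := k)
  haveI := hc
  haveI := Fact.mk hp
  haveI := Fintype.ofFinite k
  haveI : Algebra.IsAlgebraic k Ω := IsAlgClosure.isAlgebraic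
  haveI : CharP Ω p := charP_of_injective_algebraMap (algebraMap k Ω).injective p
  refine ⟨FiniteField.frobeniusAlgEquivOfAlgebraic k Ω, fun x => Over.OverMorphism.ext ?_⟩
  exact (AVWeilCount.comp_eq π (Nat.card k) hle happ p r hq
    ((FiniteField.frobeniusAlgEquivOfAlgebraic k Ω : Ω ≃ₐ[k] Ω) : Ω →+* Ω) (fun a => by
      rw [Nat.card_eq_fintype_card]
      exact congrFun (FiniteField.coe_frobeniusAlgEquivOfAlgebraic k Ω) a) x.left).symm

/-- On torsion points every automorphism acts as a power of the Frobenius. -/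
theorem exists_galAct_eq {π : X ⟶ X} [IsMonHom π] (hπ : IsFrob X π) (σ : Ω ≃ₐ[k] Ω) (x : SGA7.pt Ω ⟶ X)
    (n : ℕ) (hn : 0 < n) (hx : x ^ n = 1) :
    ∃ j : ℕ, SGA7.galAct σ x = x ≫ (EndAV.End.of π ^ j).toHom := by
  classical
  haveI : IsAlgClosed Ω := IsAlgClosure.isAlgClosed k
  haveI : Algebra.IsAlgebraic k Ω := IsAlgClosure.isAlgebraic
  obtain ⟨-, hle, happ⟩ := hπ
  obtain ⟨p, r, hp, hc, hr, hq⟩ := exists_card_eq (k := k)
  haveI := hc
  haveI := Fact.mk hp
  haveI := Fintype.ofFinite k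
  haveI : CharP Ω p := charP_of_injective_algebraMap (algebraMap k Ω).injective p
  haveI : ExpChar Ω p := ExpChar.prime hp
  have hF := fun j => AVWeilCount.comp_pow_eq π (Nat.card k) hle happ p r hq j x.left
  obtain ⟨g, hg⟩ := AVTors.exists_dimNat X
  haveI : Finite (AbDual.torsPts X n (SGA7.pt Ω)) := (AVTors.finite_torsPts_pt Ω X hg n hn).1
  obtain ⟨a, b, hab, he⟩ := Finite.exists_ne_map_eq_of_infinite fun j : ℕ =>
    (⟨x ≫ (EndAV.End.of π ^ j).toHom, show (x ≫ (EndAV.End.of π ^ j).toHom) ^ n = 1 by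
      rw [← MonObj.pow_comp, hx, MonObj.one_comp]⟩ : AbDual.torsPts X n (SGA7.pt Ω))
  have he' : x.left ≫ (EndAV.End.of π ^ a).toHom.left = x.left ≫ (EndAV.End.of π ^ b).toHom.left := by
    rw [← Over.comp_left, ← Over.comp_left]
    exact congrArg (fun z : AbDual.torsPts X n (SGA7.pt Ω) => (z.1 : SGA7.pt Ω ⟶ X).left) he
  rw [hF, hF] at he'
  obtain ⟨j, hj, hfix⟩ : ∃ j : ℕ, 0 < j ∧
      Spec.map (CommRingCat.ofHom (iterateFrobenius Ω p (r * j))) ≫ x.left = x.left := by
    wlog hlt : a < b generalizing a b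
    · exact this b a hab.symm he.symm he'.symm (by omega)
    refine ⟨b - a, by omega, ?_⟩
    haveI : IsIso (CommRingCat.ofHom (iterateFrobenius Ω p (r * a))) :=
      (inferInstance : IsIso (iterateFrobeniusEquiv Ω p (r * a)).toCommRingCatIso.hom)
    rw [← cancel_epi (Spec.map (CommRingCat.ofHom (iterateFrobenius Ω p (r * a)))), he', ← Category.assoc,
      ← Spec.map_comp]
    congr 2
    refine CommRingCat.hom_ext (RingHom.ext fun z => ?_)
    show iterateFrobenius Ω p (r * a) (iterateFrobenius Ω p (r * (b - a)) z) = iterateFrobenius Ω p (r * b) z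
    rw [← iterateFrobenius_add_apply, ← Nat.mul_add, Nat.add_sub_cancel' hlt.le]
  obtain ⟨_, ⟨U, hU, rfl⟩, hxU, -⟩ :=
    X.left.isBasis_affineOpens.exists_subset_of_mem_open (Set.mem_univ (x.left (IsLocalRing.closedPoint Ω))) isOpen_univ
  have hrange : Set.range x.left ⊆ Set.range hU.fromSpec := by
    rw [hU.range_fromSpec]
    rintro _ ⟨z, rfl⟩
    rwa [show z = IsLocalRing.closedPoint Ω from @Subsingleton.elim (Spec (CommRingCat.of Ω)) inferInstance _ _]
  obtain ⟨φ, hφ⟩ : ∃ φ, Spec.map φ = IsOpenImmersion.lift hU.fromSpec x.left hrange := ⟨_, Spec.map_preimage _⟩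
  have hxφ : Spec.map φ ≫ hU.fromSpec = x.left := by rw [hφ]; exact IsOpenImmersion.lift_fac _ _ _
  have hinv : ∀ c, φ.hom c ^ p ^ (r * j) = φ.hom c := fun c => by
    rw [← hxφ, ← Category.assoc] at hfix
    have h2 := (cancel_mono hU.fromSpec).1 hfix
    rw [← Spec.map_comp] at h2
    have h3 := congrArg (fun ψ => ψ.hom c) (Spec.map_injective h2)
    simpa [iterateFrobenius_def] using h3
  have hQ1 : 1 < p ^ (r * j) := Nat.one_lt_pow (Nat.mul_ne_zero hr.ne' hj.ne') hp.one_lt
  let S : Set Ω := ↑(Polynomial.X ^ p ^ (r * j) - Polynomial.X : Polynomial Ω).roots.toFinset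
  haveI : Finite S := (Finset.finite_toSet _).to_subtype
  let K : IntermediateField k Ω := IntermediateField.adjoin k S
  haveI : FiniteDimensional k K :=
    IntermediateField.finiteDimensional_adjoin fun s _ => (Algebra.IsIntegral.isIntegral s)
  haveI : Finite K := Module.finite_of_finite k
  haveI : IsGalois k K := inferInstance
  obtain ⟨i, hi⟩ := (FiniteField.bijective_frobeniusAlgEquivOfAlgebraic_pow k K).2 (AlgEquiv.restrictNormal σ K)
  refine ⟨i, Over.OverMorphism.ext ?_⟩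
  show Spec.map (CommRingCat.ofHom (σ : Ω →+* Ω)) ≫ x.left = x.left ≫ (EndAV.End.of π ^ (i : ℕ)).toHom.left
  rw [hF, ← hxφ, ← Category.assoc, ← Category.assoc, ← Spec.map_comp, ← Spec.map_comp]
  congr 2
  refine CommRingCat.hom_ext (RingHom.ext fun c => ?_)
  show σ (φ.hom c) = iterateFrobenius Ω p (r * i) (φ.hom c)
  have hc' : φ.hom c ∈ K := IntermediateField.subset_adjoin k S (by
    simp only [S, Finset.mem_coe, Multiset.mem_toFinset,
      Polynomial.mem_roots (FiniteField.X_pow_card_sub_X_ne_zero Ω hQ1), Polynomial.IsRoot, Polynomial.eval_sub,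
      Polynomial.eval_pow, Polynomial.eval_X, sub_eq_zero]
    exact hinv c)
  refine (AlgEquiv.restrictNormal_commutes σ K ⟨φ.hom c, hc'⟩).symm.trans ?_
  rw [← hi, AlgEquiv.coe_pow, FiniteField.coe_frobeniusAlgEquivOfAlgebraic_iterate, iterateFrobenius_def]
  show φ.hom c ^ (Fintype.card k ^ (i : ℕ)) = _
  rw [← Nat.card_eq_fintype_card, hq, ← pow_mul]

end Groth.Agent.AVTate
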