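import Groth.Agent.AVTate.Lattice
import Mathlib.Algebra.MvPolynomial.Funext
import Mathlib.LinearAlgebra.Determinant
import Mathlib.NumberTheory.Padics.RingHoms
import Mathlib.LinearAlgebra.Matrix.ToLin

/-!
# Spans of integral maps inside rational ones
-/

set_option autoImplicit false

open scoped TensorProduct
open Groth.Agent.AVTors.TateSemi (exists_smul_eq_tmul tmul_injective)

noncomputable section

namespace Groth.Agent.AVTate

variable {l : ℕ} [Fact l.Prime] {M N : Type*} [AddCommGroup M] [Module ℤ_[l] M] [AddCommGroup N] [Module ℤ_[l] N]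

theorem baseChange_injective' [Module.Free ℤ_[l] N] {f g : M →ₗ[ℤ_[l]] N}
    (h : f.baseChange ℚ_[l] = g.baseChange ℚ_[l]) : f = g :=
  LinearMap.ext fun t => tmul_injective (by
    show (1 : ℚ_[l]) ⊗ₜ[ℤ_[l]] f t = (1 : ℚ_[l]) ⊗ₜ[ℤ_[l]] g t
    rw [← LinearMap.baseChange_tmul, h, LinearMap.baseChange_tmul])

/-- Clearing the denominators of a member of a rational span. -/
theorem exists_smul_mem (S : Submodule ℤ_[l] (M →ₗ[ℤ_[l]] N))
    {x : ℚ_[l] ⊗[ℤ_[l]] M →ₗ[ℚ_[l]] ℚ_[l] ⊗[ℤ_[l]] N}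
    (hx : x ∈ Submodule.span ℚ_[l] ((fun s : M →ₗ[ℤ_[l]] N => s.baseChange ℚ_[l]) '' (S : Set (M →ₗ[ℤ_[l]] N)))) :
    ∃ a : ℤ_[l], a ≠ 0 ∧ ∃ s ∈ S, a • x = s.baseChange ℚ_[l] := by
  induction hx using Submodule.span_induction with
  | mem x hx => obtain ⟨s, hs, rfl⟩ := hx; exact ⟨1, one_ne_zero, s, hs, one_smul _ _⟩
  | zero => exact ⟨1, one_ne_zero, 0, S.zero_mem, by rw [smul_zero, LinearMap.baseChange_zero]⟩
  | add x y _ _ hx hy =>
    obtain ⟨a, ha, s, hs, hxs⟩ := hx
    obtain ⟨b, hb, t, ht, hyt⟩ := hy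
    refine ⟨a * b, mul_ne_zero ha hb, b • s + a • t, S.add_mem (S.smul_mem _ hs) (S.smul_mem _ ht), ?_⟩
    rw [LinearMap.baseChange_add, LinearMap.baseChange_smul, LinearMap.baseChange_smul, ← hxs, ← hyt, smul_smul,
      smul_smul, smul_add, mul_comm b a]
  | smul q x _ hx =>
    obtain ⟨a, ha, s, hs, hxs⟩ := hx
    obtain ⟨⟨y, ⟨b, hb⟩⟩, hq⟩ := IsLocalization.surj (nonZeroDivisors ℤ_[l]) q
    refine ⟨b * a, mul_ne_zero (nonZeroDivisors.ne_zero hb) ha, y • s, S.smul_mem _ hs, ?_⟩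
    rw [LinearMap.baseChange_smul, ← hxs, ← algebraMap_smul ℚ_[l] (b * a), ← algebraMap_smul ℚ_[l] y,
      ← algebraMap_smul ℚ_[l] a, smul_smul, smul_smul, ← hq, map_mul]
    congr 1
    ring

/-- Clearing the denominators of a linear map. -/
theorem exists_smul_eq_baseChange' [Module.Free ℤ_[l] M] [Module.Finite ℤ_[l] M] [Module.Free ℤ_[l] N]
    [Module.Finite ℤ_[l] N] (φ : ℚ_[l] ⊗[ℤ_[l]] M →ₗ[ℚ_[l]] ℚ_[l] ⊗[ℤ_[l]] N) :
    ∃ a : ℤ_[l], a ≠ 0 ∧ ∃ ψ : M →ₗ[ℤ_[l]] N, a • φ = ψ.baseChange ℚ_[l] := by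
  classical
  let b := Module.Free.chooseBasis ℤ_[l] M
  choose a ha t ht using fun i => exists_smul_eq_tmul (φ ((1 : ℚ_[l]) ⊗ₜ[ℤ_[l]] b i))
  refine ⟨∏ i, a i, Finset.prod_ne_zero_iff.2 fun i _ => ha i,
    b.constr ℤ_[l] fun i => (∏ j ∈ Finset.univ.erase i, a j) • t i, ?_⟩
  refine (Algebra.TensorProduct.basis ℚ_[l] b).ext fun i => ?_
  rw [Algebra.TensorProduct.basis_apply, LinearMap.baseChange_tmul, Module.Basis.constr_basis, LinearMap.smul_apply,
    TensorProduct.tmul_smul, ← ht, smul_smul, Finset.prod_erase_mul _ _ (Finset.mem_univ i)]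

/-- A family of maps whose rational span contains an isomorphism has an integral combination that is one. -/
theorem exists_int_comb_bijective {K V W : Type*} [Field K] [CharZero K] [AddCommGroup V] [Module K V]
    [AddCommGroup W] [Module K W] [FiniteDimensional K V] {n : ℕ} (f : Fin n → (V →ₗ[K] W)) {φ : V →ₗ[K] W}
    (hφ : φ ∈ Submodule.span K (Set.range f)) (hb : Function.Bijective φ) :
    ∃ z : Fin n → ℤ, Function.Bijective (∑ i, (z i : K) • f i : V →ₗ[K] W) := by
  classical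
  obtain ⟨c, hc⟩ := (Submodule.mem_span_range_iff_exists_fun K).1 hφ
  let e := LinearEquiv.ofBijective φ hb
  let b := Module.finBasis K V
  let G : Fin n → Matrix (Fin (Module.finrank K V)) (Fin (Module.finrank K V)) K := fun i => LinearMap.toMatrix b b (e.symm.toLinearMap ∘ₗ f i)
  let P : MvPolynomial (Fin n) K := (∑ i : Fin n, (MvPolynomial.X i : MvPolynomial (Fin n) K) • (G i).map (MvPolynomial.C (σ := Fin n))).det
  have hP : ∀ x : Fin n → K, MvPolynomial.eval x P =
      LinearMap.det (e.symm.toLinearMap ∘ₗ ∑ i, x i • f i) := by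
    intro x
    rw [← LinearMap.det_toMatrix b, RingHom.map_det, RingHom.mapMatrix_apply]
    congr 1
    ext i j
    have hcs : e.symm.toLinearMap ∘ₗ ∑ i, x i • f i = ∑ i, x i • (e.symm.toLinearMap ∘ₗ f i) :=
      LinearMap.ext fun v => by simp
    rw [hcs, map_sum]
    simp [G, Matrix.sum_apply]
  have hP0 : P ≠ 0 := fun h => by
    have h1 := hP c
    rw [h, map_zero, hc, show e.symm.toLinearMap ∘ₗ φ = LinearMap.id from LinearMap.ext e.symm_apply_apply,
      LinearMap.det_id] at h1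
    exact zero_ne_one h1
  by_contra hcon
  refine hP0 (MvPolynomial.funext_set (fun _ => Set.range (Int.cast : ℤ → K))
    (fun _ => Set.infinite_range_of_injective Int.cast_injective) fun x hx => ?_)
  choose z hz using fun i => hx i (Set.mem_univ i)
  rw [map_zero, hP]
  by_contra hdet
  refine hcon ⟨z, ?_⟩
  have h2 : Function.Bijective (e.symm.toLinearMap ∘ₗ ∑ i, x i • f i) :=
    (LinearMap.equivOfDetNeZero _ hdet).bijective
  have h3 := e.bijective.comp h2
  have h4 : ⇑(∑ i, (z i : K) • f i) = ⇑e ∘ ⇑(e.symm.toLinearMap ∘ₗ ∑ i, x i • f i) := funext fun v => by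
    simp [← hz]
  rw [h4]
  exact h3

/-- A matrix congruent to the identity modulo `l` is invertible. -/
theorem isUnit_det_of_congr [Module.Free ℤ_[l] M] [Module.Finite ℤ_[l] M] (f : Module.End ℤ_[l] M)
    (g : Module.End ℤ_[l] M) (h : f = 1 + (l : ℤ_[l]) • g) : IsUnit (LinearMap.det f) := by
  classical
  let b := Module.Free.chooseBasis ℤ_[l] M
  rw [← LinearMap.det_toMatrix b]
  by_contra hu
  have h0 : PadicInt.toZMod (LinearMap.toMatrix b b f).det = 0 := by
    rw [← RingHom.mem_ker, PadicInt.ker_toZMod, IsLocalRing.mem_maximalIdeal]; exact hu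
  rw [RingHom.map_det, RingHom.mapMatrix_apply, h, map_add, map_smul, LinearMap.toMatrix_one] at h0
  have h1 : (1 + (l : ℤ_[l]) • LinearMap.toMatrix b b g).map PadicInt.toZMod = 1 := by
    ext i j
    by_cases hij : i = j <;> simp [hij, Matrix.one_apply]
  rw [h1, Matrix.det_one] at h0
  exact one_ne_zero h0

end Groth.Agent.AVTate
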