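import Groth.Agent.AVTate.Main
import Groth.Agent.AVTate.LinHom
import Groth.Agent.AVTors.AntiEquivProd
import Groth.Agent.S16588

/-!
# Tate's theorem for homomorphisms; isogenies
-/

set_option autoImplicit false
set_option linter.style.haveILetI false
set_option linter.unusedSectionVars false
set_option backward.isDefEq.respectTransparency false
set_option backward.isDefEq.respectTransparency.types false
set_option maxHeartbeats 2000000
set_option synthInstance.maxHeartbeats 400000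

universe u

open CategoryTheory CategoryTheory.Limits MonoidalCategory CartesianMonoidalCategory MonObj AlgebraicGeometry
open scoped TensorProduct

noncomputable section

namespace Groth.Agent.AVTate

section Basic

variable {k : Type u} [Field k] (Ω : Type u) [Field Ω] [Algebra k Ω] (l : ℕ) [Fact l.Prime]
  {A B D : Over (Spec (CommRingCat.of k))} [GrpObj A] [IsCommMonObj A] [GrpObj B] [IsCommMonObj B]
  [GrpObj D] [IsCommMonObj D]

/-- The rational Tate module. -/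
abbrev VT (A : Over (Spec (CommRingCat.of k))) [GrpObj A] [IsCommMonObj A] :=
  ℚ_[l] ⊗[ℤ_[l]] AbDual.TateMod A l (SGA7.pt Ω)

/-- The action of a homomorphism on rational Tate modules. -/
def repH (f : EndAV.Hom A B) : VT Ω l A →ₗ[ℚ_[l]] VT Ω l B :=
  (EndAV.Hom.tateMap l (SGA7.pt Ω) f).baseChange ℚ_[l]

theorem repH_add (f g : EndAV.Hom A B) : repH Ω l (f + g) = repH Ω l f + repH Ω l g := by
  rw [repH, map_add, LinearMap.baseChange_add]; rfl

theorem repH_zero : repH Ω l (0 : EndAV.Hom A B) = 0 := by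
  rw [repH, map_zero, LinearMap.baseChange_zero]

theorem repH_zsmul (n : ℤ) (f : EndAV.Hom A B) : repH Ω l (n • f) = (n : ℚ_[l]) • repH Ω l f := by
  rw [repH, map_zsmul, ← Int.cast_smul_eq_zsmul ℤ_[l] n (EndAV.Hom.tateMap l (SGA7.pt Ω) f),
    LinearMap.baseChange_smul, ← algebraMap_smul ℚ_[l] (n : ℤ_[l]), map_intCast]
  rfl

theorem tateMap_comp (f : EndAV.Hom A B) (g : EndAV.Hom B D) :
    EndAV.Hom.tateMap l (SGA7.pt Ω) (f ≫ g) =
      EndAV.Hom.tateMap l (SGA7.pt Ω) g ∘ₗ EndAV.Hom.tateMap l (SGA7.pt Ω) f :=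
  LinearMap.ext fun _ => AbDual.TateMod.ext fun _ => congrArg Additive.ofMul (Category.assoc _ _ _).symm

theorem tateMap_id : EndAV.Hom.tateMap l (SGA7.pt Ω) (𝟙 (CommGrp.mk A)) = LinearMap.id :=
  LinearMap.ext fun _ => AbDual.TateMod.ext fun _ => congrArg Additive.ofMul (Category.comp_id _)

theorem repH_comp (f : EndAV.Hom A B) (g : EndAV.Hom B D) : repH Ω l (f ≫ g) = repH Ω l g ∘ₗ repH Ω l f := by
  rw [repH, tateMap_comp, LinearMap.baseChange_comp]; rfl

theorem repH_id : repH Ω l (𝟙 (CommGrp.mk A)) = LinearMap.id := by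
  rw [repH, tateMap_id, LinearMap.baseChange_id]

variable [IsProper A.hom] [GeometricallyIntegral A.hom] [IsProper B.hom] [GeometricallyIntegral B.hom]
  [IsAlgClosed Ω] (hl : (l : k) ≠ 0)

include hl in
theorem repH_injective [Module.Free ℤ_[l] (AbDual.TateMod B l (SGA7.pt Ω))] :
    Function.Injective (repH (A := A) (B := B) Ω l) := fun _ _ h =>
  AVTors.tateMap_injective (A := A) (B := B) Ω l hl (baseChange_injective' h)

include hl in
/-- A homomorphism which is bijective on rational Tate modules is an isogeny. -/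
theorem exists_inverse [Module.Free ℤ_[l] (AbDual.TateMod A l (SGA7.pt Ω))]
    [Module.Free ℤ_[l] (AbDual.TateMod B l (SGA7.pt Ω))] (f : EndAV.Hom A B) (hf : Function.Bijective (repH Ω l f)) :
    ∃ (g : EndAV.Hom B A) (n : ℕ), 0 < n ∧ f ≫ g = n • 𝟙 (CommGrp.mk A) ∧ g ≫ f = n • 𝟙 (CommGrp.mk B) := by
  obtain ⟨g, n, hn, h⟩ := AVTors.AntiEquiv.exists_reg (Y := A) (A := B) f
  have hn' : ∀ (D : Over (Spec (CommRingCat.of k))) [GrpObj D] [IsCommMonObj D] (z : EndAV.Hom D B),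
      repH Ω l (n • z) = (n : ℚ_[l]) • repH Ω l z := fun D _ _ z => by
    rw [← natCast_zsmul, repH_zsmul, Int.cast_natCast]
  have h1 := congrArg (repH Ω l) h
  rw [repH_comp, repH_comp, hn' A f] at h1
  refine ⟨g, n, hn, repH_injective Ω l hl (LinearMap.ext fun x => hf.1 ?_), repH_injective Ω l hl (LinearMap.ext fun x => ?_)⟩
  · rw [← natCast_zsmul, repH_zsmul, repH_id, repH_comp, Int.cast_natCast, LinearMap.smul_apply, map_smul]
    exact LinearMap.congr_fun h1 x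
  · obtain ⟨y, rfl⟩ := hf.2 x
    rw [hn', repH_id, repH_comp]
    exact LinearMap.congr_fun h1 y

include hl in
/-- A rational isomorphism in the span of the homomorphisms gives an isogeny. -/
theorem exists_isogeny_of_span [Module.Free ℤ_[l] (AbDual.TateMod A l (SGA7.pt Ω))]
    [Module.Finite ℤ_[l] (AbDual.TateMod A l (SGA7.pt Ω))] [Module.Free ℤ_[l] (AbDual.TateMod B l (SGA7.pt Ω))]
    {φ : VT Ω l A →ₗ[ℚ_[l]] VT Ω l B} (hφ : φ ∈ Submodule.span ℚ_[l] (Set.range (repH (A := A) (B := B) Ω l)))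
    (hb : Function.Bijective φ) :
    ∃ (u : A ⟶ B) (_ : IsMonHom u) (v : B ⟶ A) (_ : IsMonHom v) (n : ℕ), 0 < n ∧
      u ≫ v = (𝟙 A) ^ n ∧ v ≫ u = (𝟙 B) ^ n := by
  obtain ⟨c, hc⟩ := Finsupp.mem_span_range_iff_exists_finsupp.1 hφ
  let e := c.support.equivFin
  have hφ' : φ ∈ Submodule.span ℚ_[l] (Set.range fun i => repH Ω l (e.symm i).1) := by
    rw [← hc]
    refine Submodule.sum_mem _ fun f hf => Submodule.smul_mem _ _ (Submodule.subset_span ⟨e ⟨f, hf⟩, ?_⟩)
    simp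
  obtain ⟨z, hz⟩ := exists_int_comb_bijective _ hφ' hb
  let f : EndAV.Hom A B := ∑ i, z i • (e.symm i).1
  have hf : repH Ω l f = ∑ i, (z i : ℚ_[l]) • repH Ω l (e.symm i).1 := by
    rw [show repH Ω l f = AddMonoidHom.mk' (repH (A := A) (B := B) Ω l) (repH_add Ω l) f from rfl, map_sum]
    exact Finset.sum_congr rfl fun i _ => repH_zsmul Ω l _ _
  obtain ⟨g, n, hn, h1, h2⟩ := exists_inverse Ω l hl f (hf ▸ hz)
  refine ⟨f.toHom, inferInstance, g.toHom, inferInstance, n, hn, ?_, ?_⟩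
  · rw [← EndAV.Hom.toHom_comp, h1, EndAV.Hom.toHom_nsmul, EndAV.Hom.toHom_id]
  · rw [← EndAV.Hom.toHom_comp, h2, EndAV.Hom.toHom_nsmul, EndAV.Hom.toHom_id]

end Basic

/-- A product of two abelian varieties. -/
theorem exists_biprod {k : Type u} [Field k] (A B : Over (Spec (CommRingCat.of k))) [GrpObj A] [IsCommMonObj A]
    [IsProper A.hom] [GeometricallyIntegral A.hom] [GrpObj B] [IsCommMonObj B] [IsProper B.hom]
    [GeometricallyIntegral B.hom] :
    ∃ (P : Over (Spec (CommRingCat.of k))) (_ : GrpObj P) (_ : IsCommMonObj P) (_ : IsProper P.hom)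
      (_ : GeometricallyIntegral P.hom) (pA : EndAV.Hom P A) (iA : EndAV.Hom A P) (pB : EndAV.Hom P B)
      (iB : EndAV.Hom B P), iA ≫ pA = 𝟙 (CommGrp.mk A) ∧ iB ≫ pB = 𝟙 (CommGrp.mk B) := by
  haveI : IsProper (A ⊗ B).hom := by rw [Over.tensorObj_hom]; infer_instance
  haveI : GeometricallyIntegral (A ⊗ B).hom := H23.MaxAbelian.geometricallyIntegral_tensor A B
  haveI : IsCommMonObj (A ⊗ B) := AVTors.ChowKernel.comm (A ⊗ B)
  haveI : IsMonHom (lift (𝟙 A) (1 : A ⟶ B)) := AVDegPoly.isMonHom_of_one _ (by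
    apply CartesianMonoidalCategory.hom_ext <;>
      simp [MonObj.one_eq_one, MonObj.comp_one, MonObj.one_comp])
  haveI : IsMonHom (lift (1 : B ⟶ A) (𝟙 B)) := AVDegPoly.isMonHom_of_one _ (by
    apply CartesianMonoidalCategory.hom_ext <;>
      simp [MonObj.one_eq_one, MonObj.comp_one, MonObj.one_comp])
  exact ⟨A ⊗ B, inferInstance, inferInstance, inferInstance, inferInstance, EndAV.Hom.of (fst A B),
    EndAV.Hom.of (lift (𝟙 A) (1 : A ⟶ B)), EndAV.Hom.of (snd A B), EndAV.Hom.of (lift (1 : B ⟶ A) (𝟙 B)),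
    EndAV.Hom.ext (lift_fst _ _), EndAV.Hom.ext (lift_snd _ _)⟩

variable {k : Type u} [Field k] [Finite k] {Ω : Type u} [Field Ω] [Algebra k Ω] [IsAlgClosure k Ω]
  {l : ℕ} [Fact l.Prime] (hl : (l : k) ≠ 0)
  {A B : Over (Spec (CommRingCat.of k))} [GrpObj A] [IsCommMonObj A] [IsProper A.hom] [GeometricallyIntegral A.hom]
  [GrpObj B] [IsCommMonObj B] [IsProper B.hom] [GeometricallyIntegral B.hom]
  {πA : A ⟶ A} [IsMonHom πA] {πB : B ⟶ B} [IsMonHom πB]

include hl in
theorem free_finite_tate : Module.Free ℤ_[l] (AbDual.TateMod A l (SGA7.pt Ω)) ∧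
    Module.Finite ℤ_[l] (AbDual.TateMod A l (SGA7.pt Ω)) := by
  haveI : IsAlgClosed Ω := IsAlgClosure.isAlgClosed k
  obtain ⟨g, hg⟩ := AVTors.exists_dimNat A
  obtain ⟨e⟩ := AVTors.exists_linearEquiv_pt Ω A hg l hl
  exact ⟨Module.Free.of_equiv e, Module.Finite.equiv e⟩

include hl in
/-- **Tate**: a map of Tate modules commuting with the Frobenii comes from homomorphisms. -/
theorem mem_span_of_commute (hC : CubeEmbeds k) (hA : IsFrob A πA) (hB : IsFrob B πB)
    (u : AbDual.TateMod A l (SGA7.pt Ω) →ₗ[ℤ_[l]] AbDual.TateMod B l (SGA7.pt Ω))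
    (hu : u ∘ₗ AbDual.tateMapₗ (l := l) (T := SGA7.pt Ω) πA = AbDual.tateMapₗ (l := l) (T := SGA7.pt Ω) πB ∘ₗ u) :
    u ∈ Submodule.span ℤ_[l] (Set.range (EndAV.Hom.tateMap (A := A) (B := B) l (SGA7.pt Ω))) := by
  haveI : IsAlgClosed Ω := IsAlgClosure.isAlgClosed k
  obtain ⟨P, _, _, _, _, pA, iA, pB, iB, hiA, hiB⟩ := exists_biprod A B
  obtain ⟨πP, _, hP⟩ := exists_isFrob P
  obtain ⟨hfree, hfin⟩ := free_finite_tate (A := P) (Ω := Ω) hl
  haveI := hfree
  haveI := hfin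
  let tp := EndAV.Hom.tateMap (A := P) (B := A) l (SGA7.pt Ω) pA
  let ti := EndAV.Hom.tateMap (A := B) (B := P) l (SGA7.pt Ω) iB
  let U : Module.End ℤ_[l] (AbDual.TateMod P l (SGA7.pt Ω)) := ti ∘ₗ u ∘ₗ tp
  have hnA : tp ∘ₗ EndAV.End.tateRep l (SGA7.pt Ω) (EndAV.End.of πP) =
      AbDual.tateMapₗ (l := l) (T := SGA7.pt Ω) πA ∘ₗ tp := LinearMap.ext fun z => AbDual.TateMod.ext fun m =>
    congrArg Additive.ofMul (by
      show (_ ≫ πP) ≫ pA.toHom = (_ ≫ pA.toHom) ≫ πA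
      rw [Category.assoc, Category.assoc, hP.natural hA])
  have hnB : EndAV.End.tateRep l (SGA7.pt Ω) (EndAV.End.of πP) ∘ₗ ti =
      ti ∘ₗ AbDual.tateMapₗ (l := l) (T := SGA7.pt Ω) πB := LinearMap.ext fun z => AbDual.TateMod.ext fun m =>
    congrArg Additive.ofMul (by
      show (_ ≫ iB.toHom) ≫ πP = (_ ≫ πB) ≫ iB.toHom
      rw [Category.assoc, Category.assoc, hB.natural hP])
  have hU : U * EndAV.End.tateRep l (SGA7.pt Ω) (EndAV.End.of πP) =
      EndAV.End.tateRep l (SGA7.pt Ω) (EndAV.End.of πP) * U := by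
    show (ti ∘ₗ u ∘ₗ tp) ∘ₗ _ = _ ∘ₗ (ti ∘ₗ u ∘ₗ tp)
    refine LinearMap.ext fun z => ?_
    show ti (u (tp (EndAV.End.tateRep l (SGA7.pt Ω) (EndAV.End.of πP) z))) =
      EndAV.End.tateRep l (SGA7.pt Ω) (EndAV.End.of πP) (ti (u (tp z)))
    rw [show tp (EndAV.End.tateRep l (SGA7.pt Ω) (EndAV.End.of πP) z) = AbDual.tateMapₗ (l := l) (T := SGA7.pt Ω) πA (tp z)
      from LinearMap.congr_fun hnA z]
    exact ((congrArg ti (LinearMap.congr_fun hu (tp z))).trans (LinearMap.congr_fun hnB (u (tp z))).symm)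
  let S := Submodule.span ℤ_[l] (Set.range (EndAV.Hom.tateMap (A := P) (B := P) l (SGA7.pt Ω)))
  have hmem : U.baseChange ℚ_[l] ∈ (AVTors.TateSemi.alg l Ω P).toSubmodule := by
    rw [← commutant_eq Ω hP hl hC, mem_commutant, AVTors.TateSemi.rep_apply]
    show U.baseChange ℚ_[l] * (EndAV.End.tateRep l (SGA7.pt Ω) (EndAV.End.of πP)).baseChange ℚ_[l] =
      (EndAV.End.tateRep l (SGA7.pt Ω) (EndAV.End.of πP)).baseChange ℚ_[l] * U.baseChange ℚ_[l]
    rw [← LinearMap.baseChange_mul, hU, LinearMap.baseChange_mul]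
  rw [AVTors.TateSemi.alg_eq_span] at hmem
  have hsub : Set.range (AVTors.TateSemi.rep l Ω P) ⊆
      (fun s => LinearMap.baseChange ℚ_[l] s) '' (S : Set (Module.End ℤ_[l] (AbDual.TateMod P l (SGA7.pt Ω)))) := by
    rintro _ ⟨φ, rfl⟩
    exact ⟨_, Submodule.subset_span ⟨φ, rfl⟩, rfl⟩
  obtain ⟨a, ha, s, hs, has⟩ := exists_smul_mem S (Submodule.span_mono hsub hmem)
  rw [← LinearMap.baseChange_smul] at has
  have hUs : a • U ∈ S := (baseChange_injective' has) ▸ hs
  have hn : (l : ℤ_[l]) ^ a.valuation • U ∈ S := by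
    rw [PadicInt.unitCoeff_spec ha, mul_smul] at hUs
    exact (S.smul_mem_iff_of_isUnit (PadicInt.unitCoeff ha).isUnit).1 hUs
  have hmemU : U ∈ S := S16588.result k Ω l hl P P U a.valuation hn
  have hu' : u = EndAV.Hom.tateMap (A := P) (B := B) l (SGA7.pt Ω) pB ∘ₗ U ∘ₗ
      EndAV.Hom.tateMap (A := A) (B := P) l (SGA7.pt Ω) iA := by
    show u = _ ∘ₗ (ti ∘ₗ u ∘ₗ tp) ∘ₗ _
    rw [LinearMap.comp_assoc, LinearMap.comp_assoc, ← tateMap_comp, hiA, tateMap_id, LinearMap.comp_id,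
      ← LinearMap.comp_assoc, ← tateMap_comp, hiB, tateMap_id, LinearMap.id_comp]
  rw [hu']
  clear hu' hn hUs has hmem hU
  clear_value U
  induction hmemU using Submodule.span_induction with
  | mem x hx =>
    obtain ⟨φ, rfl⟩ := hx
    exact Submodule.subset_span ⟨iA ≫ φ ≫ pB, by rw [tateMap_comp, tateMap_comp]; rfl⟩
  | zero => rw [LinearMap.zero_comp, LinearMap.comp_zero]; exact Submodule.zero_mem _
  | add x y _ _ hx hy => rw [LinearMap.add_comp, LinearMap.comp_add]; exact Submodule.add_mem _ hx hy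
  | smul c x _ hx => rw [LinearMap.smul_comp, LinearMap.comp_smul]; exact Submodule.smul_mem _ _ hx

include hl in
/-- The rational form of Tate's theorem. -/
theorem mem_spanQ_of_commute (hC : CubeEmbeds k) (hA : IsFrob A πA) (hB : IsFrob B πB)
    (φ : VT Ω l A →ₗ[ℚ_[l]] VT Ω l B)
    (hφ : φ ∘ₗ repH Ω l (EndAV.Hom.of πA) = repH Ω l (EndAV.Hom.of πB) ∘ₗ φ) :
    φ ∈ Submodule.span ℚ_[l] (Set.range (repH (A := A) (B := B) Ω l)) := by
  obtain ⟨hfA, hfA'⟩ := free_finite_tate (A := A) (Ω := Ω) hl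
  obtain ⟨hfB, hfB'⟩ := free_finite_tate (A := B) (Ω := Ω) hl
  haveI := hfA; haveI := hfA'; haveI := hfB; haveI := hfB'
  obtain ⟨a, ha, u, hu⟩ := exists_smul_eq_baseChange' φ
  have hcomm : u ∘ₗ AbDual.tateMapₗ (l := l) (T := SGA7.pt Ω) πA = AbDual.tateMapₗ (l := l) (T := SGA7.pt Ω) πB ∘ₗ u := by
    refine baseChange_injective' ?_
    rw [LinearMap.baseChange_comp, LinearMap.baseChange_comp, ← hu, LinearMap.smul_comp, LinearMap.comp_smul]
    exact congrArg (a • ·) hφ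
  have h := mem_span_of_commute hl hC hA hB u hcomm
  have h1 : a • φ ∈ Submodule.span ℚ_[l] (Set.range (repH (A := A) (B := B) Ω l)) := by
    rw [hu]
    clear hcomm hu
    induction h using Submodule.span_induction with
    | mem x hx => obtain ⟨f, rfl⟩ := hx; exact Submodule.subset_span ⟨f, rfl⟩
    | zero => rw [LinearMap.baseChange_zero]; exact Submodule.zero_mem _
    | add x y _ _ hx hy => rw [LinearMap.baseChange_add]; exact Submodule.add_mem _ hx hy
    | smul c x _ hx => rw [LinearMap.baseChange_smul, ← algebraMap_smul ℚ_[l] c]; exact Submodule.smul_mem _ _ hx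
  rw [← algebraMap_smul ℚ_[l] a] at h1
  exact (Submodule.smul_mem_iff _ (algebraMap_ne_zero ha)).1 h1

end Groth.Agent.AVTate
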