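import Mathlib.Algebra.MonoidAlgebra.Basic
import Mathlib.Analysis.Complex.Norm
import Mathlib.LinearAlgebra.LinearIndependent.Basic
import Mathlib.FieldTheory.Fixed
import Mathlib.Analysis.Complex.Basic

/-!
# The roots of given absolute value are determined by `n ↦ ∏ (1 - αⁿ)`
-/

set_option autoImplicit false
set_option maxHeartbeats 1000000

noncomputable section

namespace Groth.Agent.AVTate

open MonoidAlgebra

/-- The product of the `1 - [α]`. -/
def signedSubsets (R : Multiset ℂ) : MonoidAlgebra ℂ ℂ := (R.map fun α => 1 - single α 1).prod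

/-- Evaluation at a power. -/
def evalPow (n : ℕ) : MonoidAlgebra ℂ ℂ →ₐ[ℂ] ℂ := MonoidAlgebra.lift ℂ ℂ ℂ (powMonoidHom n)

theorem evalPow_signedSubsets (n : ℕ) (R : Multiset ℂ) :
    evalPow n (signedSubsets R) = (R.map fun α => 1 - α ^ n).prod := by
  rw [signedSubsets, map_multiset_prod, Multiset.map_map]
  refine congrArg _ (Multiset.map_congr rfl fun α _ => ?_)
  simp [evalPow, MonoidAlgebra.lift_single]

/-- The coefficients in small absolute value. -/
theorem coeff_signedSubsets {s : ℝ} (hs : 1 < s) : ∀ R : Multiset ℂ, (∀ α ∈ R, ‖α‖ = s) → ∀ x : ℂ,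
    (‖x‖ < 1 → (signedSubsets R).coeff x = 0) ∧ (‖x‖ = 1 → (signedSubsets R).coeff x = if x = 1 then 1 else 0) ∧
      (‖x‖ = s → (signedSubsets R).coeff x = -(R.count x : ℂ)) := by
  intro R
  induction R using Multiset.induction_on with
  | empty =>
    intro _ x
    have h : (signedSubsets 0).coeff x = if x = 1 then 1 else 0 := by
      simp only [signedSubsets, Multiset.map_zero, Multiset.prod_zero, MonoidAlgebra.one_def]
      rw [MonoidAlgebra.coeff_single, Finsupp.single_apply]
      simp [eq_comm]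
    refine ⟨fun hx => ?_, fun _ => h, fun hx => ?_⟩
    · rw [h, if_neg (fun e => by simp [e] at hx)]
    · rw [h, if_neg (fun e => by simp [e] at hx; linarith), Multiset.count_zero, Nat.cast_zero, neg_zero]
  | cons a R ih =>
    intro hR x
    have ha : ‖a‖ = s := hR a (Multiset.mem_cons_self a R)
    have ha0 : a ≠ 0 := fun e => by simp [e] at ha; linarith
    have ih' := ih fun α hα => hR α (Multiset.mem_cons_of_mem hα)
    have hrec : (signedSubsets (a ::ₘ R)).coeff x = (signedSubsets R).coeff x - (signedSubsets R).coeff (a⁻¹ * x) := by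
      rw [signedSubsets, Multiset.map_cons, Multiset.prod_cons, sub_mul, _root_.one_mul]
      show (signedSubsets R - single a 1 * signedSubsets R).coeff x = _
      rw [MonoidAlgebra.coeff_sub, Finsupp.sub_apply]
      congr 1
      rw [MonoidAlgebra.coeff_single_mul_eq_mul_coeff _ (fun y _ => (eq_inv_mul_iff_mul_eq₀ ha0).symm), _root_.one_mul]
    have hn : ‖a⁻¹ * x‖ = s⁻¹ * ‖x‖ := by rw [norm_mul, norm_inv, ha]
    have hs1 : s⁻¹ < 1 := inv_lt_one_of_one_lt₀ hs
    refine ⟨fun hx => ?_, fun hx => ?_, fun hx => ?_⟩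
    · rw [hrec, (ih' x).1 hx, (ih' _).1 (by rw [hn]; nlinarith [norm_nonneg x, inv_pos.2 (lt_trans one_pos hs)]), sub_zero]
    · rw [hrec, (ih' x).2.1 hx, (ih' _).1 (by rw [hn, hx, _root_.mul_one]; exact hs1), sub_zero]
    · rw [hrec, (ih' x).2.2 hx, (ih' _).2.1 (by rw [hn, hx, inv_mul_cancel₀ (by linarith)]), Multiset.count_cons]
      simp only [show a⁻¹ * x = 1 ↔ x = a from inv_mul_eq_one₀ ha0 |>.trans eq_comm]
      split_ifs with h
      · push_cast; ring
      · simp

theorem signedSubsets_zero {s : ℝ} (hs : 1 < s) {R : Multiset ℂ} (hR : ∀ α ∈ R, ‖α‖ = s) :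
    (signedSubsets R).coeff 0 = 0 :=
  (coeff_signedSubsets hs R hR 0).1 (by simp)

/-- **Two multisets of absolute value `s > 1` with the same `∏ (1 - αⁿ)` are equal.** -/
theorem eq_of_prod_one_sub_pow {s : ℝ} (hs : 1 < s) {R R' : Multiset ℂ} (hR : ∀ α ∈ R, ‖α‖ = s)
    (hR' : ∀ α ∈ R', ‖α‖ = s)
    (h : ∀ n : ℕ, 0 < n → (R.map fun α => 1 - α ^ n).prod = (R'.map fun α => 1 - α ^ n).prod) : R = R' := by
  classical
  let c : MonoidAlgebra ℂ ℂ := signedSubsets R - signedSubsets R'
  have hc0 : c.coeff 0 = 0 := by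
    rw [MonoidAlgebra.coeff_sub, Finsupp.sub_apply, signedSubsets_zero hs hR, signedSubsets_zero hs hR', sub_zero]
  have hev : ∀ n : ℕ, ∑ β ∈ Finsupp.support c.coeff, c.coeff β * β ^ (n + 1) = 0 := fun n => by
    have h1 : evalPow (n + 1) c = 0 := by
      rw [map_sub, evalPow_signedSubsets, evalPow_signedSubsets, h _ n.succ_pos, sub_self]
    rw [← h1, evalPow, MonoidAlgebra.lift_apply, Finsupp.sum]
    rfl
  have hc : ∀ β : ℂ, c.coeff β = 0 := by
    let v : ℂ → (Multiplicative ℕ →* ℂ) := powersHom ℂ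
    have hv : Function.Injective v := (powersHom ℂ).injective
    have hli := (linearIndependent_monoidHom (Multiplicative ℕ) ℂ).comp v hv
    have hz := linearIndependent_iff'.1 hli (Finsupp.support c.coeff) (fun β => c.coeff β * β) (funext fun m => by
      have := hev m.toAdd
      simp only [Finset.sum_apply, Pi.smul_apply, Function.comp_apply, Pi.zero_apply, smul_eq_mul, v, powersHom_apply]
      refine (Finset.sum_congr rfl fun β _ => ?_).trans this
      rw [pow_succ']
      ring)
    intro β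
    rcases eq_or_ne β 0 with rfl | hβ
    · exact hc0
    by_contra hne
    exact hne ((mul_eq_zero.1 (hz β (Finsupp.mem_support_iff.2 hne))).resolve_right hβ)
  refine Multiset.ext.2 fun x => ?_
  by_cases hx : ‖x‖ = s
  · have h1 := hc x
    rw [MonoidAlgebra.coeff_sub, Finsupp.sub_apply, (coeff_signedSubsets hs R hR x).2.2 hx,
      (coeff_signedSubsets hs R' hR' x).2.2 hx] at h1
    exact_mod_cast (by linear_combination -h1 : ((R.count x : ℕ) : ℂ) = R'.count x)
  · rw [Multiset.count_eq_zero.2 fun hm => hx (hR x hm), Multiset.count_eq_zero.2 fun hm => hx (hR' x hm)]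

end Groth.Agent.AVTate
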