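import Groth.Agent.AVTate.Hom
import Groth.Agent.AVTate.Conj
import Groth.Agent.AVTate.SignedRoots
import Groth.Agent.ZetaLib.PointsOfExt
import Groth.Agent.ZetaLib.ZetaProduct
import Groth.Agent.WeilLib.ZetaIdentity
import Groth.Agent.Lib.AVWeilCount
import Mathlib.FieldTheory.Finite.Extension

/-!
# The isogeny class over a finite field: Galois module, characteristic polynomial, numbers of points
-/

set_option autoImplicit false
set_option linter.style.haveILetI false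
set_option linter.unusedSectionVars false
set_option backward.isDefEq.respectTransparency false
set_option backward.isDefEq.respectTransparency.types false
set_option maxHeartbeats 2000000
set_option synthInstance.maxHeartbeats 400000

universe u

open CategoryTheory CategoryTheory.Limits MonoidalCategory CartesianMonoidalCategory MonObj AlgebraicGeometry
open scoped TensorProduct

noncomputable section

namespace Groth.Agent.AVTate

variable {k : Type u} [Field k] [Finite k]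

/-- The two varieties are isogenous. -/
abbrev Isog (A B : Over (Spec (CommRingCat.of k))) [GrpObj A] [GrpObj B] : Prop :=
  ∃ (u : A ⟶ B) (_ : IsMonHom u) (v : B ⟶ A) (_ : IsMonHom v) (n : ℕ), 0 < n ∧ u ≫ v = (𝟙 A) ^ n ∧ v ≫ u = (𝟙 B) ^ n

variable {Ω : Type u} [Field Ω] [Algebra k Ω] [IsAlgClosure k Ω] {l : ℕ} [Fact l.Prime]
  {A B : Over (Spec (CommRingCat.of k))} [GrpObj A] [IsCommMonObj A] [IsProper A.hom] [GeometricallyIntegral A.hom]
  [GrpObj B] [IsCommMonObj B] [IsProper B.hom] [GeometricallyIntegral B.hom]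
  {πA : A ⟶ A} [IsMonHom πA] {πB : B ⟶ B} [IsMonHom πB]

/-- The Frobenius automorphism acts on the Tate module as the Frobenius endomorphism. -/
theorem exists_rho_eq (hA : IsFrob A πA) (hB : IsFrob B πB)
    (ρA : (Ω ≃ₐ[k] Ω) → Module.End ℤ_[l] (AbDual.TateMod A l (SGA7.pt Ω)))
    (hρA : ∀ (τ : Ω ≃ₐ[k] Ω) (z : AbDual.TateMod A l (SGA7.pt Ω)) (m : ℕ),
      (AbDual.TateMod.component A l (SGA7.pt Ω) m (ρA τ z)).toMul =
        SGA7.galAct τ (AbDual.TateMod.component A l (SGA7.pt Ω) m z).toMul)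
    (ρB : (Ω ≃ₐ[k] Ω) → Module.End ℤ_[l] (AbDual.TateMod B l (SGA7.pt Ω)))
    (hρB : ∀ (τ : Ω ≃ₐ[k] Ω) (z : AbDual.TateMod B l (SGA7.pt Ω)) (m : ℕ),
      (AbDual.TateMod.component B l (SGA7.pt Ω) m (ρB τ z)).toMul =
        SGA7.galAct τ (AbDual.TateMod.component B l (SGA7.pt Ω) m z).toMul) :
    ∃ τ, ρA τ = AbDual.tateMapₗ (l := l) (T := SGA7.pt Ω) πA ∧ ρB τ = AbDual.tateMapₗ (l := l) (T := SGA7.pt Ω) πB := by
  obtain ⟨P, _, _, _, _, pA, iA, pB, iB, hiA, hiB⟩ := exists_biprod A B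
  obtain ⟨πP, _, hP⟩ := exists_isFrob P
  obtain ⟨τ, hτ⟩ := galAct_frob (Ω := Ω) hP
  refine ⟨τ, LinearMap.ext fun z => AbDual.TateMod.ext fun m => Additive.toMul.injective ?_,
    LinearMap.ext fun z => AbDual.TateMod.ext fun m => Additive.toMul.injective ?_⟩
  · refine (hρA τ z m).trans ?_
    show SGA7.galAct τ _ = (AbDual.TateMod.component A l (SGA7.pt Ω) m z).toMul ≫ πA
    generalize (AbDual.TateMod.component A l (SGA7.pt Ω) m z).toMul = x
    have h := congrArg (· ≫ pA.toHom) (hτ (x ≫ iA.toHom))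
    simp only [SGA7.galAct, Category.assoc] at h
    rw [hP.natural hA pA.toHom, ← EndAV.Hom.toHom_comp, ← Category.assoc iA.toHom, ← EndAV.Hom.toHom_comp, hiA,
      EndAV.Hom.toHom_id, Category.comp_id, Category.id_comp] at h
    exact h
  · refine (hρB τ z m).trans ?_
    show SGA7.galAct τ _ = (AbDual.TateMod.component B l (SGA7.pt Ω) m z).toMul ≫ πB
    generalize (AbDual.TateMod.component B l (SGA7.pt Ω) m z).toMul = x
    have h := congrArg (· ≫ pB.toHom) (hτ (x ≫ iB.toHom))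
    simp only [SGA7.galAct, Category.assoc] at h
    rw [hP.natural hB pB.toHom, ← EndAV.Hom.toHom_comp, ← Category.assoc iB.toHom, ← EndAV.Hom.toHom_comp, hiB,
      EndAV.Hom.toHom_id, Category.comp_id, Category.id_comp] at h
    exact h

omit [Finite k] in
/-- Homomorphisms commute with the Galois action. -/
theorem tateMap_rho (f : EndAV.Hom A B)
    (ρA : (Ω ≃ₐ[k] Ω) → Module.End ℤ_[l] (AbDual.TateMod A l (SGA7.pt Ω)))
    (hρA : ∀ (τ : Ω ≃ₐ[k] Ω) (z : AbDual.TateMod A l (SGA7.pt Ω)) (m : ℕ),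
      (AbDual.TateMod.component A l (SGA7.pt Ω) m (ρA τ z)).toMul =
        SGA7.galAct τ (AbDual.TateMod.component A l (SGA7.pt Ω) m z).toMul)
    (ρB : (Ω ≃ₐ[k] Ω) → Module.End ℤ_[l] (AbDual.TateMod B l (SGA7.pt Ω)))
    (hρB : ∀ (τ : Ω ≃ₐ[k] Ω) (z : AbDual.TateMod B l (SGA7.pt Ω)) (m : ℕ),
      (AbDual.TateMod.component B l (SGA7.pt Ω) m (ρB τ z)).toMul =
        SGA7.galAct τ (AbDual.TateMod.component B l (SGA7.pt Ω) m z).toMul) (τ : Ω ≃ₐ[k] Ω) :
    EndAV.Hom.tateMap l (SGA7.pt Ω) f ∘ₗ ρA τ = ρB τ ∘ₗ EndAV.Hom.tateMap l (SGA7.pt Ω) f := by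
  refine LinearMap.ext fun z => AbDual.TateMod.ext fun m => Additive.toMul.injective ?_
  show (AbDual.TateMod.component A l (SGA7.pt Ω) m (ρA τ z)).toMul ≫ f.toHom =
    (AbDual.TateMod.component B l (SGA7.pt Ω) m (ρB τ (EndAV.Hom.tateMap l (SGA7.pt Ω) f z))).toMul
  rw [hρA, hρB]
  exact Category.assoc _ _ _

/-- An isogeny is bijective on the rational Tate modules. -/
theorem repH_bijective {f : EndAV.Hom A B} {g : EndAV.Hom B A} {n : ℕ} (hn : 0 < n)
    (h1 : f ≫ g = n • 𝟙 (CommGrp.mk A)) (h2 : g ≫ f = n • 𝟙 (CommGrp.mk B)) :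
    Function.Bijective (repH Ω l f) := by
  have hn' : (n : ℚ_[l]) ≠ 0 := Nat.cast_ne_zero.2 hn.ne'
  have e1 : ∀ x, repH Ω l g (repH Ω l f x) = (n : ℚ_[l]) • x := fun x => by
    rw [← LinearMap.comp_apply, ← repH_comp, h1, ← natCast_zsmul, repH_zsmul, repH_id, Int.cast_natCast,
      LinearMap.smul_apply, LinearMap.id_apply]
  have e2 : ∀ x, repH Ω l f (repH Ω l g x) = (n : ℚ_[l]) • x := fun x => by
    rw [← LinearMap.comp_apply, ← repH_comp, h2, ← natCast_zsmul, repH_zsmul, repH_id, Int.cast_natCast,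
      LinearMap.smul_apply, LinearMap.id_apply]
  refine ⟨fun x y h => smul_right_injective _ hn' (show (n : ℚ_[l]) • x = (n : ℚ_[l]) • y by rw [← e1, h, e1]),
    fun y => ⟨(n : ℚ_[l])⁻¹ • repH Ω l g y, ?_⟩⟩
  rw [map_smul, e2, inv_smul_smul₀ hn']

/-- An isogeny, bundled. -/
theorem exists_bundled (h : Isog A B) : ∃ (f : EndAV.Hom A B) (g : EndAV.Hom B A) (n : ℕ), 0 < n ∧
    f ≫ g = n • 𝟙 (CommGrp.mk A) ∧ g ≫ f = n • 𝟙 (CommGrp.mk B) := by
  obtain ⟨u, hu, v, hv, n, hn, h1, h2⟩ := h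
  haveI := hu
  haveI := hv
  exact ⟨EndAV.Hom.of u, EndAV.Hom.of v, n, hn, EndAV.Hom.ext (by
    rw [EndAV.Hom.toHom_nsmul, EndAV.Hom.toHom_comp, EndAV.Hom.toHom_id]; exact h1), EndAV.Hom.ext (by
    rw [EndAV.Hom.toHom_nsmul, EndAV.Hom.toHom_comp, EndAV.Hom.toHom_id]; exact h2)⟩

variable (Ω) in
/-- The Frobenius is semisimple on the rational Tate module. -/
theorem isSemisimple_frob (hA : IsFrob A πA) (hl : (l : k) ≠ 0) :
    Module.End.IsSemisimple (repH Ω l (EndAV.Hom.of πA) : Module.End ℚ_[l] (VT Ω l A)) := by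
  haveI : IsAlgClosed Ω := IsAlgClosure.isAlgClosed k
  obtain ⟨m, -, hmμ, hm0⟩ := AVEnd0.exists_int_minpoly (A := A) Ω (EndAV.End.of πA)
  have hsep : (m.map (Int.castRingHom ℚ)).Separable := by
    rw [hmμ]
    exact PerfectField.separable_iff_squarefree.2 (AVSemisimple.squarefree_minpoly _ hA.central)
  have h0 := congrArg (fun T => T.baseChange ℚ_[l]) ((AVEnd0.aeval_tateRep Ω (EndAV.End.of πA) l m).symm.trans
    (by rw [hm0, map_zero]))
  refine Module.End.isSemisimple_of_squarefree_aeval_eq_zero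
    (p := (m.map (Int.castRingHom ℤ_[l])).map (algebraMap ℤ_[l] ℚ_[l])) ?_ ?_
  · rw [Polynomial.map_map, show (algebraMap ℤ_[l] ℚ_[l]).comp (Int.castRingHom ℤ_[l]) =
      (algebraMap ℚ ℚ_[l]).comp (Int.castRingHom ℚ) from RingHom.ext_int _ _, ← Polynomial.map_map]
    exact hsep.map.squarefree
  · rw [Polynomial.aeval_map_algebraMap]
    refine Eq.trans ?_ (h0.trans LinearMap.baseChange_zero)
    exact Polynomial.aeval_algHom_apply (Module.End.baseChangeHom ℤ_[l] ℚ_[l] (AbDual.TateMod A l (SGA7.pt Ω))) _ _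

variable (hC : CubeEmbeds k) (hA : IsFrob A πA) (hB : IsFrob B πB) (hl : (l : k) ≠ 0)

include hC hA hB hl in
/-- An equivariant isomorphism of rational Tate modules gives an isogeny. -/
theorem isog_of_conj (e : VT Ω l A ≃ₗ[ℚ_[l]] VT Ω l B)
    (he : e.toLinearMap ∘ₗ repH Ω l (EndAV.Hom.of πA) = repH Ω l (EndAV.Hom.of πB) ∘ₗ e.toLinearMap) : Isog A B := by
  haveI : IsAlgClosed Ω := IsAlgClosure.isAlgClosed k
  obtain ⟨hfA, hfA'⟩ := free_finite_tate (A := A) (Ω := Ω) hl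
  obtain ⟨hfB, -⟩ := free_finite_tate (A := B) (Ω := Ω) hl
  haveI := hfA; haveI := hfA'; haveI := hfB
  exact exists_isogeny_of_span Ω l hl (mem_spanQ_of_commute hl hC hA hB _ he) e.bijective

include hC hA hB hl in
/-- Equal characteristic polynomials give an isogeny. -/
theorem isog_of_charpoly [Module.Free ℤ_[l] (AbDual.TateMod A l (SGA7.pt Ω))]
    [Module.Finite ℤ_[l] (AbDual.TateMod A l (SGA7.pt Ω))] [Module.Free ℤ_[l] (AbDual.TateMod B l (SGA7.pt Ω))]
    [Module.Finite ℤ_[l] (AbDual.TateMod B l (SGA7.pt Ω))]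
    (h : (AbDual.tateMapₗ (l := l) (T := SGA7.pt Ω) πA).charpoly =
      (AbDual.tateMapₗ (l := l) (T := SGA7.pt Ω) πB).charpoly) : Isog A B := by
  have h' : (repH Ω l (EndAV.Hom.of πA)).charpoly = (repH Ω l (EndAV.Hom.of πB)).charpoly := by
    show (LinearMap.baseChange ℚ_[l] (AbDual.tateMapₗ (l := l) (T := SGA7.pt Ω) πA)).charpoly =
      (LinearMap.baseChange ℚ_[l] (AbDual.tateMapₗ (l := l) (T := SGA7.pt Ω) πB)).charpoly
    rw [LinearMap.charpoly_baseChange, LinearMap.charpoly_baseChange, h]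
  obtain ⟨e, he⟩ := exists_conj _ _ (isSemisimple_frob Ω hA hl) (isSemisimple_frob Ω hB hl) h'
  exact isog_of_conj hC hA hB hl e he

omit hC in
include hA hB in
/-- Isogenous varieties have conjugate Frobenii. -/
theorem conj_of_isog (h : Isog A B) : ∃ e : VT Ω l A ≃ₗ[ℚ_[l]] VT Ω l B,
    e.toLinearMap ∘ₗ repH Ω l (EndAV.Hom.of πA) = repH Ω l (EndAV.Hom.of πB) ∘ₗ e.toLinearMap := by
  obtain ⟨f, g, n, hn, h1, h2⟩ := exists_bundled h
  refine ⟨LinearEquiv.ofBijective _ (repH_bijective (Ω := Ω) (l := l) hn h1 h2), ?_⟩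
  show repH Ω l f ∘ₗ _ = _ ∘ₗ repH Ω l f
  rw [← repH_comp, ← repH_comp]
  exact congrArg _ (EndAV.Hom.ext (hA.natural hB f.toHom))

omit hC in
include hA hB in
/-- Isogenous varieties have the same characteristic polynomial. -/
theorem charpoly_of_isog [Module.Free ℤ_[l] (AbDual.TateMod A l (SGA7.pt Ω))]
    [Module.Finite ℤ_[l] (AbDual.TateMod A l (SGA7.pt Ω))] [Module.Free ℤ_[l] (AbDual.TateMod B l (SGA7.pt Ω))]
    [Module.Finite ℤ_[l] (AbDual.TateMod B l (SGA7.pt Ω))] (h : Isog A B) :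
    (AbDual.tateMapₗ (l := l) (T := SGA7.pt Ω) πA).charpoly =
      (AbDual.tateMapₗ (l := l) (T := SGA7.pt Ω) πB).charpoly := by
  obtain ⟨e, he⟩ := conj_of_isog (Ω := Ω) (l := l) hA hB h
  refine Polynomial.map_injective _ (IsFractionRing.injective ℤ_[l] ℚ_[l]) ?_
  rw [← LinearMap.charpoly_baseChange, ← LinearMap.charpoly_baseChange]
  show (repH Ω l (EndAV.Hom.of πA)).charpoly = (repH Ω l (EndAV.Hom.of πB)).charpoly
  rw [← LinearEquiv.charpoly_conj e]
  congr 1
  refine LinearMap.ext fun y => ?_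
  obtain ⟨x, rfl⟩ := e.surjective y
  rw [LinearEquiv.conj_apply_apply, e.symm_apply_apply]
  exact LinearMap.congr_fun he x

omit hC hA hB hl in
/-- The numbers of points in the extension of degree `n`. -/
theorem nPts_eq_prod (hA : IsFrob A πA) (hl : (l : k) ≠ 0) [Module.Free ℤ_[l] (AbDual.TateMod A l (SGA7.pt Ω))]
    [Module.Finite ℤ_[l] (AbDual.TateMod A l (SGA7.pt Ω))] {P : Polynomial ℤ}
    (hP : (AbDual.tateMapₗ (l := l) (T := SGA7.pt Ω) πA).charpoly = P.map (Int.castRingHom ℤ_[l])) (n : ℕ) (hn : 0 < n) :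
    (Zeta.nPts A.hom n : ℂ) = ((P.map (Int.castRingHom ℂ)).roots.map fun α => 1 - α ^ n).prod := by
  haveI : IsAlgClosed Ω := IsAlgClosure.isAlgClosed k
  obtain ⟨hb, hle, happ⟩ := hA
  obtain ⟨g, hg⟩ := AVTors.exists_dimNat A
  obtain ⟨hm, hd, hv⟩ := AVWeil.charpoly_props Ω A hg πA l hl hP
  obtain ⟨p, r, hpp, hp, -, -⟩ := exists_card_eq (k := k)
  haveI := hp
  haveI : Fact p.Prime := ⟨hpp⟩
  haveI : NeZero n := ⟨hn.ne'⟩
  let K' := ULift.{u} (FiniteField.Extension k p n)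
  have hfr : Module.finrank k K' = n := ULift.moduleEquiv.finrank_eq.trans (FiniteField.finrank_extension k p n)
  have h1 := ZetaLib.pointCount_eq_nPts A.hom K'
  rw [hfr] at h1
  have h2 := AVWeilCount.card_eq_prod πA (Nat.card k) hle happ hb rfl hg hm hd hv K'
  rw [hfr] at h2
  have h3 : SgaExt.pointCount A.hom K' = Nat.card (Over.mk (Spec.map (CommRingCat.ofHom (algebraMap k K'))) ⟶ A) :=
    Nat.card_congr
      { toFun := fun g => Over.homMk g.1 g.2
        invFun := fun x => ⟨x.left, Over.w x⟩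
        left_inv := fun _ => rfl
        right_inv := fun _ => rfl }
  rw [← h1, h3, h2]
  have h4 : ∀ α : ℂ, α ^ n - 1 = (-1) * (1 - α ^ n) := fun α => by ring
  simp only [h4, Multiset.prod_map_mul, Multiset.map_const', Multiset.prod_replicate]
  have hc : (P.map (Int.castRingHom ℂ)).roots.card = 2 * g := by
    rw [← Polynomial.Splits.natDegree_eq_card_roots (IsAlgClosed.splits _),
      Polynomial.natDegree_map_eq_of_injective (RingHom.injective_int _), hd]
  rw [hc, pow_mul, neg_one_sq, one_pow, _root_.one_mul]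

include hC in
/-- **Isogeny classes are determined by the numbers of points.** -/
theorem isog_iff_nPts : Isog A B ↔ ∀ n, 0 < n → Zeta.nPts A.hom n = Zeta.nPts B.hom n := by
  let Ω := AlgebraicClosure k
  obtain ⟨l, hlp, hl⟩ := AVHomLattice.exists_prime k
  haveI := Fact.mk hlp
  obtain ⟨πA, hπA, hA⟩ := exists_isFrob A
  obtain ⟨πB, hπB, hB⟩ := exists_isFrob B
  haveI := hπA
  haveI := hπB
  obtain ⟨hfA, hfA'⟩ := free_finite_tate (A := A) (Ω := Ω) hl
  obtain ⟨hfB, hfB'⟩ := free_finite_tate (A := B) (Ω := Ω) hl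
  haveI := hfA; haveI := hfA'; haveI := hfB; haveI := hfB'
  obtain ⟨gA, hgA⟩ := AVTors.exists_dimNat A
  obtain ⟨gB, hgB⟩ := AVTors.exists_dimNat B
  obtain ⟨PA, hPAm, -, -, hTA⟩ := AVTateBC.exists_charpoly Ω A hgA (EndAV.End.of πA)
  obtain ⟨PB, hPBm, -, -, hTB⟩ := AVTateBC.exists_charpoly Ω B hgB (EndAV.End.of πB)
  have hPA : (AbDual.tateMapₗ (l := l) (T := SGA7.pt Ω) πA).charpoly = PA.map (Int.castRingHom ℤ_[l]) := hTA l hl
  have hPB : (AbDual.tateMapₗ (l := l) (T := SGA7.pt Ω) πB).charpoly = PB.map (Int.castRingHom ℤ_[l]) := hTB l hl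
  constructor
  · intro h n hn
    have he := charpoly_of_isog (Ω := Ω) (l := l) hA hB h
    rw [hPB] at he
    exact_mod_cast ((nPts_eq_prod hA hl (P := PB) he n hn).trans (nPts_eq_prod hB hl hPB n hn).symm)
  · intro h
    obtain ⟨hbA, hleA, happA⟩ := id hA
    obtain ⟨hbB, hleB, happB⟩ := id hB
    obtain ⟨hmA, hdA, hvA⟩ := AVWeil.charpoly_props Ω A hgA πA l hl hPA
    obtain ⟨hmB, hdB, hvB⟩ := AVWeil.charpoly_props Ω B hgB πB l hl hPB
    have hs : 1 < Real.sqrt (Nat.card k) := by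
      rw [Real.lt_sqrt zero_le_one, one_pow]
      exact_mod_cast Finite.one_lt_card
    have hroots := eq_of_prod_one_sub_pow hs (R := (PA.map (Int.castRingHom ℂ)).roots)
      (R' := (PB.map (Int.castRingHom ℂ)).roots)
      (fun a ha => AVWeil.norm_root Ω A hgA πA (Nat.card k) hbA hleA happA hmA hdA hvA ha)
      (fun a ha => AVWeil.norm_root Ω B hgB πB (Nat.card k) hbB hleB happB hmB hdB hvB ha)
      fun n hn => by rw [← nPts_eq_prod hA hl hPA n hn, ← nPts_eq_prod hB hl hPB n hn, h n hn]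
    have hP : PA = PB := Polynomial.map_injective _ (RingHom.injective_int (Int.castRingHom ℂ)) (by
      rw [(IsAlgClosed.splits (PA.map (Int.castRingHom ℂ))).eq_prod_roots_of_monic (hmA.map _),
        (IsAlgClosed.splits (PB.map (Int.castRingHom ℂ))).eq_prod_roots_of_monic (hmB.map _), hroots])
    exact isog_of_charpoly hC hA hB hl (by rw [hPA, hPB, hP])

omit [Finite k] in
theorem zetaFun_eq_iff {X Y : Scheme.{u}} (f : X ⟶ Spec (CommRingCat.of k)) (g : Y ⟶ Spec (CommRingCat.of k)) :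
    Zeta.zetaFun f = Zeta.zetaFun g ↔ ∀ n, 0 < n → Zeta.nPts f n = Zeta.nPts g n := by
  constructor
  · intro h n hn
    have hf := ZetaLib.hasLogDeriv_zetaFun f
    have hg := ZetaLib.hasLogDeriv_zetaFun g
    rw [h] at hf
    have hne : Zeta.zetaFun g ≠ 0 := fun e => by
      have := ZetaLib.constantCoeff_zetaFun g
      simp [e] at this
    have := congrArg (PowerSeries.coeff (n - 1)) (mul_left_cancel₀ hne (hf.symm.trans hg))
    rw [PowerSeries.coeff_mk, PowerSeries.coeff_mk, show n - 1 + 1 = n by omega] at this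
    exact_mod_cast this
  · intro h
    rw [Zeta.zetaFun, Zeta.zetaFun]
    congr 1
    ext m
    rw [Zeta.logZeta, Zeta.logZeta, PowerSeries.coeff_mk, PowerSeries.coeff_mk]
    rcases m.eq_zero_or_pos with rfl | hm
    · simp
    · rw [h m hm]

end Groth.Agent.AVTate
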