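import Groth.Agent.AVTate.AmpleForm
import Groth.Agent.AVTate.Bound
import Groth.Agent.AVTors.TateArg

/-!
# Tate's argument for maximal isotropic stable subspaces
-/

set_option autoImplicit false
set_option linter.style.haveILetI false
set_option linter.unusedSectionVars false
set_option backward.isDefEq.respectTransparency false
set_option backward.isDefEq.respectTransparency.types false
set_option maxHeartbeats 2000000
set_option synthInstance.maxHeartbeats 400000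

universe u

open CategoryTheory CategoryTheory.Limits MonoidalCategory CartesianMonoidalCategory MonObj AlgebraicGeometry TopologicalSpace

noncomputable section

namespace Groth.Agent.AVTate

open Groth.Agent.H23 Groth.Agent.AVTors.TateArg
open scoped Groth.Agent.H23.PicMul

attribute [local instance] Functor.monObjObj Functor.grpObjObj

variable {k : Type u} [Field k] {Ω : Type u} [Field Ω] [Algebra k Ω] {l : ℕ} [Fact l.Prime]
  {X : Over (Spec (CommRingCat.of k))} [GrpObj X] [IsCommMonObj X] [IsProper X.hom] [GeometricallyIntegral X.hom]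

theorem cmp_pow_smul (m : ℕ) (x : AbDual.TateMod X l (SGA7.pt Ω)) : cmp X m ((l : ℤ_[l]) ^ m • x) = 1 := by
  rw [← Nat.cast_pow, Nat.cast_smul_eq_nsmul]
  show (AbDual.TateMod.component X l (SGA7.pt Ω) m ((l ^ m) • x)).toMul = 1
  rw [map_nsmul]
  exact AbDual.TateMod.component_mem x m

theorem cmp_sub_eq_one {m : ℕ} {t t' : AbDual.TateMod X l (SGA7.pt Ω)} :
    cmp X m (t - t') = 1 ↔ cmp X m t = cmp X m t' := by
  show (AbDual.TateMod.component X l (SGA7.pt Ω) m (t - t')).toMul = 1 ↔ _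
  rw [map_sub, toMul_sub, div_eq_one]

theorem eq_zero_of_pow_smul (m : ℕ) {x : AbDual.TateMod X l (SGA7.pt Ω)} (h : (l : ℤ_[l]) ^ m • x = 0) : x = 0 := by
  induction m with
  | zero => simpa using h
  | succ m ih =>
    refine ih (AVTors.eq_zero_of_l_smul _ ?_)
    rwa [smul_smul, ← pow_succ']

theorem mem_of_pow_smul {W : Submodule ℤ_[l] (AbDual.TateMod X l (SGA7.pt Ω))}
    (hsat : ∀ t, (l : ℤ_[l]) • t ∈ W → t ∈ W) (m : ℕ) {x : AbDual.TateMod X l (SGA7.pt Ω)}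
    (h : (l : ℤ_[l]) ^ m • x ∈ W) : x ∈ W := by
  induction m with
  | zero => simpa using h
  | succ m ih =>
    refine ih (hsat _ ?_)
    rwa [smul_smul, ← pow_succ']

/-- The size of the image of a saturated submodule at level `m`. -/
theorem card_image (W : Submodule ℤ_[l] (AbDual.TateMod X l (SGA7.pt Ω)))
    (hsat : ∀ t, (l : ℤ_[l]) • t ∈ W → t ∈ W) {g : ℕ} (b : Module.Basis (Fin g) ℤ_[l] W) (m : ℕ) :
    Nat.card {x : SGA7.pt Ω ⟶ X // ∃ w ∈ W, cmp X m w = x} = l ^ (m * g) := by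
  haveI : NeZero (l ^ m) := ⟨pow_ne_zero _ (Fact.out : l.Prime).ne_zero⟩
  let lift : (Fin g → ZMod (l ^ m)) → W := fun c => b.equivFun.symm fun i => ((c i).val : ℤ_[l])
  let h : (Fin g → ZMod (l ^ m)) → {x : SGA7.pt Ω ⟶ X // ∃ w ∈ W, cmp X m w = x} :=
    fun c => ⟨cmp X m (lift c).1, _, (lift c).2, rfl⟩
  have hcast : ∀ c : ZMod (l ^ m), PadicInt.toZModPow m ((c.val : ℕ) : ℤ_[l]) = c := fun c => by
    rw [map_natCast, ZMod.natCast_val, ZMod.cast_id]
  have hbij : Function.Bijective h := by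
    refine ⟨fun c c' e => ?_, ?_⟩
    · have e' : cmp X m (lift c).1 = cmp X m (lift c').1 := congrArg Subtype.val e
      obtain ⟨x, hx⟩ := exists_smul_of_component_eq _ m (cmp_sub_eq_one.2 e')
      have hxW : x ∈ W := mem_of_pow_smul hsat m (hx ▸ W.sub_mem (lift c).2 (lift c').2)
      have h1 : lift c - lift c' = (l : ℤ_[l]) ^ m • (⟨x, hxW⟩ : W) := Subtype.ext hx.symm
      funext i
      have h2 := congrArg (fun w => PadicInt.toZModPow m (b.equivFun w i)) h1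
      simp only [lift, map_sub, map_smul, LinearEquiv.apply_symm_apply, Pi.sub_apply, Pi.smul_apply, smul_eq_mul,
        hcast, map_mul, map_pow, map_natCast] at h2
      rw [← Nat.cast_pow, ZMod.natCast_self, zero_mul, sub_eq_zero] at h2
      exact h2
    · rintro ⟨_, w, hw, rfl⟩
      let c : Fin g → ZMod (l ^ m) := fun i => PadicInt.toZModPow m (b.equivFun ⟨w, hw⟩ i)
      have hd : ∀ i, ∃ d : ℤ_[l], b.equivFun ⟨w, hw⟩ i - ((c i).val : ℤ_[l]) = (l : ℤ_[l]) ^ m * d := fun i => by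
        refine Ideal.mem_span_singleton.1 ?_
        rw [← PadicInt.ker_toZModPow, RingHom.mem_ker, map_sub, hcast, sub_self]
      choose d hd using hd
      refine ⟨c, Subtype.ext ?_⟩
      show cmp X m (lift c).1 = cmp X m w
      refine (cmp_sub_eq_one.1 ?_).symm
      have h1 : (⟨w, hw⟩ : W) - lift c = (l : ℤ_[l]) ^ m • b.equivFun.symm d := by
        refine b.equivFun.injective (funext fun i => ?_)
        simp only [lift, map_sub, map_smul, LinearEquiv.apply_symm_apply, Pi.sub_apply, Pi.smul_apply, smul_eq_mul]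
        exact hd i
      rw [show w - (lift c).1 = (l : ℤ_[l]) ^ m • (b.equivFun.symm d).1 from congrArg Subtype.val h1]
      exact cmp_pow_smul m _
  rw [← Nat.card_congr (Equiv.ofBijective h hbij), Nat.card_fun, Nat.card_zmod, Nat.card_fin, ← pow_mul]

variable [IsAlgClosed Ω] {Y : Over (Spec (CommRingCat.of k))} [GrpObj Y] [IsCommMonObj Y] [IsProper Y.hom]
  [GeometricallyIntegral Y.hom]

/-- The kernel of the isogeny attached to `W` at level `m`. -/
theorem ker_eq (u : X ⟶ Y) [IsMonHom u] (v : Y ⟶ X) [IsMonHom v] (m : ℕ)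
    (huv : u ≫ v = 𝟙 X ^ l ^ m) (hvu' : v ≫ u = 𝟙 Y ^ l ^ m) (W : Submodule ℤ_[l] (AbDual.TateMod X l (SGA7.pt Ω)))
    (hv : ∀ t, (∃ z, AbDual.tateMapₗ (l := l) (T := SGA7.pt Ω) v z = t) ↔ ∃ w ∈ W, cmp X m w = cmp X m t)
    (x : SGA7.pt Ω ⟶ X) : x ≫ u = 1 ↔ ∃ w ∈ W, cmp X m w = x := by
  have hvu : ∀ t, AbDual.tateMapₗ (l := l) (T := SGA7.pt Ω) v (AbDual.tateMapₗ (l := l) (T := SGA7.pt Ω) u t) =
      (l : ℤ_[l]) ^ m • t := by
    intro t
    rw [← Nat.cast_pow, Nat.cast_smul_eq_nsmul]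
    refine AbDual.TateMod.ext fun j => ?_
    show Additive.ofMul ((cmp X j t ≫ u) ≫ v) = Additive.ofMul (cmp X j t ^ l ^ m)
    rw [Category.assoc, huv, MonObj.comp_pow, Category.comp_id]
  constructor
  · intro hx
    have hx' : x ^ l ^ m = 1 := by
      rw [← Category.comp_id x, ← MonObj.comp_pow, ← huv, ← Category.assoc, hx, MonObj.one_comp]
    obtain ⟨t, ht⟩ := AVTors.exists_cpt_eq (A := X)
      (fun b => AVTors.exists_root_pt Ω X l (Fact.out : l.Prime).pos b) m x hx'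
    have htx : cmp X m t = x := congrArg Additive.toMul ht
    obtain ⟨z, hz⟩ := AVTors.exists_eq_pow_smul (AbDual.tateMapₗ (l := l) (T := SGA7.pt Ω) u t) m
      (congrArg Additive.ofMul (show cmp X m t ≫ u = 1 by rw [htx, hx]))
    obtain ⟨w, hw, hwt⟩ := (hv t).1 ⟨z, sub_eq_zero.1 (eq_zero_of_pow_smul m (by
      rw [smul_sub, ← map_smul, ← hvu, ← hz, sub_self]))⟩
    exact ⟨w, hw, hwt.trans htx⟩
  · rintro ⟨w, hw, rfl⟩
    obtain ⟨z, hz⟩ := (hv w).2 ⟨w, hw, rfl⟩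
    rw [show cmp X m w = cmp Y m z ≫ v by rw [← hz]; rfl, Category.assoc, hvu', MonObj.comp_pow, Category.comp_id]
    exact AbDual.TateMod.component_mem z m

theorem krullDim_eq {A B : Over (Spec (CommRingCat.of k))} [IsProper A.hom] [GeometricallyIntegral A.hom]
    [IsProper B.hom] [GeometricallyIntegral B.hom] (u : A ⟶ B) [IsFinite u.left] [Surjective u.left] :
    topologicalKrullDim A.left = topologicalKrullDim B.left := by
  haveI := H23.MaxAbelian.isIntegral_of_geometricallyIntegral (X := A)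
  haveI := H23.MaxAbelian.isIntegral_of_geometricallyIntegral (X := B)
  rw [VarDim.topologicalKrullDim_eq_deg_genericPoint A.hom, VarDim.topologicalKrullDim_eq_deg_genericPoint B.hom]
  obtain ⟨x, hx⟩ := u.left.surjective (genericPoint B.left)
  have h1 := VarDim.deg_eq_add u.left B.hom (Over.w u) x
  have h2 := VarDim.deg_eq_add u.left B.hom (Over.w u) (genericPoint A.left)
  rw [H23.Isogeny.fdeg_eq_zero_of_finite u.left, add_zero] at h1 h2
  have h3 := VarDim.deg_le_of_specializes A.hom (genericPoint_specializes x)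
  have h4 := VarDim.deg_le_of_specializes B.hom (genericPoint_specializes (u.left (genericPoint A.left)))
  rw [hx] at h1
  rw [show VarDim.deg A.hom (genericPoint A.left) = VarDim.deg B.hom (genericPoint B.left) by omega]

variable (hl : (l : k) ≠ 0)

include hl in
/-- Finitely many isogeny targets for an isotropic saturated submodule of rank `g`. -/
theorem finite_targets [Finite k] (hC : CubeEmbeds k) {g : ℕ} (hg : topologicalKrullDim X.left = g)
    {L : X.left.Modules} (hLa : CohB1.IsAmple L)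
    [IsCommMonObj ((Over.pullback (AVTors.vΩ (k := k) Ω)).obj X)]
    (W : Submodule ℤ_[l] (AbDual.TateMod X l (SGA7.pt Ω))) (hsat : ∀ t, (l : ℤ_[l]) • t ∈ W → t ∈ W)
    (b : Module.Basis (Fin g) ℤ_[l] W) (hiso : ∀ w ∈ W, ∀ w' ∈ W, gform Ω hl hLa.1 w w' = 0) :
    ∃ (J : Type u) (_ : Finite J) (G : J → Over (Spec (CommRingCat.of k))),
      ∀ (Y : Over (Spec (CommRingCat.of k))) [GrpObj Y] [IsCommMonObj Y] [IsProper Y.hom] [GeometricallyIntegral Y.hom]
        (u : X ⟶ Y) [IsMonHom u] (v : Y ⟶ X) [IsMonHom v] (m : ℕ),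
        u ≫ v = (𝟙 X) ^ (l ^ m) → v ≫ u = (𝟙 Y) ^ (l ^ m) →
        (∀ t, (∃ z, AbDual.tateMapₗ (l := l) (T := SGA7.pt Ω) v z = t) ↔ ∃ w ∈ W, cmp X m w = cmp X m t) →
        ∃ i, Nonempty (Y ≅ G i) := by
  obtain ⟨J, hJ, G, hG⟩ := finite_of_euler hC g (@Curv2.euler k _ X.left ⟨X.hom⟩
    (CohB1.tensorMod L ((Scheme.Modules.pullback ((𝟙 X)⁻¹ : X ⟶ X).left).obj L)))
  refine ⟨J, hJ, G, fun Y _ _ _ _ u _ v _ m huv hvu hv => ?_⟩
  have hn : 0 < l ^ m := pow_pos (Fact.out : l.Prime).pos m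
  let F := Over.pullback (AVTors.vΩ (k := k) Ω)
  haveI : IsCommMonObj (F.obj Y) := AVTors.ChowKernel.comm (F.obj Y)
  haveI : IsMonHom (F.map u) := inferInstance
  haveI : IsFinite u.left := isFinite_of_comp u v (l ^ m) hn huv
  haveI : Surjective u.left := by
    haveI : Surjective (v.left ≫ u.left) := by rw [← Over.comp_left, hvu]; exact AVMulN.surjective_pow _ hn
    exact Surjective.of_comp v.left u.left
  have hY : topologicalKrullDim Y.left = g := (krullDim_eq u).symm.trans hg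
  have hker := ker_eq u v m huv hvu W hv
  have hcard : Nat.card {x : AVTors.pt0 Ω ⟶ F.obj X // x ≫ F.map u = 1} = l ^ (m * g) := by
    rw [← card_image W hsat b m]
    refine (Nat.card_congr (Equiv.subtypeEquiv (AVTors.ePts Ω X).toEquiv fun x => ?_)).symm
    rw [← hker x, MulEquiv.toEquiv_eq_coe, MulEquiv.coe_toEquiv, ← AVTors.ePts_comp]
    exact ((AVTors.ePts Ω Y).map_eq_one_iff).symm
  have hiso' : ∀ s x : AVTors.pt0 Ω ⟶ F.obj X, s ≫ F.map u = 1 → x ≫ F.map u = 1 →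
      e (hΩ Ω hLa.1) (l ^ m) s x = 1 := by
    intro s x hs hx
    obtain ⟨s, rfl⟩ := (AVTors.ePts Ω X).surjective s
    obtain ⟨x, rfl⟩ := (AVTors.ePts Ω X).surjective x
    rw [← AVTors.ePts_comp, MulEquiv.map_eq_one_iff] at hs hx
    obtain ⟨w, hw, rfl⟩ := (hker s).1 hs
    obtain ⟨w', hw', rfl⟩ := (hker x).1 hx
    exact e_eq_one_of_gform Ω (hiso w hw w' hw') m
  obtain ⟨M, hMa, hM⟩ := exists_ample_class Ω hg hY hLa l m hl u v huv hvu hcard hiso'
  exact hG Y hY M hMa hM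

omit hl in
/-- Tate's lemma. -/
theorem exists_span_range' [IsAlgClosure k Ω] (hl : (l : k) ≠ 0)
    [Module.Free ℤ_[l] (AbDual.TateMod X l (SGA7.pt Ω))] [Module.Finite ℤ_[l] (AbDual.TateMod X l (SGA7.pt Ω))]
    (W : Submodule ℤ_[l] (AbDual.TateMod X l (SGA7.pt Ω)))
    (hFin : (∃ (J : Type u) (_ : Finite J) (G : J → Over (Spec (CommRingCat.of k))),
        ∀ (Y : Over (Spec (CommRingCat.of k))) [GrpObj Y] [IsCommMonObj Y] [IsProper Y.hom] [GeometricallyIntegral Y.hom]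
          (u : X ⟶ Y) [IsMonHom u] (v : Y ⟶ X) [IsMonHom v] (m : ℕ),
          u ≫ v = (𝟙 X) ^ (l ^ m) → v ≫ u = (𝟙 Y) ^ (l ^ m) →
          (∀ t, (∃ z, AbDual.tateMapₗ (l := l) (T := SGA7.pt Ω) v z = t) ↔ ∃ w ∈ W, cmp X m w = cmp X m t) →
          ∃ i, Nonempty (Y ≅ G i)))
    (hW : ∀ (σ : Ω ≃ₐ[k] Ω), ∀ w ∈ W, ∀ n, ∃ w' ∈ W, SGA7.galAct σ (cmp X n w) = cmp X n w') :
    ∃ f ∈ Submodule.span ℤ_[l] {ψ : Module.End ℤ_[l] (AbDual.TateMod X l (SGA7.pt Ω)) |
        ∃ (f : X ⟶ X) (_ : IsMonHom f), ψ = AbDual.tateMapₗ (l := l) (T := SGA7.pt Ω) f},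
      (∀ t, f t ∈ W) ∧ ∃ c : ℤ_[l], c ≠ 0 ∧ ∀ w ∈ W, ∃ t, f t = c • w := by
  let S : ℕ → Subgroup (SGA7.pt Ω ⟶ X) := fun n =>
    { carrier := {x | ∃ w ∈ W, cmp X n w = x}
      one_mem' := ⟨0, W.zero_mem, by simp [AVTors.TateArg.cmp]⟩
      mul_mem' := by
        rintro _ _ ⟨a, ha, rfl⟩ ⟨b, hb, rfl⟩
        exact ⟨a + b, W.add_mem ha hb, by simp [AVTors.TateArg.cmp]⟩
      inv_mem' := by
        rintro _ ⟨a, ha, rfl⟩
        exact ⟨-a, W.neg_mem ha, by simp [AVTors.TateArg.cmp]⟩ }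
  have hex := fun n => exists_isogeny (X := X) (Ω := Ω) hl n (S n)
    (by rintro _ ⟨w, -, rfl⟩; exact AbDual.TateMod.component_mem w n)
    (by rintro σ _ ⟨w, hw, rfl⟩; obtain ⟨w', hw', h⟩ := hW σ w hw n; exact ⟨w', hw', h.symm⟩)
  choose Q iQ hQc hQp hQg u hum v hvm huv hvu hv using hex
  obtain ⟨J, hJ, G, hG⟩ := hFin
  have hidx : ∀ n, ∃ i, Nonempty (Q n ≅ G i) := fun n =>
    @hG (Q n) (iQ n) (hQc n) (hQp n) (hQg n) (u n) (hum n) (v n) (hvm n) n (huv n) (hvu n) fun t => (hv n t).symm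
  choose idx hidx using hidx
  obtain ⟨i₀, hi₀⟩ := Finite.exists_infinite_fiber idx
  have hinf : {n | idx n = i₀}.Infinite := Set.infinite_coe_iff.1 hi₀
  obtain ⟨n₀, hn₀⟩ := hinf.nonempty
  choose nj hnj hgt using fun j : ℕ => hinf.exists_gt j
  letI := iQ n₀
  haveI := hQc n₀
  haveI := hQp n₀
  haveI := hQg n₀
  haveI := hum n₀
  haveI := hvm n₀
  have hstep : ∀ j, ∃ e ∈ Submodule.span ℤ_[l] {ψ : Module.End ℤ_[l] (AbDual.TateMod X l (SGA7.pt Ω)) |
        ∃ (f : X ⟶ X) (_ : IsMonHom f), ψ = AbDual.tateMapₗ (l := l) (T := SGA7.pt Ω) f},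
      (∀ t, ∃ w ∈ W, ∃ x, e t = w + (l : ℤ_[l]) ^ j • x) ∧
        ∀ w ∈ W, ∃ t, e t = (l : ℤ_[l]) ^ n₀ • w := by
    intro j
    letI := iQ (nj j)
    haveI := hQc (nj j)
    haveI := hQp (nj j)
    haveI := hQg (nj j)
    haveI := hum (nj j)
    haveI := hvm (nj j)
    obtain ⟨a⟩ := hidx n₀
    obtain ⟨b⟩ := hidx (nj j)
    rw [show idx n₀ = i₀ from hn₀] at a
    rw [show idx (nj j) = i₀ from hnj j] at b
    obtain ⟨g, hg, g', hg', hgg⟩ := exists_hom_of_iso (a ≪≫ b.symm)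
    haveI := hg
    haveI := hg'
    refine ⟨AbDual.tateMapₗ (l := l) (T := SGA7.pt Ω) (u n₀ ≫ g ≫ v (nj j)),
      Submodule.subset_span ⟨_, inferInstance, rfl⟩, fun t => ?_, fun w hw => ?_⟩
    · obtain ⟨w', hw', hw''⟩ := (hv (nj j) (AbDual.tateMapₗ (l := l) (T := SGA7.pt Ω) (u n₀ ≫ g ≫ v (nj j)) t)).2
        ⟨AbDual.tateMapₗ (l := l) (T := SGA7.pt Ω) (u n₀ ≫ g) t, AbDual.TateMod.ext fun m =>
          congrArg Additive.ofMul (by
            show (_ ≫ u n₀ ≫ g) ≫ v (nj j) = _ ≫ u n₀ ≫ g ≫ v (nj j)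
            simp only [Category.assoc])⟩
      obtain ⟨x, hx⟩ := exists_smul_of_component_eq
        (AbDual.tateMapₗ (l := l) (T := SGA7.pt Ω) (u n₀ ≫ g ≫ v (nj j)) t - w') (nj j) (by
          show (AbDual.TateMod.component X l (SGA7.pt Ω) (nj j) _).toMul = 1
          rw [map_sub, toMul_sub, div_eq_one]
          exact hw''.symm)
      refine ⟨w', hw', (l : ℤ_[l]) ^ (nj j - j) • x, ?_⟩
      rw [smul_smul, ← pow_add, Nat.add_sub_cancel' (hgt j).le, hx]
      abel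
    · obtain ⟨z, hz⟩ := (hv (nj j) w).1 ⟨w, hw, rfl⟩
      refine ⟨AbDual.tateMapₗ (l := l) (T := SGA7.pt Ω) (v n₀)
        (AbDual.tateMapₗ (l := l) (T := SGA7.pt Ω) g' z), ?_⟩
      rw [← hz, ← map_smul, ← Nat.cast_pow, Nat.cast_smul_eq_nsmul]
      refine AbDual.TateMod.ext fun m => congrArg Additive.ofMul ?_
      show ((cmp (Q (nj j)) m z ≫ g') ≫ v n₀) ≫ u n₀ ≫ g ≫ v (nj j) = (cmp (Q (nj j)) m z ^ (l ^ n₀)) ≫ v (nj j)
      rw [Category.assoc (cmp _ m z ≫ g'), reassoc_of% (hvu n₀), MonObj.pow_comp, MonObj.comp_pow, Category.id_comp,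
        Category.assoc, reassoc_of% hgg, MonObj.pow_comp]
  choose e he hle hge using hstep
  obtain ⟨f, hf, h1, h2⟩ := AVTors.PadicLimit.exists_limit _ W ((l : ℤ_[l]) ^ n₀) e he hle hge
  exact ⟨f, hf, h1, _, pow_ne_zero _ (by exact_mod_cast (Fact.out : l.Prime).ne_zero), h2⟩


end Groth.Agent.AVTate
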