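import Groth.Agent.AVTors.TateSemi
import Mathlib.LinearAlgebra.BilinearForm.TensorProduct
import Mathlib.LinearAlgebra.BilinearForm.Properties

/-!
# Lattices in the rational Tate module
-/

set_option autoImplicit false

open scoped TensorProduct
open Groth.Agent.AVTors.TateSemi (exists_smul_eq_tmul tmul_injective)

noncomputable section

namespace Groth.Agent.AVTate

variable {l : ℕ} [Fact l.Prime] {M : Type*} [AddCommGroup M] [Module ℤ_[l] M]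
  [Module.Free ℤ_[l] M] [Module.Finite ℤ_[l] M]

/-- The lattice points of a rational subspace. -/
def latt (W : Submodule ℚ_[l] (ℚ_[l] ⊗[ℤ_[l]] M)) : Submodule ℤ_[l] M :=
  (W.restrictScalars ℤ_[l]).comap ((TensorProduct.mk ℤ_[l] ℚ_[l] M) 1)

theorem mem_latt {W : Submodule ℚ_[l] (ℚ_[l] ⊗[ℤ_[l]] M)} {t : M} :
    t ∈ latt W ↔ (1 : ℚ_[l]) ⊗ₜ[ℤ_[l]] t ∈ W := Iff.rfl

omit [Module.Free ℤ_[l] M] [Module.Finite ℤ_[l] M] in
theorem algebraMap_ne_zero {a : ℤ_[l]} (ha : a ≠ 0) : algebraMap ℤ_[l] ℚ_[l] a ≠ 0 := fun h =>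
  ha ((injective_iff_map_eq_zero _).1 (IsFractionRing.injective ℤ_[l] ℚ_[l]) _ h)

theorem latt_sat (W : Submodule ℚ_[l] (ℚ_[l] ⊗[ℤ_[l]] M)) (t : M) (h : (l : ℤ_[l]) • t ∈ latt W) : t ∈ latt W := by
  rw [mem_latt, TensorProduct.tmul_smul, ← algebraMap_smul ℚ_[l]] at h
  exact (W.smul_mem_iff (algebraMap_ne_zero (Nat.cast_ne_zero.2 (Fact.out : l.Prime).ne_zero))).1 h

/-- A basis of the lattice of a subspace. -/
theorem exists_basis_latt {g : ℕ} (W : Submodule ℚ_[l] (ℚ_[l] ⊗[ℤ_[l]] M)) (hW : Module.finrank ℚ_[l] W = g) :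
    Nonempty (Module.Basis (Fin g) ℤ_[l] (latt W)) := by
  haveI : Module.Finite ℤ_[l] (latt W) := inferInstance
  let b := Module.finBasis ℤ_[l] (latt W)
  let v : Fin (Module.finrank ℤ_[l] (latt W)) → ℚ_[l] ⊗[ℤ_[l]] M := fun i => (1 : ℚ_[l]) ⊗ₜ[ℤ_[l]] (b i : M)
  have hv : LinearIndependent ℤ_[l] v :=
    (b.linearIndependent.map' (latt W).subtype (Submodule.ker_subtype _)).map'
      ((TensorProduct.mk ℤ_[l] ℚ_[l] M) 1) (LinearMap.ker_eq_bot.2 tmul_injective)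
  rw [LinearIndependent.iff_fractionRing ℤ_[l] ℚ_[l]] at hv
  have hspan : Submodule.span ℚ_[l] (Set.range v) = W := by
    refine le_antisymm (Submodule.span_le.2 ?_) fun x hx => ?_
    · rintro _ ⟨i, rfl⟩
      exact (b i).2
    · obtain ⟨a, ha, t, ht⟩ := exists_smul_eq_tmul x
      have htm : t ∈ latt W := by rw [mem_latt, ← ht, ← algebraMap_smul ℚ_[l] a]; exact W.smul_mem _ hx
      have h : (1 : ℚ_[l]) ⊗ₜ[ℤ_[l]] t ∈ Submodule.span ℚ_[l] (Set.range v) := by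
        rw [show t = ((∑ i, b.repr ⟨t, htm⟩ i • b i : latt W) : M) by rw [b.sum_repr],
          Submodule.coe_sum, TensorProduct.tmul_sum]
        refine Submodule.sum_mem _ fun i _ => ?_
        rw [Submodule.coe_smul, TensorProduct.tmul_smul, ← algebraMap_smul ℚ_[l]]
        exact Submodule.smul_mem _ _ (Submodule.subset_span ⟨i, rfl⟩)
      rw [← ht, ← algebraMap_smul ℚ_[l] a] at h
      exact (Submodule.smul_mem_iff _ (algebraMap_ne_zero ha)).1 h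
  have h := finrank_span_eq_card hv
  rw [hspan, hW, Fintype.card_fin] at h
  exact ⟨b.reindex (finCongr h.symm)⟩

/-- A relation between the values on lattice points propagates to the rational space. -/
theorem bilin_ext {B B' : LinearMap.BilinForm ℚ_[l] (ℚ_[l] ⊗[ℤ_[l]] M)}
    (h : ∀ t t' : M, B ((1 : ℚ_[l]) ⊗ₜ[ℤ_[l]] t) ((1 : ℚ_[l]) ⊗ₜ[ℤ_[l]] t') =
      B' ((1 : ℚ_[l]) ⊗ₜ[ℤ_[l]] t) ((1 : ℚ_[l]) ⊗ₜ[ℤ_[l]] t')) (x y : ℚ_[l] ⊗[ℤ_[l]] M) : B x y = B' x y := by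
  obtain ⟨a, ha, t, ht⟩ := exists_smul_eq_tmul x
  obtain ⟨b, hb, t', ht'⟩ := exists_smul_eq_tmul y
  have h1 := h t t'
  rw [← ht, ← ht', ← algebraMap_smul ℚ_[l] a, ← algebraMap_smul ℚ_[l] b] at h1
  simp only [map_smul, LinearMap.smul_apply, smul_eq_mul] at h1
  exact mul_left_cancel₀ (algebraMap_ne_zero ha) (mul_left_cancel₀ (algebraMap_ne_zero hb) h1)

/-- The rational form of an integral bilinear form. -/
def rat (b : LinearMap.BilinForm ℤ_[l] M) : LinearMap.BilinForm ℚ_[l] (ℚ_[l] ⊗[ℤ_[l]] M) := b.baseChange ℚ_[l]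

theorem rat_tmul (b : LinearMap.BilinForm ℤ_[l] M) (t t' : M) :
    rat b ((1 : ℚ_[l]) ⊗ₜ[ℤ_[l]] t) ((1 : ℚ_[l]) ⊗ₜ[ℤ_[l]] t') = algebraMap ℤ_[l] ℚ_[l] (b t t') := by
  rw [rat, LinearMap.BilinForm.baseChange_tmul, _root_.mul_one, Algebra.smul_def, _root_.mul_one]

theorem rat_eq_zero_iff {b : LinearMap.BilinForm ℤ_[l] M} {t t' : M} :
    rat b ((1 : ℚ_[l]) ⊗ₜ[ℤ_[l]] t) ((1 : ℚ_[l]) ⊗ₜ[ℤ_[l]] t') = 0 ↔ b t t' = 0 := by
  rw [rat_tmul, map_eq_zero_iff _ (IsFractionRing.injective ℤ_[l] ℚ_[l])]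

theorem rat_isAlt {b : LinearMap.BilinForm ℤ_[l] M} (hb : b.IsAlt) : (rat b).IsAlt := fun x => by
  obtain ⟨a, ha, t, ht⟩ := exists_smul_eq_tmul x
  have h := rat_eq_zero_iff.2 (hb t)
  rw [← ht, ← algebraMap_smul ℚ_[l] a] at h
  simp only [map_smul, LinearMap.smul_apply, smul_eq_mul] at h
  exact (mul_eq_zero.1 ((mul_eq_zero.1 h).resolve_left (algebraMap_ne_zero ha))).resolve_left (algebraMap_ne_zero ha)

theorem rat_nondegenerate {b : LinearMap.BilinForm ℤ_[l] M} (hb : b.IsAlt)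
    (hnd : ∀ t, (∀ t', b t t' = 0) → t = 0) : (rat b).Nondegenerate := by
  have key : ∀ x, (∀ y, rat b x y = 0) → x = 0 := fun x hx => by
    obtain ⟨a, ha, t, ht⟩ := exists_smul_eq_tmul x
    have ht0 : t = 0 := hnd t fun t' => rat_eq_zero_iff.1 (by
      rw [← ht, ← algebraMap_smul ℚ_[l] a, map_smul, LinearMap.smul_apply, hx, smul_zero])
    rw [ht0, TensorProduct.tmul_zero, ← algebraMap_smul ℚ_[l] a] at ht
    exact (smul_eq_zero.1 ht).resolve_left (algebraMap_ne_zero ha)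
  exact ⟨key, fun y hy => key y fun x => (rat_isAlt hb).isRefl x y (hy x)⟩

end Groth.Agent.AVTate
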