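import Mathlib.NumberTheory.Padics.Hensel
import Mathlib.NumberTheory.Padics.RingHoms
import Mathlib.FieldTheory.PrimitiveElement
import Mathlib.FieldTheory.SplittingField.Construction
import Mathlib.FieldTheory.IntermediateField.Adjoin.Basic
import Mathlib.RingTheory.AdjoinRoot
import Mathlib.RingTheory.Polynomial.RationalRoot
import Mathlib.FieldTheory.Minpoly.IsIntegrallyClosed
import Mathlib.RingTheory.Localization.Integral
import Mathlib.Algebra.Field.ZMod

/-!
# Arbitrarily large primes at which an integral polynomial splits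
-/

set_option autoImplicit false

open Polynomial

namespace Groth.Agent.AVTate

/-- A nonconstant integral polynomial has prime divisors of its values prime to any given number. -/
theorem exists_prime_dvd_eval (h : ℤ[X]) (hd : 0 < h.natDegree) (M : ℕ) (hM : M ≠ 0) :
    ∃ (l : ℕ) (n : ℤ), l.Prime ∧ ¬ l ∣ M ∧ (l : ℤ) ∣ h.eval n := by
  have h0 : h ≠ 0 := fun e => by simp [e] at hd
  obtain ⟨n₀, hn₀⟩ := Infinite.exists_notMem_finset h.roots.toFinset
  have hc : h.eval n₀ ≠ 0 := fun e => hn₀ (by simp [h0, e])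
  set c := h.eval n₀ with hcdef
  have hfin : {n : ℤ | h.eval n = c ∨ h.eval n = -c}.Finite := by
    have hne : ∀ a : ℤ, h - C a ≠ 0 := fun a e => by
      have := congrArg natDegree e
      rw [natDegree_sub_C, natDegree_zero] at this
      omega
    refine (((h - C c).roots.toFinset ∪ (h - C (-c)).roots.toFinset).finite_toSet).subset ?_
    intro n hn
    simp only [Set.mem_setOf_eq] at hn
    simp only [Finset.coe_union, Set.mem_union, Finset.mem_coe, Multiset.mem_toFinset, mem_roots (hne _), IsRoot.def,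
      eval_sub, eval_C, sub_eq_zero]
    exact hn
  have hinj : Function.Injective fun t : ℤ => n₀ + c * M * t := fun a b e => by
    simpa [hc, hM] using e
  obtain ⟨t, ht⟩ := Infinite.exists_notMem_finset (hfin.preimage hinj.injOn).toFinset
  rw [Set.Finite.mem_toFinset] at ht
  obtain ⟨s, hs⟩ : c * M ∣ h.eval (n₀ + c * M * t) - c :=
    dvd_trans (Dvd.intro t (by ring)) (sub_dvd_eval_sub _ _ h)
  have he : h.eval (n₀ + c * M * t) = c * (1 + M * s) := by linear_combination hs
  have h1 : (1 + (M : ℤ) * s).natAbs ≠ 1 := by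
    intro e
    apply ht
    rcases Int.natAbs_eq (1 + (M : ℤ) * s) with e' | e' <;> rw [e, Nat.cast_one] at e'
    · left; show h.eval (n₀ + c * M * t) = c; rw [he, e', mul_one]
    · right; show h.eval (n₀ + c * M * t) = -c; rw [he, e', mul_neg_one]
  obtain ⟨l, hl, hld⟩ := Nat.exists_prime_and_dvd h1
  refine ⟨l, n₀ + c * M * t, hl, fun hlM => ?_, ?_⟩
  · have h2 : (l : ℤ) ∣ 1 + (M : ℤ) * s := Int.natCast_dvd.2 hld
    have h3 : (l : ℤ) ∣ (M : ℤ) * s := dvd_mul_of_dvd_left (Int.natCast_dvd_natCast.2 hlM) s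
    have h4 : (l : ℤ) ∣ 1 := (dvd_add_left h3).1 h2
    exact hl.one_lt.ne' (Nat.dvd_one.1 (by exact_mod_cast h4))
  · rw [he]
    exact dvd_mul_of_dvd_right (Int.natCast_dvd.2 hld) c

/-- Clearing the denominators of a Bézout identity. -/
theorem exists_bezout_int (μ : ℤ[X]) (hsep : (μ.map (Int.castRingHom ℚ)).Separable) :
    ∃ (E : ℤ) (a b : ℤ[X]), E ≠ 0 ∧ a * μ + b * derivative μ = C E := by
  obtain ⟨a, b, hab⟩ := hsep
  obtain ⟨p, hp, ha⟩ := IsLocalization.integerNormalization_spec (nonZeroDivisors ℤ) a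
  obtain ⟨q, hq, hb⟩ := IsLocalization.integerNormalization_spec (nonZeroDivisors ℤ) b
  refine ⟨p * q, C q * IsLocalization.integerNormalization (nonZeroDivisors ℤ) a,
    C p * IsLocalization.integerNormalization (nonZeroDivisors ℤ) b,
    mul_ne_zero (nonZeroDivisors.ne_zero hp) (nonZeroDivisors.ne_zero hq), ?_⟩
  apply map_injective (Int.castRingHom ℚ) Int.cast_injective
  have e : ∀ f : ℤ[X], f.map (Int.castRingHom ℚ) = f.map (algebraMap ℤ ℚ) := fun _ => rfl
  simp only [Polynomial.map_add, Polynomial.map_mul, map_C, ← derivative_map]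
  rw [e (IsLocalization.integerNormalization _ a), e (IsLocalization.integerNormalization _ b)]
  have ha' : (IsLocalization.integerNormalization (nonZeroDivisors ℤ) a).map (algebraMap ℤ ℚ) = C (p : ℚ) * a := by
    rw [ha, zsmul_eq_mul, C_eq_intCast]
  have hb' : (IsLocalization.integerNormalization (nonZeroDivisors ℤ) b).map (algebraMap ℤ ℚ) = C (q : ℚ) * b := by
    rw [hb, zsmul_eq_mul, C_eq_intCast]
  rw [ha', hb']
  calc _ = C ((p : ℚ) * q) * (a * μ.map (Int.castRingHom ℚ) + b * derivative (μ.map (Int.castRingHom ℚ))) := by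
        rw [C_mul]; simp only [eq_intCast]; ring
    _ = _ := by rw [hab, mul_one]; simp

/-- A polynomial splitting into distinct factors mod `l` splits over `ℤ_l`. -/
theorem exists_padic_roots (l : ℕ) [Fact l.Prime] (μ : ℤ[X]) (hμ : μ.Monic)
    (cz : Fin μ.natDegree → ZMod l) (hmod : μ.map (Int.castRingHom (ZMod l)) = ∏ i, (X - C (cz i)))
    (hsepz : (μ.map (Int.castRingHom (ZMod l))).Separable) :
    ∃ r : Fin μ.natDegree → ℤ_[l], Function.Injective r ∧ μ.map (Int.castRingHom ℤ_[l]) = ∏ i, (X - C (r i)) := by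
  have hinjz : Function.Injective cz := separable_prod_X_sub_C_iff.1 (hmod ▸ hsepz)
  choose a ha using fun i => ZMod.intCast_surjective (cz i)
  have hker : ∀ u : ℤ_[l], PadicInt.toZMod u = 0 ↔ ¬ IsUnit u := fun u => by
    rw [← RingHom.mem_ker, PadicInt.ker_toZMod, IsLocalRing.mem_maximalIdeal, mem_nonunits_iff]
  have hz : ∀ (p : ℤ[X]) (i : Fin μ.natDegree),
      PadicInt.toZMod (p.aeval (a i : ℤ_[l])) = (p.map (Int.castRingHom (ZMod l))).eval (cz i) := fun p i => by
    rw [← ha i, eval_intCast_map, show (a i : ℤ_[l]) = algebraMap ℤ ℤ_[l] (a i) from rfl,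
      aeval_algebraMap_apply_eq_algebraMap_eval]
    simp
  have hroot : ∀ i, ∃ z : ℤ_[l], μ.aeval z = 0 ∧ PadicInt.toZMod z = cz i := by
    intro i
    have hev : (μ.map (Int.castRingHom (ZMod l))).eval (cz i) = 0 := by
      rw [hmod, eval_prod]; exact Finset.prod_eq_zero (Finset.mem_univ i) (by simp)
    have hder : (derivative (μ.map (Int.castRingHom (ZMod l)))).eval (cz i) ≠ 0 := by
      intro e
      obtain ⟨u, v, huv⟩ := hsepz
      have := congrArg (eval (cz i)) huv
      simp only [eval_add, eval_mul, hev, e, mul_zero, add_zero, eval_one] at this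
      exact zero_ne_one this
    have hnorm : ‖(derivative μ).aeval (a i : ℤ_[l])‖ = 1 := by
      refine PadicInt.isUnit_iff.1 ?_
      by_contra hu
      refine hder ?_
      rw [derivative_map, ← hz]
      exact (hker _).2 hu
    have hlt : ‖μ.aeval (a i : ℤ_[l])‖ < ‖(derivative μ).aeval (a i : ℤ_[l])‖ ^ 2 := by
      rw [hnorm, one_pow]
      exact PadicInt.mem_nonunits.1 ((hker _).1 (by rw [hz, hev]))
    obtain ⟨z, hz0, hzn, -, -⟩ := hensels_lemma hlt
    refine ⟨z, hz0, ?_⟩
    rw [hnorm] at hzn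
    have h := (hker (z - (a i : ℤ_[l]))).2 (PadicInt.mem_nonunits.2 hzn)
    rw [map_sub, sub_eq_zero] at h
    rw [h, map_intCast, ha]
  choose r hr0 hrc using hroot
  refine ⟨r, fun i j e => hinjz (by rw [← hrc i, e, hrc j]), ?_⟩
  refine eq_of_monic_of_dvd_of_natDegree_le (monic_prod_X_sub_C r Finset.univ) (hμ.map _) ?_ ?_
  · refine Finset.prod_dvd_of_coprime ?_ fun i _ => ?_
    · intro i _ j _ hij
      refine isCoprime_X_sub_C_of_isUnit_sub ?_
      by_contra hu
      refine hij (hinjz ?_)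
      rw [← hrc i, ← hrc j, ← sub_eq_zero, ← map_sub]
      exact (hker _).2 hu
    · rw [dvd_iff_isRoot, IsRoot, eval_map]
      exact hr0 i
  · rw [hμ.natDegree_map, natDegree_finsetProd_X_sub_C_eq_card, Finset.card_univ, Fintype.card_fin]

/-- An integral primitive element, with the roots as polynomials in it. -/
theorem exists_root_data (L : Type*) [Field L] [Algebra ℚ L] [FiniteDimensional ℚ L] :
    ∃ α : L, IsIntegral ℤ α ∧ ∀ β : L, ∃ P : ℚ[X], aeval α P = β := by
  obtain ⟨α₀, hα₀⟩ := Field.exists_primitive_element ℚ L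
  obtain ⟨c, hc, hαint⟩ :=
    ((IsFractionRing.isAlgebraic_iff ℤ ℚ L).2 (Algebra.IsAlgebraic.isAlgebraic (R := ℚ) α₀)).exists_integral_multiple
  refine ⟨c • α₀, hαint, fun β => ?_⟩
  have h1 : β ∈ IntermediateField.adjoin ℚ ({c • α₀} : Set L) := by
    have hle : IntermediateField.adjoin ℚ ({α₀} : Set L) ≤ IntermediateField.adjoin ℚ ({c • α₀} : Set L) := by
      rw [IntermediateField.adjoin_simple_le_iff]
      have h := IntermediateField.smul_mem (IntermediateField.adjoin ℚ ({c • α₀} : Set L))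
        (IntermediateField.mem_adjoin_simple_self ℚ (c • α₀)) (x := ((c : ℚ))⁻¹)
      rw [← Int.cast_smul_eq_zsmul ℚ c α₀] at h ⊢
      rwa [inv_smul_smul₀ (Int.cast_ne_zero.2 hc)] at h
    exact hle (hα₀ ▸ IntermediateField.mem_top)
  rw [← IntermediateField.mem_toSubalgebra,
    IntermediateField.adjoin_simple_toSubalgebra_of_isAlgebraic (Algebra.IsAlgebraic.isAlgebraic _),
    Algebra.adjoin_singleton_eq_range_aeval] at h1
  exact h1

/-- The roots as integral expressions modulo a prime. -/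
theorem exists_mod_split (L : Type*) [Field L] [CharZero L] (μ : ℤ[X]) (α : L)
    (hα : IsIntegral ℤ α) {d : ℕ} (β : Fin d → L) (hprod : μ.map (algebraMap ℤ L) = ∏ i, (X - C (β i)))
    (R : Fin d → ℤ[X]) (D : Fin d → ℤ) (hR : ∀ i, aeval α (R i) = (D i : L) * β i)
    (l : ℕ) [Fact l.Prime] (n : ℤ) (hln : (l : ℤ) ∣ (minpoly ℤ α).eval n) (hD : ∀ i, (D i : ZMod l) ≠ 0) :
    ∃ cz : Fin d → ZMod l, μ.map (Int.castRingHom (ZMod l)) = ∏ i, (X - C (cz i)) := by
  let h := minpoly ℤ α
  let π : ℤ →+* ZMod l := Int.castRingHom _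
  let ψ : AdjoinRoot h →+* ZMod l := AdjoinRoot.lift π (n : ZMod l) (by
    rw [eval₂_at_intCast]; exact (ZMod.intCast_zmod_eq_zero_iff_dvd _ _).2 hln)
  let θ : AdjoinRoot h →+* L := AdjoinRoot.lift (algebraMap ℤ L) α (minpoly.aeval ℤ α)
  have hθ : Function.Injective θ := by
    rw [injective_iff_map_eq_zero]
    intro x hx
    obtain ⟨p, rfl⟩ := AdjoinRoot.mk_surjective x
    rw [AdjoinRoot.lift_mk] at hx
    exact AdjoinRoot.mk_eq_zero.2 (minpoly.isIntegrallyClosed_dvd hα hx)
  let Dp : ℤ := ∏ i, D i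
  have hθi : θ.comp (algebraMap ℤ (AdjoinRoot h)) = algebraMap ℤ L := RingHom.ext_int _ _
  have hψi : ψ.comp (algebraMap ℤ (AdjoinRoot h)) = π := RingHom.ext_int _ _
  have key : C (algebraMap ℤ (AdjoinRoot h) Dp) * μ.map (algebraMap ℤ (AdjoinRoot h)) =
      ∏ i, (C (algebraMap ℤ (AdjoinRoot h) (D i)) * X - C (AdjoinRoot.mk h (R i))) := by
    apply map_injective θ hθ
    have e : ∀ z : ℤ, θ (algebraMap ℤ (AdjoinRoot h) z) = (z : L) := fun z => by
      rw [← RingHom.comp_apply, hθi]; simp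
    simp only [Polynomial.map_mul, map_C, Polynomial.map_map, hθi, Polynomial.map_prod, Polynomial.map_sub, map_X, e,
      hprod, Dp, Int.cast_prod, map_prod, ← Finset.prod_mul_distrib]
    refine Finset.prod_congr rfl fun i _ => ?_
    rw [show θ (AdjoinRoot.mk h (R i)) = aeval α (R i) from AdjoinRoot.lift_mk _ _, hR, mul_sub, C_mul]
  refine ⟨fun i => ψ (AdjoinRoot.mk h (R i)) / (D i : ZMod l), ?_⟩
  have h1 := congrArg (Polynomial.map ψ) key
  have e : ∀ z : ℤ, ψ (algebraMap ℤ (AdjoinRoot h) z) = (z : ZMod l) := fun z => by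
    rw [← RingHom.comp_apply, hψi]; simp [π]
  simp only [Polynomial.map_mul, map_C, Polynomial.map_map, hψi, Polynomial.map_prod, Polynomial.map_sub, map_X, e,
    Dp, Int.cast_prod, map_prod] at h1
  refine mul_left_cancel₀ (Finset.prod_ne_zero_iff.2 fun i _ => C_ne_zero.2 (hD i)) (h1.trans ?_)
  rw [← Finset.prod_mul_distrib]
  refine Finset.prod_congr rfl fun i _ => ?_
  rw [mul_sub, ← C_mul, mul_div_cancel₀ _ (hD i)]

/-- **Arbitrarily large primes at which `μ` splits into distinct linear factors over `ℤ_l`.** -/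
theorem exists_split_prime (μ : ℤ[X]) (hμ : μ.Monic) (hsep : (μ.map (Int.castRingHom ℚ)).Separable) (bad : ℕ) :
    ∃ (l : ℕ) (_ : Fact l.Prime), bad < l ∧ ∃ r : Fin μ.natDegree → ℤ_[l], Function.Injective r ∧
      μ.map (Int.castRingHom ℤ_[l]) = ∏ i, (X - C (r i)) := by
  classical
  let f := μ.map (Int.castRingHom ℚ)
  obtain ⟨α, hαint, hP⟩ := exists_root_data f.SplittingField
  have hsplit : (f.map (algebraMap ℚ f.SplittingField)).Splits := SplittingField.splits f
  have hcard : (f.map (algebraMap ℚ f.SplittingField)).roots.card = μ.natDegree := by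
    rw [← hsplit.natDegree_eq_card_roots, natDegree_map, hμ.natDegree_map]
  have hlen : μ.natDegree = (f.map (algebraMap ℚ f.SplittingField)).roots.toList.length := by
    rw [Multiset.length_toList, hcard]
  let β : Fin μ.natDegree → f.SplittingField := fun i =>
    (f.map (algebraMap ℚ f.SplittingField)).roots.toList.get (finCongr hlen i)
  have hprod : μ.map (algebraMap ℤ f.SplittingField) = ∏ i, (X - C (β i)) := by
    have hm : μ.map (algebraMap ℤ f.SplittingField) = f.map (algebraMap ℚ f.SplittingField) := by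
      rw [Polynomial.map_map]; congr 1
    rw [hm]
    conv_lhs => rw [hsplit.eq_prod_roots_of_monic ((hμ.map _).map _)]
    conv_lhs => rw [← Multiset.coe_toList (f.map (algebraMap ℚ f.SplittingField)).roots, Multiset.map_coe, Multiset.prod_coe]
    conv_lhs => rw [← List.ofFn_get ((f.map (algebraMap ℚ f.SplittingField)).roots.toList)]
    rw [List.map_ofFn, List.prod_ofFn]
    exact (Fintype.prod_equiv (finCongr hlen) _ _ fun _ => rfl).symm
  choose P hP using fun i => hP (β i)
  choose D hD hDP using fun i => IsLocalization.integerNormalization_spec (nonZeroDivisors ℤ) (P i)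
  let R : Fin μ.natDegree → ℤ[X] := fun i => IsLocalization.integerNormalization (nonZeroDivisors ℤ) (P i)
  have hR : ∀ i, aeval α (R i) = (D i : f.SplittingField) * β i := fun i => by
    rw [← aeval_map_algebraMap ℚ, show (R i).map (algebraMap ℤ ℚ) = C (D i : ℚ) * P i by
      rw [hDP i, zsmul_eq_mul, C_eq_intCast], map_mul, aeval_C, hP, map_intCast]
  obtain ⟨E, A, B, hE, hAB⟩ := exists_bezout_int μ hsep
  have hDp : (∏ i, D i) ≠ 0 := Finset.prod_ne_zero_iff.2 fun i _ => nonZeroDivisors.ne_zero (hD i)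
  obtain ⟨l, n, hlp, hlM, hln⟩ := exists_prime_dvd_eval (minpoly ℤ α) (minpoly.natDegree_pos hαint)
    ((E * ∏ i, D i).natAbs * bad.factorial)
    (mul_ne_zero (Int.natAbs_ne_zero.2 (mul_ne_zero hE hDp)) (Nat.factorial_ne_zero bad))
  haveI : Fact l.Prime := ⟨hlp⟩
  refine ⟨l, inferInstance, ?_, ?_⟩
  · by_contra hle
    exact hlM (dvd_mul_of_dvd_right (Nat.dvd_factorial hlp.pos (not_lt.1 hle)) _)
  have hnot : ¬ (l : ℤ) ∣ E * ∏ i, D i := fun hd' => hlM (dvd_mul_of_dvd_left (Int.natCast_dvd.1 hd') _)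
  have hEz : (E : ZMod l) ≠ 0 := fun e => hnot (dvd_mul_of_dvd_left ((ZMod.intCast_zmod_eq_zero_iff_dvd _ _).1 e) _)
  obtain ⟨cz, hmod⟩ := exists_mod_split f.SplittingField μ α hαint β hprod R D hR l n hln fun i e =>
    hnot (dvd_mul_of_dvd_right (((ZMod.intCast_zmod_eq_zero_iff_dvd _ _).1 e).trans (Finset.dvd_prod_of_mem D (Finset.mem_univ i))) _)
  refine exists_padic_roots l μ hμ cz hmod
    ⟨C (E : ZMod l)⁻¹ * A.map (Int.castRingHom _), C (E : ZMod l)⁻¹ * B.map (Int.castRingHom _), ?_⟩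
  have h1 := congrArg (Polynomial.map (Int.castRingHom (ZMod l))) hAB
  simp only [Polynomial.map_add, Polynomial.map_mul, map_C, ← derivative_map] at h1
  rw [mul_assoc, mul_assoc, ← mul_add, h1, ← C_mul, eq_intCast, inv_mul_cancel₀ hEz, C_1]

end Groth.Agent.AVTate
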