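import Groth.Agent.AVTate.Isotropic
import Groth.Agent.AVTate.Eigen
import Groth.Agent.AVTate.Frob
import Groth.Agent.AVTate.Lattice
import Groth.Agent.AVTate.SplitPrime
import Groth.Agent.AVTate.Lagrangian
import Groth.Agent.S14944
import Groth.Agent.Lib.AVSemisimple

/-!
# Tate's theorem on endomorphisms over a finite field
-/

set_option autoImplicit false
set_option linter.style.haveILetI false
set_option linter.unusedSectionVars false
set_option backward.isDefEq.respectTransparency false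
set_option backward.isDefEq.respectTransparency.types false
set_option maxHeartbeats 2000000
set_option synthInstance.maxHeartbeats 400000

universe u

open CategoryTheory CategoryTheory.Limits MonoidalCategory CartesianMonoidalCategory MonObj AlgebraicGeometry
open scoped TensorProduct

noncomputable section

namespace Groth.Agent.AVTate

open Groth.Agent.AVTors (TateSemi.alg TateSemi.rep)
open Groth.Agent.AVTors.TateArg (cmp)

variable {k : Type u} [Field k] [Finite k] (Ω : Type u) [Field Ω] [Algebra k Ω] [IsAlgClosure k Ω]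
  {X : Over (Spec (CommRingCat.of k))} [GrpObj X] [IsCommMonObj X] [IsProper X.hom] [GeometricallyIntegral X.hom]
  {π : X ⟶ X} [IsMonHom π] (hπ : IsFrob X π) {l : ℕ} [Fact l.Prime] (hl : (l : k) ≠ 0)
  [Module.Free ℤ_[l] (AbDual.TateMod X l (SGA7.pt Ω))] [Module.Finite ℤ_[l] (AbDual.TateMod X l (SGA7.pt Ω))]

include hπ in
/-- The endomorphisms commute with the Frobenius. -/
theorem alg_commute {u : Module.End ℚ_[l] (ℚ_[l] ⊗[ℤ_[l]] AbDual.TateMod X l (SGA7.pt Ω))}
    (hu : u ∈ TateSemi.alg l Ω X) :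
    u * TateSemi.rep l Ω X (EndAV.End.of π) = TateSemi.rep l Ω X (EndAV.End.of π) * u := by
  have hu' : u ∈ Submodule.span ℚ_[l] (Set.range (TateSemi.rep l Ω X)) :=
    AVTors.TateSemi.alg_eq_span (X := X) (l := l) (Ω := Ω) ▸ hu
  clear hu
  induction hu' using Submodule.span_induction with
  | mem x hx =>
    obtain ⟨φ, rfl⟩ := hx
    rw [← map_mul, ← map_mul, hπ.central φ]
  | zero => rw [zero_mul, mul_zero]
  | add a b _ _ ha hb => rw [add_mul, mul_add, ha, hb]
  | smul c a _ ha => rw [smul_mul_assoc, mul_smul_comm, ha]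

include hl in
/-- A rational endomorphism commuting with the commutant of the endomorphisms is an endomorphism. -/
theorem mem_alg_of_bicommutant (φ : Module.End ℚ_[l] (ℚ_[l] ⊗[ℤ_[l]] AbDual.TateMod X l (SGA7.pt Ω)))
    (h : ∀ c : Module.End ℚ_[l] (ℚ_[l] ⊗[ℤ_[l]] AbDual.TateMod X l (SGA7.pt Ω)),
      (∀ f : EndAV.End X, c * TateSemi.rep l Ω X f = TateSemi.rep l Ω X f * c) → φ * c = c * φ) :
    φ ∈ TateSemi.alg l Ω X := by
  haveI : IsAlgClosed Ω := IsAlgClosure.isAlgClosed k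
  let V := ℚ_[l] ⊗[ℤ_[l]] AbDual.TateMod X l (SGA7.pt Ω)
  let E := TateSemi.alg l Ω X
  haveI := AVTors.TateSemi.isSemisimpleRing (X := X) (Ω := Ω) hl
  haveI : Module.Finite ℚ_[l] V := inferInstance
  let G : Module.End (Module.End E V) V :=
    { toFun := φ
      map_add' := map_add φ
      map_smul' := fun c v => by
        show φ (c v) = c (φ v)
        exact LinearMap.congr_fun (h (c.restrictScalars ℚ_[l]) fun f => LinearMap.ext fun x =>
          c.map_smul (⟨_, AVTors.TateSemi.rep_mem f⟩ : E) x) v }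
  obtain ⟨s, hs⟩ := Module.Finite.fg_top (R := ℚ_[l]) (M := V)
  obtain ⟨r, hr⟩ := jacobson_density (R := E) G s
  have : φ = (r : Module.End ℚ_[l] V) := by
    refine LinearMap.ext_on hs fun x hx => ?_
    exact hr x hx
  rw [this]
  exact r.2

include hπ hl in
/-- At a prime where the Frobenius splits, its commutant consists of endomorphisms. -/
theorem mem_alg_of_commute_split (hC : CubeEmbeds k) (m : Polynomial ℤ) (hm0 : Polynomial.aeval (EndAV.End.of π) m = 0)
    {d : ℕ} (r : Fin d → ℤ_[l]) (hr : Function.Injective r)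
    (hmr : m.map (Int.castRingHom ℤ_[l]) = ∏ i, (Polynomial.X - Polynomial.C (r i)))
    (φ : Module.End ℚ_[l] (ℚ_[l] ⊗[ℤ_[l]] AbDual.TateMod X l (SGA7.pt Ω)))
    (hφ : φ * TateSemi.rep l Ω X (EndAV.End.of π) = TateSemi.rep l Ω X (EndAV.End.of π) * φ) :
    φ ∈ TateSemi.alg l Ω X := by
  haveI : IsAlgClosed Ω := IsAlgClosure.isAlgClosed k
  let T := AbDual.TateMod X l (SGA7.pt Ω)
  let P := TateSemi.rep l Ω X (EndAV.End.of π)
  let r' : Fin d → ℚ_[l] := fun i => algebraMap ℤ_[l] ℚ_[l] (r i)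
  have hr' : Function.Injective r' := (IsFractionRing.injective ℤ_[l] ℚ_[l]).comp hr
  have hP0 : Polynomial.aeval P (∏ i, (Polynomial.X - Polynomial.C (r' i))) = 0 := by
    have h1 : ∏ i, (Polynomial.X - Polynomial.C (r' i)) = (m.map (Int.castRingHom ℤ_[l])).map (algebraMap ℤ_[l] ℚ_[l]) := by
      simp [hmr, Polynomial.map_prod, r']
    rw [h1, Polynomial.aeval_map_algebraMap,
      show P = Module.End.baseChangeHom ℤ_[l] ℚ_[l] T (EndAV.End.tateRep l (SGA7.pt Ω) (EndAV.End.of π)) from rfl,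
      Polynomial.aeval_algHom_apply, ← AVEnd0.aeval_tateRep, hm0, map_zero, map_zero]
  refine mem_alg_of_bicommutant Ω hl φ fun c hc => commute_of_eigen hr' hP0 ?_ hφ
  intro v a hv
  obtain ⟨g, hg⟩ := AVTors.exists_dimNat X
  obtain ⟨L, hLa⟩ := AVProj.exists_isAmple (X := X)
  haveI : IsCommMonObj ((Over.pullback (AVTors.vΩ (k := k) Ω)).obj X) :=
    AVTors.ChowKernel.comm ((Over.pullback (AVTors.vΩ (k := k) Ω)).obj X)
  obtain ⟨eT⟩ := AVTors.exists_linearEquiv_pt Ω X hg l hl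
  let B := gform Ω hl hLa.1 (X := X)
  let eB := rat B
  have hBalt : B.IsAlt := gform_isAlt Ω
  have hdim : Module.finrank ℚ_[l] (ℚ_[l] ⊗[ℤ_[l]] T) = 2 * g := by
    rw [Module.finrank_baseChange, ← eT.finrank_eq, Module.finrank_fin_fun]
  let F := Algebra.adjoin ℚ_[l] {P}
  obtain ⟨s, hs⟩ := exists_algEquiv_pi hr' hP0
  obtain ⟨hb, hle, happ⟩ := hπ
  have hsim : ∀ x y, eB (P x) (P y) = (Nat.card k : ℚ_[l]) * eB x y := by
    intro x y
    have h := bilin_ext (B := eB.compl₁₂ P P) (B' := (Nat.card k : ℚ_[l]) • eB) (fun t t' => by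
      show eB (P ((1 : ℚ_[l]) ⊗ₜ[ℤ_[l]] t)) (P ((1 : ℚ_[l]) ⊗ₜ[ℤ_[l]] t')) = (Nat.card k : ℚ_[l]) • eB _ _
      rw [show P ((1 : ℚ_[l]) ⊗ₜ[ℤ_[l]] t) = (1 : ℚ_[l]) ⊗ₜ[ℤ_[l]] AbDual.tateMapₗ (l := l) (T := SGA7.pt Ω) π t from rfl,
        show P ((1 : ℚ_[l]) ⊗ₜ[ℤ_[l]] t') = (1 : ℚ_[l]) ⊗ₜ[ℤ_[l]] AbDual.tateMapₗ (l := l) (T := SGA7.pt Ω) π t' from rfl,
        rat_tmul, rat_tmul, gform_frob Ω π (Nat.card k) hb hle happ, map_mul, map_natCast, smul_eq_mul]) x y
    exact h
  have hpow : ∀ n : ℕ, ∀ x y, eB ((P ^ n) x) ((P ^ n) y) = (Nat.card k : ℚ_[l]) ^ n * eB x y := by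
    intro n
    induction n with
    | zero => intro x y; simp
    | succ n ih =>
      intro x y
      rw [pow_succ P, Module.End.mul_apply, Module.End.mul_apply, ih, hsim, pow_succ, _root_.mul_assoc]
  have hmax : ∀ W : Submodule ℚ_[l] (ℚ_[l] ⊗[ℤ_[l]] T), (∀ f ∈ F, ∀ w ∈ W, f w ∈ W) →
      (∀ x ∈ W, ∀ y ∈ W, eB x y = 0) → Module.finrank ℚ_[l] W = g → ∀ w ∈ W, c w ∈ W := by
    intro W hWF hWiso hWg w hw
    obtain ⟨b⟩ := exists_basis_latt W hWg
    have hstab : ∀ (j : ℕ), ∀ t ∈ latt W, EndAV.End.tateRep l (SGA7.pt Ω) (EndAV.End.of π ^ j) t ∈ latt W := by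
      intro j t ht
      have h1 := hWF (P ^ j) (Subalgebra.pow_mem _ (Algebra.self_mem_adjoin_singleton _ P) j) _ (mem_latt.1 ht)
      rw [← map_pow, show TateSemi.rep l Ω X (EndAV.End.of π ^ j) ((1 : ℚ_[l]) ⊗ₜ[ℤ_[l]] t) =
        (1 : ℚ_[l]) ⊗ₜ[ℤ_[l]] EndAV.End.tateRep l (SGA7.pt Ω) (EndAV.End.of π ^ j) t from rfl] at h1
      exact h1
    have hW₀ : ∀ (σ : Ω ≃ₐ[k] Ω), ∀ t ∈ latt W, ∀ n, ∃ t' ∈ latt W,
        SGA7.galAct σ (cmp X n t) = cmp X n t' := by
      intro σ t ht n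
      obtain ⟨j, hj⟩ := exists_galAct_eq (π := π) ⟨hb, hle, happ⟩ σ (cmp X n t) (l ^ n)
        (pow_pos (Fact.out : l.Prime).pos n) (AbDual.TateMod.component_mem t n)
      exact ⟨_, hstab j t ht, hj⟩
    obtain ⟨f, hf, hfW, a, ha, hge⟩ := exists_span_range' hl (latt W) (finite_targets (Ω := Ω) hl hC hg hLa (latt W)
      (latt_sat W) b fun x hx y hy => rat_eq_zero_iff.1 (hWiso _ hx _ hy)) hW₀
    have hcf : c * f.baseChange ℚ_[l] = f.baseChange ℚ_[l] * c := by
      clear hfW hge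
      induction hf using Submodule.span_induction with
      | mem x hx =>
        obtain ⟨h, hh, rfl⟩ := hx
        exact hc (EndAV.End.of h)
      | zero => rw [LinearMap.baseChange_zero, mul_zero, zero_mul]
      | add x y _ _ hx hy => rw [LinearMap.baseChange_add, mul_add, add_mul, hx, hy]
      | smul e x _ hx => rw [LinearMap.baseChange_smul, smul_mul_assoc, mul_smul_comm, hx]
    have hrange : ∀ x, f.baseChange ℚ_[l] x ∈ W := by
      intro x
      induction x using TensorProduct.induction_on with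
      | zero => rw [map_zero]; exact W.zero_mem
      | add p q hp hq => rw [map_add]; exact W.add_mem hp hq
      | tmul q t =>
        rw [LinearMap.baseChange_tmul, show q ⊗ₜ[ℤ_[l]] (f t) = q • ((1 : ℚ_[l]) ⊗ₜ[ℤ_[l]] f t) from by
          rw [TensorProduct.smul_tmul', smul_eq_mul, _root_.mul_one]]
        exact W.smul_mem _ (hfW t)
    obtain ⟨e, he, t, ht⟩ := AVTors.TateSemi.exists_smul_eq_tmul w
    obtain ⟨t', ht'⟩ := hge t (by rw [mem_latt, ← ht, ← algebraMap_smul ℚ_[l] e]; exact W.smul_mem _ hw)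
    have h2 : c (algebraMap ℤ_[l] ℚ_[l] (a * e) • w) ∈ W := by
      rw [algebraMap_smul, mul_smul, ht, ← TensorProduct.tmul_smul, ← ht', ← LinearMap.baseChange_tmul,
        show c (f.baseChange ℚ_[l] _) = f.baseChange ℚ_[l] (c _) from LinearMap.congr_fun hcf _]
      exact hrange _
    rw [map_smul] at h2
    exact (W.smul_mem_iff (algebraMap_ne_zero (mul_ne_zero ha he))).1 h2
  have hq : (Nat.card k : ℚ_[l]) ≠ 0 := Nat.cast_ne_zero.2 Nat.card_pos.ne'
  have hFv : ∀ f ∈ F, ∃ e : ℚ_[l], f v = e • v := by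
    intro f hf
    induction hf using Algebra.adjoin_induction with
    | mem x hx => exact ⟨a, by rw [Set.mem_singleton_iff.1 hx]; exact hv⟩
    | algebraMap e => exact ⟨e, rfl⟩
    | add x y _ _ hx hy => obtain ⟨ex, hx⟩ := hx; obtain ⟨ey, hy⟩ := hy; exact ⟨ex + ey, by rw [LinearMap.add_apply, hx, hy, add_smul]⟩
    | mul x y _ _ hx hy =>
      obtain ⟨ex, hx⟩ := hx
      obtain ⟨ey, hy⟩ := hy
      exact ⟨ex * ey, by rw [Module.End.mul_apply, hy, map_smul, hx, smul_smul, mul_comm]⟩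
  have hline := stable_of_maximal ℚ_[l] (ℚ_[l] ⊗[ℤ_[l]] T) g hdim eB (rat_isAlt hBalt)
    (rat_nondegenerate hBalt fun t => gform_nondegenerate Ω hLa) F s hs (Set.range fun n : ℕ => P ^ n)
    adjoin_eq_span_pow.symm
    (by rintro _ ⟨n, rfl⟩; exact ⟨_, pow_ne_zero n hq, hpow n⟩) {c}
    (fun W h1 h2 h3 d hd => by rw [Set.mem_singleton_iff.1 hd]; exact hmax W h1 h2 h3) (ℚ_[l] ∙ v) ?_ ?_ c rfl v
    (Submodule.mem_span_singleton_self v)
  · obtain ⟨e, he⟩ := Submodule.mem_span_singleton.1 hline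
    exact ⟨e, he.symm⟩
  · intro f hf w hw
    obtain ⟨e, rfl⟩ := Submodule.mem_span_singleton.1 hw
    obtain ⟨e', he'⟩ := hFv f hf
    rw [map_smul, he', smul_smul]
    exact Submodule.mem_span_singleton.2 ⟨_, rfl⟩
  · intro x hx y hy
    obtain ⟨e, rfl⟩ := Submodule.mem_span_singleton.1 hx
    obtain ⟨e', rfl⟩ := Submodule.mem_span_singleton.1 hy
    rw [map_smul, map_smul, LinearMap.smul_apply, rat_isAlt hBalt v, smul_zero, smul_zero]

section Dimension

variable (l)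

include hl in
/-- The endomorphism algebra on the rational Tate module has the rank of `End`. -/
theorem finrank_alg : Module.finrank ℚ_[l] (TateSemi.alg l Ω X) = Module.finrank ℤ (EndAV.End X) := by
  haveI : IsAlgClosed Ω := IsAlgClosure.isAlgClosed k
  obtain ⟨hfree, hfin⟩ := AVEnd0.free_finite_end (A := X)
  haveI := hfree
  haveI := hfin
  let b := Module.finBasis ℤ (EndAV.End X)
  let e : Fin (Module.finrank ℤ (EndAV.End X)) → EndAV.Hom X X := fun i => b i
  have h1 := AVHomLattice.linearIndependent_tateMap (A := X) (B := X) Ω l hl (e := e) b.linearIndependent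
  have hinj : Function.Injective
      (LinearMap.baseChangeHom ℤ_[l] ℚ_[l] (AbDual.TateMod X l (SGA7.pt Ω)) (AbDual.TateMod X l (SGA7.pt Ω))) :=
    fun _ _ h => AVTors.TateSemi.baseChange_injective h
  have h2 : LinearIndependent ℤ_[l] fun i => TateSemi.rep l Ω X (b i) := h1.map' _ (LinearMap.ker_eq_bot.2 hinj)
  rw [LinearIndependent.iff_fractionRing ℤ_[l] ℚ_[l]] at h2
  have hspan : Submodule.span ℚ_[l] (Set.range fun i => TateSemi.rep l Ω X (b i)) =
      (TateSemi.alg l Ω X).toSubmodule := by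
    rw [AVTors.TateSemi.alg_eq_span]
    refine le_antisymm (Submodule.span_mono (Set.range_subset_iff.2 fun i => ⟨b i, rfl⟩)) (Submodule.span_le.2 ?_)
    rintro _ ⟨φ, rfl⟩
    rw [← b.sum_repr φ, map_sum]
    refine Submodule.sum_mem _ fun i _ => ?_
    rw [map_zsmul, ← Int.cast_smul_eq_zsmul ℚ_[l]]
    exact Submodule.smul_mem _ _ (Submodule.subset_span ⟨i, rfl⟩)
  have h := finrank_span_eq_card h2
  rw [hspan, Fintype.card_fin] at h
  exact h

/-- The commutant of the Frobenius. -/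
def commutant (X : Over (Spec (CommRingCat.of k))) [GrpObj X] [IsCommMonObj X] (π : X ⟶ X) [IsMonHom π] :
    Submodule ℚ_[l] (Module.End ℚ_[l] (ℚ_[l] ⊗[ℤ_[l]] AbDual.TateMod X l (SGA7.pt Ω))) :=
  LinearMap.ker (LinearMap.lcomp ℚ_[l] _ ((EndAV.End.tateRep l (SGA7.pt Ω) (EndAV.End.of π)).baseChange ℚ_[l]) -
    LinearMap.llcomp ℚ_[l] _ _ _ ((EndAV.End.tateRep l (SGA7.pt Ω) (EndAV.End.of π)).baseChange ℚ_[l]))

variable {l}

theorem mem_commutant {φ : Module.End ℚ_[l] (ℚ_[l] ⊗[ℤ_[l]] AbDual.TateMod X l (SGA7.pt Ω))} :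
    φ ∈ commutant Ω l X π ↔ φ * TateSemi.rep l Ω X (EndAV.End.of π) = TateSemi.rep l Ω X (EndAV.End.of π) * φ := by
  rw [commutant, LinearMap.mem_ker, LinearMap.sub_apply, sub_eq_zero]
  rfl

include hπ in
theorem alg_le_commutant : (TateSemi.alg l Ω X).toSubmodule ≤ commutant Ω l X π := fun _ hu =>
  (mem_commutant Ω).2 (alg_commute Ω hπ hu)

include hπ in
/-- The commutant is the endomorphism algebra at some prime. -/
theorem exists_good_prime (hC : CubeEmbeds k) : ∃ (l₀ : ℕ) (_ : Fact l₀.Prime), (l₀ : k) ≠ 0 ∧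
    ∃ (_ : Module.Free ℤ_[l₀] (AbDual.TateMod X l₀ (SGA7.pt Ω)))
      (_ : Module.Finite ℤ_[l₀] (AbDual.TateMod X l₀ (SGA7.pt Ω))),
      commutant Ω l₀ X π ≤ (TateSemi.alg l₀ Ω X).toSubmodule := by
  haveI : IsAlgClosed Ω := IsAlgClosure.isAlgClosed k
  obtain ⟨g, hg⟩ := AVTors.exists_dimNat X
  obtain ⟨m, hm, hmμ, hm0⟩ := AVEnd0.exists_int_minpoly (A := X) Ω (EndAV.End.of π)
  have hsq : Squarefree (m.map (Int.castRingHom ℚ)) := hmμ ▸ AVSemisimple.squarefree_minpoly _ hπ.central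
  obtain ⟨p, e, hp, hc, -, -⟩ := exists_card_eq (k := k)
  obtain ⟨l₀, hl₀, hpl, r, hr, hmr⟩ := exists_split_prime m hm (PerfectField.separable_iff_squarefree.2 hsq) p
  have hl0 : (l₀ : k) ≠ 0 := by
    haveI := hc
    rw [Ne, CharP.cast_eq_zero_iff k p]
    exact fun h => hpl.ne ((Nat.prime_dvd_prime_iff_eq hp hl₀.out).1 h)
  obtain ⟨eT⟩ := AVTors.exists_linearEquiv_pt Ω X hg l₀ hl0
  haveI : Module.Free ℤ_[l₀] (AbDual.TateMod X l₀ (SGA7.pt Ω)) := Module.Free.of_equiv eT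
  haveI : Module.Finite ℤ_[l₀] (AbDual.TateMod X l₀ (SGA7.pt Ω)) := Module.Finite.equiv eT
  exact ⟨l₀, hl₀, hl0, inferInstance, inferInstance, fun φ hφ =>
    mem_alg_of_commute_split Ω hπ hl0 hC m hm0 r hr hmr φ ((mem_commutant Ω).1 hφ)⟩

include hπ hl in
/-- **Tate's theorem**: over a finite field the commutant of the Frobenius consists of endomorphisms. -/
theorem commutant_eq (hC : CubeEmbeds k) : commutant Ω l X π = (TateSemi.alg l Ω X).toSubmodule := by
  haveI : IsAlgClosed Ω := IsAlgClosure.isAlgClosed k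
  obtain ⟨g, hg⟩ := AVTors.exists_dimNat X
  obtain ⟨P, hPm, -, -, hT⟩ := AVTateBC.exists_charpoly Ω X hg (EndAV.End.of π)
  obtain ⟨l₀, _, hl0, _, _, hle⟩ := exists_good_prime Ω hπ hC
  refine (Submodule.eq_of_le_of_finrank_le (alg_le_commutant Ω hπ) (le_of_eq ?_)).symm
  calc Module.finrank ℚ_[l] (commutant Ω l X π) = _ :=
        S14944.finrank_centralizer (EndAV.End.of π) hπ.central P hPm l hl (hT l hl)
    _ = Module.finrank ℚ_[l₀] (commutant Ω l₀ X π) :=
        (S14944.finrank_centralizer (EndAV.End.of π) hπ.central P hPm l₀ hl0 (hT l₀ hl0)).symm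
    _ = Module.finrank ℚ_[l₀] (TateSemi.alg l₀ Ω X).toSubmodule := by
        rw [le_antisymm hle (alg_le_commutant Ω hπ)]
    _ = Module.finrank ℤ (EndAV.End X) := finrank_alg Ω l₀ hl0
    _ = _ := (finrank_alg Ω l hl).symm

include hπ hl in
/-- The rank of `End` from the characteristic polynomial of the Frobenius. -/
theorem finrank_end (hC : CubeEmbeds k) {P : Polynomial ℤ} (hPm : P.Monic)
    (hP : (EndAV.End.tateRep l (SGA7.pt Ω) (EndAV.End.of π)).charpoly = P.map (Int.castRingHom ℤ_[l])) :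
    Module.finrank ℤ (EndAV.End X) = S14944.rsum ℚ (P.map (Int.castRingHom ℚ)) := by
  haveI : IsAlgClosed Ω := IsAlgClosure.isAlgClosed k
  rw [← finrank_alg Ω l hl, ← S14944.finrank_centralizer (EndAV.End.of π) hπ.central P hPm l hl hP]
  exact (congrArg (fun S : Submodule ℚ_[l] _ => Module.finrank ℚ_[l] S) (commutant_eq Ω hπ hl hC)).symm

end Dimension

end Groth.Agent.AVTate
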