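import Groth.Agent.AVTate.CenterEq
import Groth.Agent.AVTate.Cube
import Groth.Agent.AVTate.Cyclic
import Groth.Agent.S16843
import Mathlib.FieldTheory.Minpoly.IsIntegrallyClosed

/-!
# Abelian varieties over a prime field whose endomorphism ring is the minimal central order
-/

set_option autoImplicit false
set_option linter.style.haveILetI false
set_option linter.unusedSectionVars false
set_option backward.isDefEq.respectTransparency false
set_option backward.isDefEq.respectTransparency.types false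
set_option maxHeartbeats 2000000
set_option synthInstance.maxHeartbeats 400000

universe u

open CategoryTheory AlgebraicGeometry MonoidalCategory CartesianMonoidalCategory Polynomial
open scoped TensorProduct

noncomputable section

namespace Groth.Agent.AVTate.MinOrder

variable (p : ℕ) {J : Type} [Fintype J] {K : J → Type} [∀ j, Field (K j)] [∀ j, CharZero (K j)] (ϖ : ∀ j, K j)

/-- The generators of the minimal central order. -/
abbrev gens : MvPolynomial (Fin 2) ℤ →ₐ[ℤ] ((j : J) → K j) :=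
  MvPolynomial.aeval ![fun j => ϖ j, fun j => (p : K j) / ϖ j]

/-- The product of the minimal polynomials. -/
abbrev Pw : ℤ[X] := ∏ j, minpoly ℤ (ϖ j)

variable {p ϖ}

section Poly

variable (hint : ∀ j, IsIntegral ℤ (ϖ j))
  (hinj : ∀ i j, minpoly ℤ (ϖ i) = minpoly ℤ (ϖ j) → i = j)

include hint

theorem pw_monic : (Pw ϖ).Monic := monic_prod_of_monic _ _ fun j _ => minpoly.monic (hint j)

theorem minpolyQ (j : J) : (minpoly ℤ (ϖ j)).map (Int.castRingHom ℚ) = minpoly ℚ (ϖ j) :=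
  (minpoly.isIntegrallyClosed_eq_field_fractions' ℚ (hint j)).symm

theorem pw_map : (Pw ϖ).map (Int.castRingHom ℚ) = ∏ j, minpoly ℚ (ϖ j) := by
  rw [Polynomial.map_prod]
  exact Finset.prod_congr rfl fun j _ => minpolyQ hint j

include hinj

theorem pairwise_coprime : Pairwise fun i j => IsCoprime (minpoly ℚ (ϖ i)) (minpoly ℚ (ϖ j)) := by
  intro i j hij
  refine (minpoly.irreducible ((hint i).tower_top)).coprime_iff_not_dvd.2 fun h => hij (hinj i j ?_)
  have e := eq_of_monic_of_associated (minpoly.monic ((hint i).tower_top)) (minpoly.monic ((hint j).tower_top))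
    ((minpoly.irreducible ((hint i).tower_top)).associated_of_dvd (minpoly.irreducible ((hint j).tower_top)) h)
  rw [← minpolyQ hint i, ← minpolyQ hint j] at e
  exact Polynomial.map_injective _ (RingHom.injective_int _) e

theorem pw_squarefree : Squarefree ((Pw ϖ).map (Int.castRingHom ℚ)) := by
  rw [pw_map hint]
  exact Finset.squarefree_prod_of_pairwise_isCoprime
    (fun i _ j _ hij => (pairwise_coprime hint hinj hij).isRelPrime)
    fun j _ => (minpoly.irreducible ((hint j).tower_top)).squarefree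

theorem pw_dvd {m : ℤ[X]} (h : ∀ j, Polynomial.aeval (ϖ j) m = 0) :
    (Pw ϖ).map (Int.castRingHom ℚ) ∣ m.map (Int.castRingHom ℚ) := by
  rw [pw_map hint]
  refine Finset.prod_dvd_of_coprime (fun i _ j _ hij => pairwise_coprime hint hinj hij) fun j _ => minpoly.dvd ℚ _ ?_
  exact (Polynomial.aeval_map_algebraMap ℚ (ϖ j) m).trans (h j)

end Poly

open MonObj

variable {k : Type u} [Field k] [Finite k] {A : Over (Spec (CommRingCat.of k))} [GrpObj A] [IsCommMonObj A]
  [IsProper A.hom] [GeometricallyIntegral A.hom] {π : A ⟶ A} [IsMonHom π]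
  (hint : ∀ j, IsIntegral ℤ (ϖ j)) (hinj : ∀ i j, minpoly ℤ (ϖ i) = minpoly ℤ (ϖ j) → i = j)
  (ρ : (gens p ϖ).range ≃+* EndAV.End A)
  (hρ : ρ ⟨gens p ϖ (MvPolynomial.X 0), AlgHom.mem_range_self _ _⟩ = EndAV.End.of π)

include hρ in
theorem aeval_frob (m : ℤ[X]) : Polynomial.aeval (EndAV.End.of π) m =
    ρ (Polynomial.aeval (⟨gens p ϖ (MvPolynomial.X 0), AlgHom.mem_range_self _ _⟩ : (gens p ϖ).range) m) := by
  rw [← hρ]
  rw [Polynomial.aeval_def, Polynomial.aeval_def]
  conv_rhs => rw [show ∀ x, ρ x = ρ.toRingHom x from fun _ => rfl, Polynomial.hom_eval₂]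
  exact congrArg (fun f => m.eval₂ f _) (RingHom.ext_int _ _)

theorem aeval_gen_eq_zero {m : ℤ[X]} :
    Polynomial.aeval (⟨gens p ϖ (MvPolynomial.X 0), AlgHom.mem_range_self _ _⟩ : (gens p ϖ).range) m = 0 ↔
      ∀ j, Polynomial.aeval (ϖ j) m = 0 := by
  have e : ((Polynomial.aeval (⟨gens p ϖ (MvPolynomial.X 0), AlgHom.mem_range_self _ _⟩ : (gens p ϖ).range) m :
      (gens p ϖ).range) : (j : J) → K j) = Polynomial.aeval (fun j => ϖ j) m := by
    rw [← Subalgebra.coe_val, ← Polynomial.aeval_algHom_apply]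
    congr 1
    simp [gens]
  rw [← Subtype.val_inj, e, funext_iff]
  refine forall_congr' fun j => ?_
  rw [show Polynomial.aeval (ϖ j) m = Polynomial.aeval (fun j => ϖ j) m j from
    Polynomial.aeval_algHom_apply (Pi.evalAlgHom ℤ K j) (fun j => ϖ j) m]
  rfl

include hρ in
theorem aeval_pw : Polynomial.aeval (EndAV.End.of π) (Pw ϖ) = 0 := by
  rw [aeval_frob ρ hρ, aeval_gen_eq_zero.2 fun j => ?_, map_zero]
  rw [map_prod]
  exact Finset.prod_eq_zero (Finset.mem_univ j) (minpoly.aeval _ _)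

variable {Ω : Type u} [Field Ω] [Algebra k Ω] [IsAlgClosure k Ω] {l : ℕ} [Fact l.Prime] (hl : (l : k) ≠ 0)
  [Module.Free ℤ_[l] (AbDual.TateMod A l (SGA7.pt Ω))] [Module.Finite ℤ_[l] (AbDual.TateMod A l (SGA7.pt Ω))]
  (hA : IsFrob A π)

include hint hinj hρ hl hA

/-- The characteristic polynomial of the Frobenius is the product of the minimal polynomials. -/
theorem charpoly_eq :
    (AbDual.tateMapₗ (l := l) (T := SGA7.pt Ω) π).charpoly = (Pw ϖ).map (Int.castRingHom ℤ_[l]) := by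
  haveI : IsAlgClosed Ω := IsAlgClosure.isAlgClosed k
  obtain ⟨g, hg⟩ := AVTors.exists_dimNat A
  obtain ⟨P, hPm, hPd, hPv, hT⟩ := AVTateBC.exists_charpoly Ω A hg (EndAV.End.of π)
  have hP : (AbDual.tateMapₗ (l := l) (T := SGA7.pt Ω) π).charpoly = P.map (Int.castRingHom ℤ_[l]) := hT l hl
  have hcomm : ∀ a b : EndAV.End A, a * b = b * a := fun a b => by
    obtain ⟨x, rfl⟩ := ρ.surjective a
    obtain ⟨y, rfl⟩ := ρ.surjective b
    rw [← map_mul, ← map_mul, _root_.mul_comm]
  have hsq := (commutative_iff_squarefree hl hP (cubeEmbeds k) hA hg).1.1 hcomm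
  have hμ := minpoly_eq_of_squarefree hl hP hsq
  obtain ⟨m, hm, hmμ, hm0⟩ := AVEnd0.exists_int_minpoly (A := A) Ω (EndAV.End.of π)
  have h1 : minpoly ℚ (EndAV.toEnd0 (EndAV.End.of π)) ∣ (Pw ϖ).map (Int.castRingHom ℚ) := minpoly.dvd ℚ _ (by
    rw [← AVEnd0.aeval_toEnd0, aeval_pw ρ hρ, map_zero])
  have h2 : (Pw ϖ).map (Int.castRingHom ℚ) ∣ minpoly ℚ (EndAV.toEnd0 (EndAV.End.of π)) := hmμ ▸ pw_dvd hint hinj
    (aeval_gen_eq_zero.1 (ρ.injective (by rw [← aeval_frob ρ hρ, hm0, map_zero])))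
  rw [hμ] at h1 h2
  rw [hP, Polynomial.map_injective (Int.castRingHom ℚ) (RingHom.injective_int _)
    (eq_of_monic_of_associated (hPm.map _) ((pw_monic hint).map _) (associated_of_dvd_dvd h1 h2))]

theorem natDegree_pw : (Pw ϖ).natDegree = Module.finrank ℤ_[l] (AbDual.TateMod A l (SGA7.pt Ω)) := by
  rw [← LinearMap.charpoly_natDegree (AbDual.tateMapₗ (l := l) (T := SGA7.pt Ω) π),
    charpoly_eq (Ω := Ω) (l := l) hint hinj ρ hρ hl hA, (pw_monic hint).natDegree_map]

theorem aeval_pw_tate :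
    Polynomial.aeval (EndAV.End.tateRep l (SGA7.pt Ω) (EndAV.End.of π)) ((Pw ϖ).map (Int.castRingHom ℤ_[l])) = 0 := by
  rw [← charpoly_eq (Ω := Ω) (l := l) hint hinj ρ hρ hl hA]
  exact LinearMap.aeval_self_charpoly _

theorem squarefree_charpolyQ : Squarefree (((Pw ϖ).map (Int.castRingHom ℚ)).map (algebraMap ℚ ℚ_[l])) :=
  ((PerfectField.separable_iff_squarefree.2 (pw_squarefree hint hinj)).map).squarefree

omit hl hA in
theorem tate_verschiebung (hne : ∀ j, ϖ j ≠ 0) :
    EndAV.End.tateRep l (SGA7.pt Ω) (ρ ⟨gens p ϖ (MvPolynomial.X 1), AlgHom.mem_range_self _ _⟩) *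
      EndAV.End.tateRep l (SGA7.pt Ω) (EndAV.End.of π) = (p : Module.End ℤ_[l] (AbDual.TateMod A l (SGA7.pt Ω))) := by
  rw [← map_mul, ← hρ, ← map_mul, show (⟨gens p ϖ (MvPolynomial.X 1), AlgHom.mem_range_self _ _⟩ : (gens p ϖ).range) *
      ⟨gens p ϖ (MvPolynomial.X 0), AlgHom.mem_range_self _ _⟩ = (p : (gens p ϖ).range) from Subtype.ext (funext fun j => by
    simp [gens, div_mul_cancel₀ _ (hne j)]), map_natCast, map_natCast]

/-- The endomorphisms of the Tate module commuting with the Frobenius are polynomials in it. -/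
theorem mem_adjoin_of_commute (hpl : IsUnit (p : ℤ_[l])) (hne : ∀ j, ϖ j ≠ 0)
    (u : Module.End ℤ_[l] (AbDual.TateMod A l (SGA7.pt Ω)))
    (hu : u * EndAV.End.tateRep l (SGA7.pt Ω) (EndAV.End.of π) = EndAV.End.tateRep l (SGA7.pt Ω) (EndAV.End.of π) * u) :
    u ∈ Algebra.adjoin ℤ_[l] {EndAV.End.tateRep l (SGA7.pt Ω) (EndAV.End.of π)} := by
  haveI : IsAlgClosed Ω := IsAlgClosure.isAlgClosed k
  set Φ := EndAV.End.tateRep l (SGA7.pt Ω) (EndAV.End.of π) with hΦ
  set Ψ := EndAV.End.tateRep l (SGA7.pt Ω) (ρ ⟨gens p ϖ (MvPolynomial.X 1), AlgHom.mem_range_self _ _⟩) with hΨ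
  have hV : Ψ * Φ = (p : Module.End ℤ_[l] _) := tate_verschiebung hint hinj ρ hρ hne
  let f := Φ.charpoly
  obtain ⟨G, hG⟩ : X ∣ f - C (f.coeff 0) := X_dvd_iff.2 (by rw [coeff_sub, coeff_C_zero, sub_self])
  have h0 : Φ * Polynomial.aeval Φ G = algebraMap ℤ_[l] _ (-f.coeff 0) := by
    have h := congrArg (Polynomial.aeval Φ) hG
    rw [map_sub, Polynomial.aeval_C, map_mul, Polynomial.aeval_X, LinearMap.aeval_self_charpoly, zero_sub] at h
    rw [map_neg]
    exact h.symm
  have hdet : IsUnit (LinearMap.det Φ) := isUnit_of_mul_isUnit_right (by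
    rw [← map_mul, hV, show (p : Module.End ℤ_[l] (AbDual.TateMod A l (SGA7.pt Ω))) = (p : ℤ_[l]) • LinearMap.id by
      rw [← map_natCast (algebraMap ℤ_[l] (Module.End ℤ_[l] (AbDual.TateMod A l (SGA7.pt Ω)))), Algebra.algebraMap_eq_smul_one]
      rfl, LinearMap.det_smul, LinearMap.det_id, _root_.mul_one]
    exact hpl.pow _)
  obtain ⟨c, hc⟩ : IsUnit (-f.coeff 0) := by
    rw [LinearMap.det_eq_sign_charpoly_coeff] at hdet
    exact (isUnit_of_mul_isUnit_right hdet).neg
  have hmem : Ψ ∈ Algebra.adjoin ℤ_[l] ({Φ} : Set (Module.End ℤ_[l] (AbDual.TateMod A l (SGA7.pt Ω)))) := by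
    have e : Ψ = (↑c⁻¹ * (p : ℤ_[l])) • Polynomial.aeval Φ G := by
      calc Ψ = (↑c⁻¹ : ℤ_[l]) • (Ψ * algebraMap ℤ_[l] _ (-f.coeff 0)) := by
            rw [← hc, ← Algebra.commutes, ← Algebra.smul_def, smul_smul, Units.inv_mul, one_smul]
        _ = _ := by
            rw [← h0, ← _root_.mul_assoc, hV, ← nsmul_eq_mul, ← Nat.cast_smul_eq_nsmul ℤ_[l], smul_smul]
    rw [e]
    exact Subalgebra.smul_mem _ (Polynomial.aeval_mem_adjoin_singleton _ _) _
  have hall : ∀ G' : MvPolynomial (Fin 2) ℤ, EndAV.End.tateRep l (SGA7.pt Ω)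
      (ρ ⟨gens p ϖ G', AlgHom.mem_range_self _ _⟩) ∈
        Algebra.adjoin ℤ_[l] ({Φ} : Set (Module.End ℤ_[l] (AbDual.TateMod A l (SGA7.pt Ω)))) := by
    intro G'
    induction G' using MvPolynomial.induction_on with
    | C z =>
      rw [show (⟨gens p ϖ (MvPolynomial.C z), AlgHom.mem_range_self _ _⟩ : (gens p ϖ).range) = (z : (gens p ϖ).range) from
        Subtype.ext (by simp), map_intCast, map_intCast]
      exact intCast_mem _ z
    | add a b ha hb =>
      rw [show (⟨gens p ϖ (a + b), AlgHom.mem_range_self _ _⟩ : (gens p ϖ).range) =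
        ⟨gens p ϖ a, AlgHom.mem_range_self _ _⟩ + ⟨gens p ϖ b, AlgHom.mem_range_self _ _⟩ from Subtype.ext (map_add _ _ _),
        map_add, map_add]
      exact add_mem ha hb
    | mul_X a i ha =>
      rw [show (⟨gens p ϖ (a * MvPolynomial.X i), AlgHom.mem_range_self _ _⟩ : (gens p ϖ).range) =
        ⟨gens p ϖ a, AlgHom.mem_range_self _ _⟩ * ⟨gens p ϖ (MvPolynomial.X i), AlgHom.mem_range_self _ _⟩ from
          Subtype.ext (map_mul _ _ _), map_mul, map_mul]
      refine mul_mem ha ?_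
      fin_cases i
      · show EndAV.End.tateRep l (SGA7.pt Ω) (ρ ⟨gens p ϖ (MvPolynomial.X 0), _⟩) ∈ _
        rw [hρ]
        exact Algebra.self_mem_adjoin_singleton _ _
      · exact hmem
  refine Submodule.span_le (p := (Algebra.adjoin ℤ_[l] ({Φ} : Set (Module.End ℤ_[l] _))).toSubmodule) |>.2 ?_
    (mem_span_of_commute hl (cubeEmbeds k) hA hA u hu)
  rintro _ ⟨φ, rfl⟩
  obtain ⟨⟨_, G', rfl⟩, hφ⟩ := ρ.surjective φ
  rw [← hφ]
  exact hall G'

/-- The Tate module is cyclic over the Frobenius. -/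
theorem exists_cyclic_basis (hpl : IsUnit (p : ℤ_[l])) (hne : ∀ j, ϖ j ≠ 0) :
    ∃ (x : AbDual.TateMod A l (SGA7.pt Ω)) (e : Module.Basis (Fin (Pw ϖ).natDegree) ℤ_[l] (AbDual.TateMod A l (SGA7.pt Ω))),
      ∀ i, e i = (EndAV.End.tateRep l (SGA7.pt Ω) (EndAV.End.of π) ^ (i : ℕ)) x := by
  haveI : IsAlgClosed Ω := IsAlgClosure.isAlgClosed k
  set Φ := EndAV.End.tateRep l (SGA7.pt Ω) (EndAV.End.of π) with hΦ
  set n := (Pw ϖ).natDegree with hn
  have hfr := natDegree_pw (Ω := Ω) (l := l) hint hinj ρ hρ hl hA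
  let b := Module.finBasisOfFinrankEq ℤ_[l] (AbDual.TateMod A l (SGA7.pt Ω)) hfr.symm
  set P := (Pw ϖ).map (Int.castRingHom ℤ_[l]) with hPdef
  have hPm : P.Monic := (pw_monic hint).map _
  have hPd : P.natDegree = n := (pw_monic hint).natDegree_map _
  have hP0 : Polynomial.aeval Φ P = 0 := aeval_pw_tate (Ω := Ω) (l := l) hint hinj ρ hρ hl hA
  have hd : n = (minpoly ℚ (EndAV.toEnd0 (EndAV.End.of π))).natDegree := by
    rw [minpoly_eq_of_squarefree hl (charpoly_eq (Ω := Ω) (l := l) hint hinj ρ hρ hl hA) (pw_squarefree hint hinj),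
      (pw_monic hint).natDegree_map]
  have hliZ : LinearIndependent ℤ fun i : Fin n => EndAV.End.of π ^ (i : ℕ) := by
    have h := linearIndependent_pow (K := ℚ) (EndAV.toEnd0 (EndAV.End.of π))
    rw [← hd] at h
    have h1 : LinearIndependent ℤ fun i : Fin n => EndAV.toEnd0 (EndAV.End.of π ^ (i : ℕ)) := by
      simp only [map_pow]
      exact h.restrict_scalars (by intro a b hab; simpa using hab)
    exact LinearIndependent.of_comp (EndAV.toEnd0 (A := A)).toLinearMap h1
  let w : Fin n → EndAV.Hom A A := fun i => EndAV.End.of π ^ (i : ℕ)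
  have hli : LinearIndependent ℤ_[l] fun i : Fin n => Φ ^ (i : ℕ) := by
    have h1 := AVHomLattice.linearIndependent_tateMap (A := A) (B := A) Ω l hl (e := w) hliZ
    rwa [show (fun i => EndAV.Hom.tateMap l (SGA7.pt Ω) (w i)) = fun i : Fin n => Φ ^ (i : ℕ) from
      funext fun i => (show EndAV.End.tateRep l (SGA7.pt Ω) (EndAV.End.of π ^ (i : ℕ)) = Φ ^ (i : ℕ) from map_pow _ _ _)] at h1
  obtain ⟨x, hx⟩ := exists_cyclic Φ b b.span_eq fun q hq hdeg => by
    by_contra hcon
    push Not at hcon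
    have hY : ∀ t, ∃ y, aeval Φ q t = (l : ℤ_[l]) • y := fun t => by
      have h := hcon t
      rw [PadicInt.maximalIdeal_eq_span_p, Submodule.ideal_span_singleton_smul,
        Submodule.mem_smul_pointwise_iff_exists] at h
      obtain ⟨y, -, hy⟩ := h
      exact ⟨y, hy.symm⟩
    choose Y hY using fun i => hY (b i)
    let Y' := b.constr ℤ_[l] Y
    have hq' : aeval Φ q = (l : ℤ_[l]) • Y' := b.ext fun i => by
      rw [LinearMap.smul_apply, Module.Basis.constr_basis, hY]
    have hl0 : (l : ℤ_[l]) ≠ 0 := Nat.cast_ne_zero.2 (Fact.out : l.Prime).ne_zero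
    have hYc : Y' * Φ = Φ * Y' := by
      refine smul_right_injective _ hl0 ?_
      show (l : ℤ_[l]) • (Y' * Φ) = (l : ℤ_[l]) • (Φ * Y')
      rw [← smul_mul_assoc, ← mul_smul_comm, ← hq']
      have hc := ((Commute.all q X).map (Polynomial.aeval Φ)).eq
      rw [Polynomial.aeval_X] at hc
      exact hc
    have hY2 := mem_adjoin_of_commute (Ω := Ω) (l := l) hint hinj ρ hρ hl hA hpl hne Y' hYc
    rw [Algebra.adjoin_singleton_eq_range_aeval] at hY2
    obtain ⟨H, hH⟩ := hY2
    have hz : aeval Φ (q - C (l : ℤ_[l]) * (H %ₘ P)) = 0 := by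
      rw [map_sub, map_mul, aeval_C, hq', ← Algebra.smul_def, show Y' = aeval Φ H from hH.symm,
        sub_eq_zero, smul_right_inj hl0]
      conv_lhs => rw [← Polynomial.modByMonic_add_div H P]
      rw [map_add, map_mul, hP0, zero_mul, add_zero]
    have h0 : q - C (l : ℤ_[l]) * (H %ₘ P) = 0 := by
      by_contra hne0
      have h3 : (C (l : ℤ_[l]) * (H %ₘ P)).natDegree < n := by
        refine (natDegree_C_mul_le _ _).trans_lt ?_
        rw [← hPd]
        exact natDegree_modByMonic_lt H hPm fun e => by rw [e, natDegree_one] at hPd; omega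
      have h4 := natDegree_sub_le q (C (l : ℤ_[l]) * (H %ₘ P))
      have hlt : (q - C (l : ℤ_[l]) * (H %ₘ P)).natDegree < n := by omega
      rw [aeval_eq_sum_range' hlt, Finset.sum_range] at hz
      have hc := Fintype.linearIndependent_iff.1 hli _ hz
      refine hne0 (Polynomial.ext fun r => ?_)
      rcases Nat.lt_or_ge r n with hr | hr
      · exact (hc ⟨r, hr⟩).trans (coeff_zero r).symm
      · exact (coeff_eq_zero_of_natDegree_lt (hlt.trans_le hr)).trans (coeff_zero r).symm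
    have h5 := congrArg (fun r : ℤ_[l][X] => r.coeff q.natDegree) h0
    simp only [coeff_sub, coeff_C_mul, coeff_zero, hq.coeff_natDegree, sub_eq_zero] at h5
    exact PadicInt.p_nonunit (IsUnit.of_mul_eq_one _ h5.symm)
  refine ⟨x, basisOfTopLeSpanOfCardEqFinrank (fun i : Fin n => (Φ ^ (i : ℕ)) x) hx.ge (by rw [Fintype.card_fin, hn, hfr]),
    fun i => ?_⟩
  simp

end Groth.Agent.AVTate.MinOrder
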