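import Groth.Agent.AVTate.MinOrderHom

/-!
# The Tate module over the minimal central order is free of rank one
-/

set_option autoImplicit false
set_option linter.style.haveILetI false
set_option linter.unusedSectionVars false
set_option backward.isDefEq.respectTransparency false
set_option backward.isDefEq.respectTransparency.types false
set_option maxHeartbeats 2000000
set_option synthInstance.maxHeartbeats 400000

universe u

open CategoryTheory AlgebraicGeometry MonoidalCategory CartesianMonoidalCategory MonObj Polynomial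
open scoped TensorProduct

noncomputable section

namespace Groth.Agent.AVTate.MinOrder

variable {p : ℕ} {J : Type} [Fintype J] {K : J → Type} [∀ j, Field (K j)] [∀ j, CharZero (K j)] {ϖ : ∀ j, K j}

variable {k : Type u} [Field k] [Finite k] {A : Over (Spec (CommRingCat.of k))} [GrpObj A] [IsCommMonObj A]
  [IsProper A.hom] [GeometricallyIntegral A.hom] {π : A ⟶ A} [IsMonHom π]
  (hint : ∀ j, IsIntegral ℤ (ϖ j)) (hinj : ∀ i j, minpoly ℤ (ϖ i) = minpoly ℤ (ϖ j) → i = j)
  (hne : ∀ j, ϖ j ≠ 0)
  (ρ : (gens p ϖ).range ≃+* EndAV.End A)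
  (hρ : ρ ⟨gens p ϖ (MvPolynomial.X 0), AlgHom.mem_range_self _ _⟩ = EndAV.End.of π)
  (hA : IsFrob A π)

include hint hinj hne hρ hA

theorem exists_free_generator {Ω : Type u} [Field Ω] [Algebra k Ω] [IsAlgClosure k Ω] {l : ℕ} [Fact l.Prime]
    (hl : (l : k) ≠ 0) (hpl : IsUnit (p : ℤ_[l])) :
    ∃ x : AbDual.TateMod A l (SGA7.pt Ω), ∀ (n : ℕ) (b : Module.Basis (Fin n) ℤ (EndAV.End A)),
      LinearIndependent ℤ_[l] (fun i => EndAV.End.tateRep l (SGA7.pt Ω) (b i) x) ∧
        Submodule.span ℤ_[l] (Set.range fun i => EndAV.End.tateRep l (SGA7.pt Ω) (b i) x) = ⊤ := by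
  haveI : IsAlgClosed Ω := IsAlgClosure.isAlgClosed k
  obtain ⟨hf, hf'⟩ := free_finite_tate (A := A) (Ω := Ω) hl
  haveI := hf; haveI := hf'
  obtain ⟨x, e, he⟩ := exists_cyclic_basis (Ω := Ω) (l := l) hint hinj ρ hρ hl hA hpl hne
  let R := EndAV.End.tateRep (A := A) l (SGA7.pt Ω)
  have hcomm : ∀ a b : EndAV.End A, a * b = b * a := fun a b => by
    obtain ⟨u, rfl⟩ := ρ.surjective a
    obtain ⟨v, rfl⟩ := ρ.surjective b
    rw [← map_mul, ← map_mul, _root_.mul_comm]
  refine ⟨x, fun n b => ⟨?_, ?_⟩⟩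
  · rw [Fintype.linearIndependent_iff]
    intro c hc
    let u : Module.End ℤ_[l] (AbDual.TateMod A l (SGA7.pt Ω)) := ∑ i, c i • R (b i)
    have hux : u x = 0 := by
      simp only [u, LinearMap.sum_apply, LinearMap.smul_apply]
      exact hc
    have huΦ : u * R (EndAV.End.of π) = R (EndAV.End.of π) * u := by
      simp only [u, Finset.sum_mul, Finset.mul_sum, smul_mul_assoc, mul_smul_comm, ← map_mul, hcomm]
    have hu0 : u = 0 := e.ext fun i => by
      rw [he i, LinearMap.zero_apply]
      have h := LinearMap.congr_fun ((Commute.pow_right huΦ (i : ℕ)).eq) x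
      simp only [Module.End.mul_apply, hux, map_zero] at h
      exact h
    have hli := AVHomLattice.linearIndependent_tateMap (A := A) (B := A) Ω l hl (e := fun i => b i) b.linearIndependent
    exact Fintype.linearIndependent_iff.1 hli c hu0
  · refine eq_top_iff.2 ?_
    rw [← e.span_eq, Submodule.span_le]
    rintro _ ⟨i, rfl⟩
    rw [he i, ← map_pow, ← b.sum_repr (EndAV.End.of π ^ (i : ℕ)), map_sum, LinearMap.sum_apply]
    refine Submodule.sum_mem _ fun j _ => ?_
    rw [map_zsmul, ← Int.cast_smul_eq_zsmul ℤ_[l], LinearMap.smul_apply]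
    exact Submodule.smul_mem _ _ (Submodule.subset_span ⟨j, rfl⟩)

end Groth.Agent.AVTate.MinOrder
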