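import Groth.Agent.AVTate.MinOrder
import Groth.Agent.AVTors.IsogPts
import Groth.Agent.Lib.AVMulN
import Groth.Agent.GrpSchLib.IsogSub

/-!
# Homomorphisms into an abelian variety with minimal endomorphism ring
-/

set_option autoImplicit false
set_option linter.style.haveILetI false
set_option linter.unusedSectionVars false
set_option backward.isDefEq.respectTransparency false
set_option backward.isDefEq.respectTransparency.types false
set_option maxHeartbeats 2000000
set_option synthInstance.maxHeartbeats 400000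

universe u

open CategoryTheory AlgebraicGeometry MonoidalCategory CartesianMonoidalCategory MonObj Polynomial
open scoped TensorProduct

noncomputable section

namespace Groth.Agent.AVTate.MinOrder

variable {p : ℕ} {J : Type} [Fintype J] {K : J → Type} [∀ j, Field (K j)] [∀ j, CharZero (K j)] {ϖ : ∀ j, K j}

theorem ne_zero_of_weil (hp : 0 < p) (hint : ∀ j, IsIntegral ℤ (ϖ j))
    (hweil : ∀ j, ∀ z ∈ (minpoly ℤ (ϖ j)).aroots ℂ, ‖z‖ = Real.sqrt p) (j : J) : ϖ j ≠ 0 := by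
  intro h
  have h0 := hweil j 0 (by
    rw [Polynomial.mem_aroots]
    refine ⟨(minpoly.monic (hint j)).ne_zero, ?_⟩
    rw [h, ← map_zero (algebraMap ℤ (K j)),
      minpoly.eq_X_sub_C_of_algebraMap_inj _ (algebraMap ℤ (K j)).injective_int, map_zero, sub_zero,
      Polynomial.aeval_X])
  rw [norm_zero] at h0
  exact (Real.sqrt_pos.2 (by exact_mod_cast hp)).ne h0

variable {k : Type u} [Field k] [Finite k]

theorem isFrob_of {q : ℕ} (hk : Nat.card k = q) {X : Over (Spec (CommRingCat.of k))} (π : X ⟶ X)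
    (hb : π.left.base = 𝟙 _) (hle : ∀ U : X.left.Opens, U ≤ π.left ⁻¹ᵁ U)
    (happ : ∀ (U : X.left.Opens) (s : Γ(X.left, U)), (π.left.appLE U U (hle U)).hom s = s ^ q) : IsFrob X π :=
  ⟨hb, hle, fun U s => hk.symm ▸ happ U s⟩

theorem isUnit_cast (hk : Nat.card k = p) [hp : Fact p.Prime] {l : ℕ} [hl' : Fact l.Prime] (hl : (l : k) ≠ 0) :
    IsUnit (p : ℤ_[l]) := by
  refine PadicInt.isUnit_iff.2 (PadicInt.norm_natCast_eq_one_iff.2 ?_)
  refine (hl'.out.coprime_iff_not_dvd).2 fun h => hl ?_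
  rw [(Nat.prime_dvd_prime_iff_eq hl'.out hp.out).1 h, ← hk]
  haveI := Fintype.ofFinite k
  rw [Nat.card_eq_fintype_card]
  exact FiniteField.cast_card_eq_zero k

variable {Aw : Over (Spec (CommRingCat.of k))} [GrpObj Aw] [IsCommMonObj Aw] [IsProper Aw.hom]
  [GeometricallyIntegral Aw.hom] {πw : Aw ⟶ Aw} [IsMonHom πw]
  (hint : ∀ j, IsIntegral ℤ (ϖ j)) (hinj : ∀ i j, minpoly ℤ (ϖ i) = minpoly ℤ (ϖ j) → i = j)
  (hne : ∀ j, ϖ j ≠ 0)
  (ρ : (gens p ϖ).range ≃+* EndAV.End Aw)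
  (hρ : ρ ⟨gens p ϖ (MvPolynomial.X 0), AlgHom.mem_range_self _ _⟩ = EndAV.End.of πw) (hAw : IsFrob Aw πw)
  {A : Over (Spec (CommRingCat.of k))} [GrpObj A] [IsCommMonObj A] [IsProper A.hom] [GeometricallyIntegral A.hom]
  {πA : A ⟶ A} [IsMonHom πA] (hA : IsFrob A πA) (hPA : Polynomial.aeval (EndAV.End.of πA) (Pw ϖ) = 0)

include hint hinj hρ hAw hA hPA

open UniqueFactorizationMonoid in
theorem finrank_hom_eq {g : ℕ} (hg : topologicalKrullDim A.left = g) :
    Module.Free ℤ (EndAV.Hom A Aw) ∧ Module.Finite ℤ (EndAV.Hom A Aw) ∧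
      Module.finrank ℤ (EndAV.Hom A Aw) = 2 * g := by
  classical
  let Ω := AlgebraicClosure k
  haveI : IsAlgClosed Ω := IsAlgClosure.isAlgClosed k
  obtain ⟨l, hlp, hl⟩ := AVHomLattice.exists_prime k
  haveI := Fact.mk hlp
  obtain ⟨hf, hf'⟩ := free_finite_tate (A := A) (Ω := Ω) hl
  haveI := hf; haveI := hf'
  obtain ⟨hfw, hfw'⟩ := free_finite_tate (A := Aw) (Ω := Ω) hl
  haveI := hfw; haveI := hfw'
  obtain ⟨gw, hgw⟩ := AVTors.exists_dimNat Aw
  obtain ⟨h1, h2, -⟩ := AVHomLattice.free_finite (A := A) (B := Aw) hg hgw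
  refine ⟨h1, h2, ?_⟩
  obtain ⟨P, hPm, hPd, hPv, hT⟩ := AVTateBC.exists_charpoly Ω A hg (EndAV.End.of πA)
  rw [S16843.result k Ω l hl A Aw πA hA.1 hA.2.choose hA.2.choose_spec πw
    hAw.1 hAw.2.choose hAw.2.choose_spec P (hT l hl) (Pw ϖ)
    (charpoly_eq hint hinj ρ hρ hl hAw)]
  have hnd := (squarefree_iff_nodup_normalizedFactors ((pw_monic hint).map _).ne_zero).1 (pw_squarefree hint hinj)
  have hdvd : minpoly ℚ (EndAV.toEnd0 (EndAV.End.of πA)) ∣ (Pw ϖ).map (Int.castRingHom ℚ) := minpoly.dvd ℚ _ (by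
    rw [← AVEnd0.aeval_toEnd0, hPA, map_zero])
  have hcount : ∀ Q ∈ (normalizedFactors (P.map (Int.castRingHom ℚ))).toFinset,
      (normalizedFactors ((Pw ϖ).map (Int.castRingHom ℚ))).count Q = 1 := fun Q hQ => by
    rw [Multiset.mem_toFinset] at hQ
    refine Multiset.count_eq_one_of_mem hnd ?_
    have hi := irreducible_of_normalized_factor Q hQ
    obtain ⟨q, hq, ha⟩ := exists_mem_normalizedFactors_of_dvd ((pw_monic hint).map _).ne_zero hi
      ((AVEnd0.dvd_minpoly hg (EndAV.End.of πA) hPm hPd hPv hi (dvd_of_mem_normalizedFactors hQ)).trans hdvd)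
    have e := normalize_eq_normalize ha.dvd ha.symm.dvd
    rw [normalize_normalized_factor Q hQ, normalize_normalized_factor q hq] at e
    exact e ▸ hq
  rw [← hPd, ← hPm.natDegree_map (Int.castRingHom ℚ), natDegree_eq_sum (hPm.map _).ne_zero]
  have hd : (fun a b : ℚ => Classical.propDecidable (a = b)) = instDecidableEqRat := Subsingleton.elim _ _
  rw [hd]
  refine Finset.sum_congr rfl fun Q hQ => ?_
  rw [hcount Q hQ, _root_.mul_one]

include hne

/-- The Tate module is recovered from the homomorphisms. -/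
theorem exists_eq_tateMap {Ω : Type u} [Field Ω] [Algebra k Ω] [IsAlgClosure k Ω] {l : ℕ} [Fact l.Prime]
    (hl : (l : k) ≠ 0) (hpl : IsUnit (p : ℤ_[l])) :
    (∀ x y : AbDual.TateMod A l (SGA7.pt Ω),
        (∀ φ : EndAV.Hom A Aw, EndAV.Hom.tateMap l (SGA7.pt Ω) φ x = EndAV.Hom.tateMap l (SGA7.pt Ω) φ y) → x = y) ∧
      (∀ g : EndAV.Hom A Aw →+ AbDual.TateMod Aw l (SGA7.pt Ω),
        (∀ (φ : EndAV.Hom A Aw) (s : EndAV.End Aw), g (φ ≫ s) = EndAV.End.tateRep l (SGA7.pt Ω) s (g φ)) →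
          ∃ x : AbDual.TateMod A l (SGA7.pt Ω), ∀ φ : EndAV.Hom A Aw, g φ = EndAV.Hom.tateMap l (SGA7.pt Ω) φ x) := by
  haveI : IsAlgClosed Ω := IsAlgClosure.isAlgClosed k
  obtain ⟨hf, hf'⟩ := free_finite_tate (A := A) (Ω := Ω) hl
  haveI := hf; haveI := hf'
  obtain ⟨hfw, hfw'⟩ := free_finite_tate (A := Aw) (Ω := Ω) hl
  haveI := hfw; haveI := hfw'
  let N := AbDual.TateMod A l (SGA7.pt Ω)
  let M := AbDual.TateMod Aw l (SGA7.pt Ω)
  let T := EndAV.Hom.tateMap (A := A) (B := Aw) l (SGA7.pt Ω)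
  let Φ := EndAV.End.tateRep l (SGA7.pt Ω) (EndAV.End.of πw)
  let Φ' := EndAV.End.tateRep l (SGA7.pt Ω) (EndAV.End.of πA)
  let P := (Pw ϖ).map (Int.castRingHom ℤ_[l])
  have hP0 : Polynomial.aeval Φ P = 0 := aeval_pw_tate hint hinj ρ hρ hl hAw
  have hP0' : Polynomial.aeval Φ' P = 0 := by
    rw [← AVEnd0.aeval_tateRep, hPA, map_zero]
  obtain ⟨x₀, e, he⟩ := exists_cyclic_basis hint hinj ρ hρ (Ω := Ω) hl hAw hpl hne
  let I : Submodule ℤ_[l] (N →ₗ[ℤ_[l]] M) := Submodule.span ℤ_[l] (Set.range T)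
  have hTc : ∀ φ : EndAV.Hom A Aw, T φ ∘ₗ Φ' = Φ ∘ₗ T φ := fun φ => LinearMap.ext fun z => AbDual.TateMod.ext fun m =>
    congrArg Additive.ofMul (by
      show (_ ≫ πA) ≫ φ.toHom = (_ ≫ φ.toHom) ≫ πw
      rw [Category.assoc, Category.assoc, hA.natural hAw])
  have hI : ∀ u, u ∈ I ↔ u ∘ₗ Φ' = Φ ∘ₗ u := fun u => by
    refine ⟨fun hu => ?_, fun hu => mem_span_of_commute hl (cubeEmbeds k) hA hAw u hu⟩
    induction hu using Submodule.span_induction with
    | mem x hx => obtain ⟨φ, rfl⟩ := hx; exact hTc φ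
    | zero => rw [LinearMap.zero_comp, LinearMap.comp_zero]
    | add a b _ _ ha hb => rw [LinearMap.add_comp, LinearMap.comp_add, ha, hb]
    | smul c a _ ha => rw [LinearMap.smul_comp, LinearMap.comp_smul, ha]
  have hU : ∀ ν : Module.Dual ℤ_[l] N, adjoint Φ e he Φ' ν ∈ I := fun ν =>
    (hI _).2 (adjoint_comm Φ e he Φ' ((pw_monic hint).map _) ((pw_monic hint).natDegree_map _) hP0 hP0' ν)
  refine ⟨fun x y hxy => ?_, fun g hg => ?_⟩
  · have hS : ∀ u ∈ I, u x = u y := fun u hu => by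
      induction hu using Submodule.span_induction with
      | mem a ha => obtain ⟨φ, rfl⟩ := ha; exact hxy φ
      | zero => rfl
      | add a b _ _ ha hb => rw [LinearMap.add_apply, LinearMap.add_apply, ha, hb]
      | smul c a _ ha => rw [LinearMap.smul_apply, LinearMap.smul_apply, ha]
    refine (Module.evalEquiv ℤ_[l] N).injective (LinearMap.ext fun ν => ?_)
    rw [Module.evalEquiv_apply, Module.evalEquiv_apply, Module.Dual.eval_apply, Module.Dual.eval_apply]
    rcases Nat.eq_zero_or_pos (Pw ϖ).natDegree with h0 | h0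
    · have hsub : Subsingleton N := by
        refine ⟨fun a b => ?_⟩
        have hP1 : P = 1 := Polynomial.eq_one_of_monic_natDegree_zero ((pw_monic hint).map _)
          (by rw [(pw_monic hint).natDegree_map]; exact h0)
        have h := hP0'
        rw [hP1, map_one] at h
        have := LinearMap.congr_fun h (a - b)
        exact sub_eq_zero.1 this
      rw [Subsingleton.elim x y]
    · have hx := congrArg (lastCoord e) (hS _ (hU ν))
      have e1 := fun z => lastCoord_pow_adjoint Φ e he Φ' ν z ⟨0, h0⟩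
      simpa using (e1 x).symm.trans (hx.trans (e1 y))
  · obtain ⟨gA, hgA⟩ := AVTors.exists_dimNat A
    obtain ⟨h1, h2, -⟩ := finrank_hom_eq hint hinj ρ hρ hAw hA hPA hgA
    haveI := h1; haveI := h2
    let b := Module.finBasis ℤ (EndAV.Hom A Aw)
    have hli := AVHomLattice.linearIndependent_tateMap (A := A) (B := Aw) Ω l hl (e := fun i => b i) b.linearIndependent
    have hspan : Submodule.span ℤ_[l] (Set.range fun i => T (b i)) = I := by
      refine le_antisymm (Submodule.span_mono (Set.range_subset_iff.2 fun i => ⟨b i, rfl⟩)) (Submodule.span_le.2 ?_)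
      rintro _ ⟨φ, rfl⟩
      rw [← b.sum_repr φ, map_sum]
      refine Submodule.sum_mem _ fun i _ => ?_
      rw [map_zsmul, ← Int.cast_smul_eq_zsmul ℤ_[l]]
      exact Submodule.smul_mem _ _ (Submodule.subset_span ⟨i, rfl⟩)
    let bI := (Module.Basis.span hli).map (LinearEquiv.ofEq _ _ hspan)
    let G : I →ₗ[ℤ_[l]] M := bI.constr ℤ_[l] fun i => g (b i)
    have hbI : ∀ i, bI i = ⟨T (b i), Submodule.subset_span ⟨b i, rfl⟩⟩ := fun i => Subtype.ext (by simp [bI, T, Module.Basis.span_apply])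
    let T' : EndAV.Hom A Aw →+ I := AddMonoidHom.mk' (fun φ => ⟨T φ, Submodule.subset_span ⟨φ, rfl⟩⟩)
      fun a c => Subtype.ext (map_add T a c)
    have hG : ∀ φ, G (T' φ) = g φ := fun φ => by
      have : G.toAddMonoidHom.comp T' = g := by
        refine AddMonoidHom.toIntLinearMap_injective (b.ext fun i => ?_)
        show G (T' (b i)) = g (b i)
        rw [show T' (b i) = bI i from (hbI i).symm, Module.Basis.constr_basis]
      exact DFunLike.congr_fun this φ
    have hgΦ : ∀ u : I, ∀ h : Φ ∘ₗ (u : N →ₗ[ℤ_[l]] M) ∈ I, G ⟨_, h⟩ = Φ (G u) := by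
      let L : I →ₗ[ℤ_[l]] I := (LinearMap.llcomp ℤ_[l] N M M Φ).restrict fun v hv => (hI _).2 (by
        show (Φ ∘ₗ v) ∘ₗ Φ' = Φ ∘ₗ (Φ ∘ₗ v)
        rw [LinearMap.comp_assoc, (hI v).1 hv])
      have hL : G ∘ₗ L = Φ ∘ₗ G := bI.ext fun i => by
        rw [LinearMap.comp_apply, LinearMap.comp_apply, hbI]
        show G ⟨Φ ∘ₗ T (b i), _⟩ = Φ (G (T' (b i)))
        rw [hG, ← hg, ← hG]
        congr 1
      intro u h
      exact LinearMap.congr_fun hL u
    obtain ⟨t, ht⟩ := exists_eval Φ e he Φ' ((pw_monic hint).map _) ((pw_monic hint).natDegree_map _) hP0 hP0' I hI G hgΦ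
    exact ⟨t, fun φ => by rw [← hG]; exact (ht (T' φ)).symm⟩

end Groth.Agent.AVTate.MinOrder
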