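import Groth.Agent.AVTate.MinOrderFree

/-!
# Isogenies and precomposition into the variety with minimal endomorphism ring
-/

set_option autoImplicit false
set_option linter.style.haveILetI false
set_option linter.unusedSectionVars false
set_option backward.isDefEq.respectTransparency false
set_option backward.isDefEq.respectTransparency.types false
set_option maxHeartbeats 2000000
set_option synthInstance.maxHeartbeats 400000

universe u

open CategoryTheory AlgebraicGeometry MonoidalCategory CartesianMonoidalCategory MonObj Polynomial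
open scoped TensorProduct

noncomputable section

namespace Groth.Agent.AVTate

variable {k : Type u} [Field k] {A B : Over (Spec (CommRingCat.of k))}
  [GrpObj A] [IsCommMonObj A] [IsProper A.hom] [GeometricallyIntegral A.hom]
  [GrpObj B] [IsCommMonObj B] [IsProper B.hom] [GeometricallyIntegral B.hom]

/-- A homomorphism with finite kernel is injective on Tate modules. -/
theorem tateMap_injective_of_isFinite {Ω : Type u} [Field Ω] [Algebra k Ω] [IsAlgClosed Ω] {l : ℕ} [Fact l.Prime]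
    (hl : (l : k) ≠ 0) (f : EndAV.Hom B A) [IsFinite f.toHom.left] :
    Function.Injective (EndAV.Hom.tateMap l (SGA7.pt Ω) f) := by
  haveI : IsMonHom f.toHom := inferInstance
  obtain ⟨g, hg⟩ := AVTors.exists_dimNat B
  obtain ⟨e⟩ := AVTors.exists_linearEquiv_pt Ω B hg l hl
  haveI : Module.Free ℤ_[l] (AbDual.TateMod B l (SGA7.pt Ω)) := Module.Free.of_equiv e
  haveI := AVTors.finite_kerPts (Ω := Ω) f.toHom
  rw [injective_iff_map_eq_zero]
  intro z hz
  have hc : (Nat.card (AVTors.kerPts f.toHom Ω) : ℤ_[l]) ≠ 0 := Nat.cast_ne_zero.2 Nat.card_pos.ne'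
  refine (smul_eq_zero.1 (show (Nat.card (AVTors.kerPts f.toHom Ω) : ℤ_[l]) • z = 0 from ?_)).resolve_left hc
  rw [Nat.cast_smul_eq_nsmul]
  refine AbDual.TateMod.ext fun m => ?_
  refine Additive.toMul.injective ?_
  show (AbDual.TateMod.component B l (SGA7.pt Ω) m z).toMul ^ Nat.card (AVTors.kerPts f.toHom Ω) = 1
  exact AVTors.pow_card_kerPts f.toHom _
    (congrArg Additive.toMul (congrArg (fun w => AbDual.TateMod.component A l (SGA7.pt Ω) m w) hz))

/-- Finite surjective homomorphisms are invertible up to isogeny. -/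
theorem exists_inverse_of_isFinite (f : EndAV.Hom B A) [IsFinite f.toHom.left] [Surjective f.toHom.left] :
    ∃ (g : EndAV.Hom A B) (n : ℕ), 0 < n ∧ f ≫ g = n • 𝟙 (CommGrp.mk B) ∧ g ≫ f = n • 𝟙 (CommGrp.mk A) := by
  obtain ⟨l, hlp, hl⟩ := AVHomLattice.exists_prime k
  haveI := Fact.mk hlp
  let Ω := AlgebraicClosure k
  obtain ⟨gA, hgA⟩ := AVTors.exists_dimNat A
  obtain ⟨gB, hgB⟩ := AVTors.exists_dimNat B
  obtain ⟨eA⟩ := AVTors.exists_linearEquiv_pt Ω A hgA l hl
  obtain ⟨eB⟩ := AVTors.exists_linearEquiv_pt Ω B hgB l hl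
  haveI : Module.Free ℤ_[l] (AbDual.TateMod B l (SGA7.pt Ω)) := Module.Free.of_equiv eB
  haveI : Module.Free ℤ_[l] (AbDual.TateMod A l (SGA7.pt Ω)) := Module.Free.of_equiv eA
  haveI : Module.Finite ℤ_[l] (AbDual.TateMod B l (SGA7.pt Ω)) := Module.Finite.equiv eB
  haveI : Module.Finite ℤ_[l] (AbDual.TateMod A l (SGA7.pt Ω)) := Module.Finite.equiv eA
  have hd : gB = gA := by
    have := GrpSchLib.IsogSub.topologicalKrullDim_eq_of_isIntegralHom f.toHom.left
    rw [hgA, hgB] at this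
    exact_mod_cast this
  refine exists_inverse Ω l hl f ?_
  have hinj : Function.Injective (repH Ω l f) :=
    Module.Flat.lTensor_preserves_injective_linearMap (M := ℚ_[l]) _ (tateMap_injective_of_isFinite hl f)
  refine ⟨hinj, (LinearMap.injective_iff_surjective_of_finrank_eq_finrank ?_).1 hinj⟩
  rw [Module.finrank_baseChange, Module.finrank_baseChange, ← eA.finrank_eq, ← eB.finrank_eq, hd]

/-- A homomorphism invertible up to isogeny is finite and surjective. -/
theorem isFinite_surjective_of_inverse {f : EndAV.Hom B A} {g : EndAV.Hom A B} {n : ℕ} (hn : 0 < n)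
    (h1 : f ≫ g = n • 𝟙 (CommGrp.mk B)) (h2 : g ≫ f = n • 𝟙 (CommGrp.mk A)) :
    IsFinite f.toHom.left ∧ Surjective f.toHom.left := by
  have e1 : f.toHom.left ≫ g.toHom.left = (𝟙 B ^ n : B ⟶ B).left := by
    rw [← Over.comp_left, ← EndAV.Hom.toHom_comp, h1, EndAV.Hom.toHom_nsmul, EndAV.Hom.toHom_id]
  have e2 : g.toHom.left ≫ f.toHom.left = (𝟙 A ^ n : A ⟶ A).left := by
    rw [← Over.comp_left, ← EndAV.Hom.toHom_comp, h2, EndAV.Hom.toHom_nsmul, EndAV.Hom.toHom_id]
  haveI : IsFinite (f.toHom.left ≫ g.toHom.left) := e1 ▸ AVMulN.isFinite_pow n hn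
  haveI : Surjective (g.toHom.left ≫ f.toHom.left) := e2 ▸ AVMulN.surjective_pow n hn
  haveI : IsSeparated (g.toHom.left ≫ B.hom) := by rw [Over.w g.toHom]; infer_instance
  haveI : IsSeparated g.toHom.left := IsSeparated.of_comp g.toHom.left B.hom
  exact ⟨IsFinite.of_comp f.toHom.left g.toHom.left, Surjective.of_comp g.toHom.left f.toHom.left⟩

namespace MinOrder

variable [Finite k] {p : ℕ} {J : Type} [Fintype J] {K : J → Type} [∀ j, Field (K j)] [∀ j, CharZero (K j)] {ϖ : ∀ j, K j}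
  {Aw : Over (Spec (CommRingCat.of k))} [GrpObj Aw] [IsCommMonObj Aw] [IsProper Aw.hom]
  [GeometricallyIntegral Aw.hom] {πw : Aw ⟶ Aw} [IsMonHom πw]
  (hint : ∀ j, IsIntegral ℤ (ϖ j)) (hinj : ∀ i j, minpoly ℤ (ϖ i) = minpoly ℤ (ϖ j) → i = j)
  (hne : ∀ j, ϖ j ≠ 0)
  (ρ : (gens p ϖ).range ≃+* EndAV.End Aw)
  (hρ : ρ ⟨gens p ϖ (MvPolynomial.X 0), AlgHom.mem_range_self _ _⟩ = EndAV.End.of πw) (hAw : IsFrob Aw πw)
  {πA : A ⟶ A} [IsMonHom πA] (hA : IsFrob A πA) (hPA : Polynomial.aeval (EndAV.End.of πA) (Pw ϖ) = 0)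
  {πB : B ⟶ B} [IsMonHom πB] (hB : IsFrob B πB) (hPB : Polynomial.aeval (EndAV.End.of πB) (Pw ϖ) = 0)

include hint hinj hne hρ hAw hA hPA hB hPB

theorem isogeny_iff_precomp (hpl : ∀ (l : ℕ) [Fact l.Prime], (l : k) ≠ 0 → IsUnit (p : ℤ_[l])) (f : EndAV.Hom B A) :
    (IsFinite f.toHom.left ∧ Surjective f.toHom.left) ↔
      (Function.Injective (Preadditive.leftComp (CommGrp.mk Aw) f) ∧
        Finite (EndAV.Hom B Aw ⧸ (Preadditive.leftComp (CommGrp.mk Aw) f).range)) := by
  obtain ⟨gA, hgA⟩ := AVTors.exists_dimNat A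
  obtain ⟨gB, hgB⟩ := AVTors.exists_dimNat B
  obtain ⟨fA, finA, rA⟩ := finrank_hom_eq hint hinj ρ hρ hAw hA hPA hgA
  obtain ⟨fB, finB, rB⟩ := finrank_hom_eq hint hinj ρ hρ hAw hB hPB hgB
  haveI := fA; haveI := finA; haveI := fB; haveI := finB
  let L : EndAV.Hom A Aw →+ EndAV.Hom B Aw := Preadditive.leftComp (CommGrp.mk Aw) f
  constructor
  · rintro ⟨h1, h2⟩
    haveI := h1; haveI := h2
    obtain ⟨g, n, hn, e1, e2⟩ := exists_inverse_of_isFinite f
    refine ⟨(injective_iff_map_eq_zero L).2 fun φ hφ => ?_, ?_⟩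
    · have h0 : n • φ = 0 := by
        rw [← Category.id_comp φ, ← Preadditive.nsmul_comp, ← e2, Category.assoc]
        exact (congrArg (g ≫ ·) hφ).trans Limits.comp_zero
      haveI := fA
      exact (smul_eq_zero.1 ((natCast_zsmul φ n).trans h0)).resolve_left (by exact_mod_cast hn.ne')
    · have hT : Module.IsTorsion ℤ (EndAV.Hom B Aw ⧸ L.range.toIntSubmodule) := fun x => by
        obtain ⟨ψ, rfl⟩ := Submodule.mkQ_surjective _ x
        refine ⟨⟨(n : ℤ), mem_nonZeroDivisors_of_ne_zero (by exact_mod_cast hn.ne')⟩, ?_⟩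
        show (n : ℤ) • Submodule.mkQ L.range.toIntSubmodule ψ = 0
        rw [← map_zsmul, Submodule.mkQ_apply, Submodule.Quotient.mk_eq_zero]
        refine ⟨g ≫ ψ, ?_⟩
        show f ≫ g ≫ ψ = (n : ℤ) • ψ
        rw [← Category.assoc, e1, Preadditive.nsmul_comp, Category.id_comp, natCast_zsmul]
      haveI : Module.Finite ℤ (EndAV.Hom B Aw ⧸ L.range.toIntSubmodule) :=
        Module.Finite.of_surjective _ (Submodule.mkQ_surjective L.range.toIntSubmodule)
      exact (Module.finite_of_fg_torsion (EndAV.Hom B Aw ⧸ L.range.toIntSubmodule) hT :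
        Finite (EndAV.Hom B Aw ⧸ L.range))
  · rintro ⟨hLi, hLf⟩
    haveI : Finite (EndAV.Hom B Aw ⧸ L.range) := hLf
    obtain ⟨l, hlp, hl⟩ := AVHomLattice.exists_prime k
    haveI := Fact.mk hlp
    let Ω := AlgebraicClosure k
    obtain ⟨eA⟩ := AVTors.exists_linearEquiv_pt Ω A hgA l hl
    obtain ⟨eB⟩ := AVTors.exists_linearEquiv_pt Ω B hgB l hl
    haveI : Module.Free ℤ_[l] (AbDual.TateMod B l (SGA7.pt Ω)) := Module.Free.of_equiv eB
    haveI : Module.Free ℤ_[l] (AbDual.TateMod A l (SGA7.pt Ω)) := Module.Free.of_equiv eA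
    haveI : Module.Finite ℤ_[l] (AbDual.TateMod B l (SGA7.pt Ω)) := Module.Finite.equiv eB
    haveI : Module.Finite ℤ_[l] (AbDual.TateMod A l (SGA7.pt Ω)) := Module.Finite.equiv eA
    have hkill : ∀ ψ : EndAV.Hom B Aw, ∃ φ : EndAV.Hom A Aw, f ≫ φ = Nat.card (EndAV.Hom B Aw ⧸ L.range) • ψ := fun ψ => by
      have h := card_nsmul_eq_zero' (x := (QuotientAddGroup.mk ψ : EndAV.Hom B Aw ⧸ L.range))
      rw [← QuotientAddGroup.mk_nsmul, QuotientAddGroup.eq_zero_iff] at h
      exact h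
    have hc : (Nat.card (EndAV.Hom B Aw ⧸ L.range) : ℤ_[l]) ≠ 0 := Nat.cast_ne_zero.2 Nat.card_pos.ne'
    have hTi : Function.Injective (EndAV.Hom.tateMap l (SGA7.pt Ω) f) := by
      rw [injective_iff_map_eq_zero]
      intro z hz
      refine (exists_eq_tateMap (A := B) hint hinj hne ρ hρ hAw hB hPB (Ω := Ω) hl (hpl l hl)).1 z 0 fun ψ => ?_
      obtain ⟨φ, hφ⟩ := hkill ψ
      have h := congrArg (fun u => EndAV.Hom.tateMap l (SGA7.pt Ω) u z) hφ
      simp only [tateMap_comp, LinearMap.comp_apply, hz, map_zero, map_nsmul, LinearMap.smul_apply] at h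
      rw [← Nat.cast_smul_eq_nsmul ℤ_[l]] at h
      rw [map_zero]
      haveI := (free_finite_tate (A := Aw) (Ω := Ω) hl).1
      exact (smul_eq_zero.1 h.symm).resolve_left hc
    have hr : gB = gA := by
      have hq : Module.finrank ℤ (EndAV.Hom B Aw ⧸ L.toIntLinearMap.range) = 0 := by
        haveI : Finite (EndAV.Hom B Aw ⧸ L.toIntLinearMap.range) := ‹Finite (EndAV.Hom B Aw ⧸ L.range)›
        exact Module.finrank_eq_zero_iff_isTorsion.2 fun x => ⟨⟨(Nat.card (EndAV.Hom B Aw ⧸ L.toIntLinearMap.range) : ℤ),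
          mem_nonZeroDivisors_of_ne_zero (by exact_mod_cast Nat.card_pos.ne')⟩, by
            show (Nat.card _ : ℤ) • x = 0
            rw [natCast_zsmul]
            exact card_nsmul_eq_zero'⟩
      have h := Submodule.finrank_quotient_add_finrank L.toIntLinearMap.range
      rw [hq, LinearMap.finrank_range_of_inj hLi, rA, rB] at h
      omega
    have hinj' : Function.Injective (repH Ω l f) :=
      Module.Flat.lTensor_preserves_injective_linearMap (M := ℚ_[l]) _ hTi
    obtain ⟨g, n, hn, e1, e2⟩ := exists_inverse Ω l hl f ⟨hinj', (LinearMap.injective_iff_surjective_of_finrank_eq_finrank (by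
      rw [Module.finrank_baseChange, Module.finrank_baseChange, ← eA.finrank_eq, ← eB.finrank_eq, hr])).1 hinj'⟩
    exact isFinite_surjective_of_inverse hn e1 e2

end MinOrder

end Groth.Agent.AVTate
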