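import Mathlib.NumberTheory.Padics.RingHoms
import Mathlib.RingTheory.RootsOfUnity.PrimitiveRoots
import Mathlib.FieldTheory.IsAlgClosed.Basic
import Mathlib.RingTheory.RootsOfUnity.AlgebraicallyClosed

/-!
# Compatible systems of `l`-power roots of unity are `l`-adic integers
-/

set_option autoImplicit false

universe u

namespace Groth.Agent.AVTate

variable {K : Type u} [Field K] [IsAlgClosed K] (l : ℕ) [hp : Fact l.Prime]

/-- A compatible system of primitive roots. -/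
theorem exists_roots (hl : (l : K) ≠ 0) :
    ∃ ζ : ℕ → K, (∀ m, IsPrimitiveRoot (ζ m) (l ^ m)) ∧ ∀ m, ζ (m + 1) ^ l = ζ m := by
  haveI : NeZero (l : K) := ⟨hl⟩
  obtain ⟨a, ha⟩ : ∃ a : K, IsPrimitiveRoot a l := HasEnoughRootsOfUnity.exists_primitiveRoot K l
  choose r hr using fun x : K => IsAlgClosed.exists_pow_nat_eq x hp.out.pos
  let η : ℕ → K := fun m => m.rec a fun _ x => r x
  have hη : ∀ m, η (m + 1) ^ l = η m := fun m => hr (η m)
  have hprim : ∀ m, IsPrimitiveRoot (η m) (l ^ (m + 1)) := by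
    intro m
    induction m with
    | zero => rwa [zero_add, pow_one]
    | succ m ih =>
      have h1 : η (m + 1) ^ l ^ (m + 1 + 1) = 1 := by rw [pow_succ' l, pow_mul, hη, ih.pow_eq_one]
      have h2 : ¬ η (m + 1) ^ l ^ (m + 1) = 1 := by
        rw [pow_succ' l, pow_mul, hη]
        exact ih.pow_ne_one_of_pos_of_lt (pow_ne_zero m hp.out.ne_zero)
          (Nat.pow_lt_pow_right hp.out.one_lt (Nat.lt_succ_self m))
      exact orderOf_eq_prime_pow h2 h1 ▸ IsPrimitiveRoot.orderOf _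
  refine ⟨fun m => Nat.casesOn m 1 η, fun m => ?_, fun m => ?_⟩
  · cases m with
    | zero => rw [pow_zero]; exact IsPrimitiveRoot.one
    | succ m => exact hprim m
  · cases m with
    | zero => exact ha.pow_eq_one
    | succ m => exact hη m

variable {l} {ζ : ℕ → K} (hζ : ∀ m, IsPrimitiveRoot (ζ m) (l ^ m)) (hc : ∀ m, ζ (m + 1) ^ l = ζ m)

/-- `a` is the logarithm of the system `z`. -/
def IsLog (ζ : ℕ → K) (z : ℕ → K) (a : ℤ_[l]) : Prop := ∀ m, ζ m ^ (PadicInt.toZModPow m a).val = z m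

include hζ

theorem IsLog.unique {z : ℕ → K} {a b : ℤ_[l]} (ha : IsLog ζ z a) (hb : IsLog ζ z b) : a = b := by
  refine PadicInt.ext_of_toZModPow.1 fun m => ZMod.val_injective _ ?_
  haveI : NeZero (l ^ m) := ⟨pow_ne_zero _ hp.out.ne_zero⟩
  exact (hζ m).pow_inj (ZMod.val_lt _) (ZMod.val_lt _) ((ha m).trans (hb m).symm)

theorem IsLog.add {z w : ℕ → K} {a b : ℤ_[l]} (ha : IsLog ζ z a) (hb : IsLog ζ w b) :
    IsLog ζ (fun m => z m * w m) (a + b) := fun m => by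
  haveI : NeZero (l ^ m) := ⟨pow_ne_zero _ hp.out.ne_zero⟩
  show _ = z m * w m
  rw [map_add, ZMod.val_add, ← ha m, ← hb m, ← pow_add]
  exact (pow_eq_pow_mod _ (hζ m).pow_eq_one).symm

theorem IsLog.mul_nat {z : ℕ → K} {a : ℤ_[l]} (ha : IsLog ζ z a) (c : ℤ_[l]) :
    IsLog ζ (fun m => z m ^ (PadicInt.toZModPow m c).val) (c * a) := fun m => by
  haveI : NeZero (l ^ m) := ⟨pow_ne_zero _ hp.out.ne_zero⟩
  show _ = z m ^ _
  rw [map_mul, ZMod.val_mul, ← ha m, ← pow_mul, mul_comm (PadicInt.toZModPow m a).val]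
  exact (pow_eq_pow_mod _ (hζ m).pow_eq_one).symm

theorem IsLog.zero : IsLog (l := l) ζ (fun _ => 1) 0 := fun m => by
  rw [map_zero, ZMod.val_zero, pow_zero]

include hc in
theorem exists_isLog {z : ℕ → K} (hz : ∀ m, z m ^ l ^ m = 1) (hzc : ∀ m, z (m + 1) ^ l = z m) :
    ∃ a : ℤ_[l], IsLog ζ z a := by
  choose c hclt hcz using fun m => (hζ m).eq_pow_of_pow_eq_one (k := l ^ m) (hz m)
  have hdvd : ∀ n, (l : ℤ) ^ n ∣ (c (n + 1) : ℤ) - c n := by
    intro n
    have h : ζ n ^ c (n + 1) = ζ n ^ c n := by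
      rw [← hc n, ← pow_mul, mul_comm, pow_mul, hcz (n + 1), hzc n, hc n, hcz n]
    have h' : Nat.ModEq (l ^ n) (c (n + 1)) (c n) := (hζ n).pow_inj (Nat.mod_lt _ (pow_pos hp.out.pos n))
      (Nat.mod_lt _ (pow_pos hp.out.pos n))
      (by rw [← pow_eq_pow_mod _ (hζ n).pow_eq_one, ← pow_eq_pow_mod _ (hζ n).pow_eq_one, h])
    exact_mod_cast (Nat.modEq_iff_dvd.1 h'.symm)
  refine ⟨PadicInt.ofIntSeq (fun n => (c n : ℤ)) (PadicInt.isCauSeq_padicNorm_of_pow_dvd_sub _ l hdvd), fun m => ?_⟩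
  haveI : NeZero (l ^ m) := ⟨pow_ne_zero _ hp.out.ne_zero⟩
  rw [PadicInt.toZModPow_ofIntSeq_of_pow_dvd_sub _ l hdvd m, Int.cast_natCast, ZMod.val_natCast,
    ← pow_eq_pow_mod _ (hζ m).pow_eq_one, hcz m]

end Groth.Agent.AVTate
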