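import Groth.Agent.Lib.AVNondeg
import Groth.Agent.Lib.AVGraphPair
import Groth.Agent.Lib.AVPoincareExist
import Groth.Agent.Lib.AVDual
import Groth.Agent.Lib.AVIndexStable
import Groth.Agent.Lib.AVHilbert
import Groth.Agent.Quiet5.AmpleFpqc
import Groth.Agent.AmpleX.RelAffine
import Groth.Agent.S18369
import Groth.Agent.S4624
import Groth.Agent.S7795
import Groth.Agent.SrcDescent.SmoothFppf
import Groth.Agent.SrcDescent.SchemeFppf
import Groth.Agent.QCoh.ProperOver
import Groth.Agent.GrpSchLib.AntiAffineHom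
import Groth.Agent.AVTors.IsogDegree
import Groth.Agent.AVTors.TatePt
import Groth.Agent.AVDegLib.MulN
import Groth.Agent.H23.PicInv

/-!
# An ample module over the ground field of bounded Euler characteristic from a polarisation
-/

set_option autoImplicit false
set_option linter.style.haveILetI false
set_option linter.unusedSectionVars false
set_option backward.isDefEq.respectTransparency false
set_option backward.isDefEq.respectTransparency.types false
set_option maxHeartbeats 2000000
set_option synthInstance.maxHeartbeats 400000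

universe u

open CategoryTheory CategoryTheory.Limits MonoidalCategory CartesianMonoidalCategory MonObj AlgebraicGeometry TopologicalSpace

noncomputable section

namespace Groth.Agent.AVTate

open Groth.Agent.H23
open Groth.Agent.AVPair (pl)
attribute [local instance] PicMul.clMonoid

variable {k : Type u} [Field k] {B Bt : Over (Spec (CommRingCat.of k))} [GrpObj B] [IsProper B.hom]
  [GeometricallyIntegral B.hom] [GrpObj Bt]

/-- The target of a morphism of positive degree from an abelian variety is one. -/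
theorem target_props (lam : B ⟶ Bt) {d : ℕ} (hd : 1 ≤ d) (h : AgPol.HasDegSq lam d) :
    Surjective lam.left ∧ IsProper Bt.hom ∧ Smooth Bt.hom ∧ GeometricallyIntegral Bt.hom := by
  obtain ⟨hfin, hfl, hlp, hr⟩ := h
  haveI := hfin; haveI := hfl; haveI := hlp
  haveI hsur : Surjective lam.left := (Scheme.Hom.one_le_finrank_iff_surjective (f := lam.left)).1 fun y =>
    (Nat.one_le_pow 2 d hd).trans (hr y).ge
  haveI : Smooth B.hom := S7795.result B
  haveI : GeometricallyConnected B.hom := CubeAb.geometricallyConnected_of_integral B.hom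
  haveI : IsProper (lam.left ≫ Bt.hom) := by rw [Over.w lam]; infer_instance
  haveI : Smooth (lam.left ≫ Bt.hom) := by rw [Over.w lam]; infer_instance
  haveI : LocallyOfFiniteType Bt.hom := SrcDescent.locallyOfFiniteType_of_fppf_comp lam.left Bt.hom
  haveI : IsProper Bt.hom := QCoh.isProper_of_comp_surjective lam.left Bt.hom
  haveI : Smooth Bt.hom := SrcDescent.smooth_of_fppf_comp lam.left Bt.hom
  haveI : GeometricallyConnected Bt.hom := S4624.result B.hom Bt.hom lam.left (Over.w lam)
  exact ⟨hsur, inferInstance, inferInstance, AVDual.geometricallyIntegral_of_smooth Bt⟩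

variable {φ : AgPol.DualMap B Bt} (hφ : AbDual.IsDualAV Scheme.fppfPrecoverage B Bt φ)

include hφ

/-- A polarisation of degree `d²` gives an ample module over the ground field with Euler characteristic at most `4ᵍd²`. -/
theorem exists_ample_euler (lam : B ⟶ Bt) (hpol : AgPol.IsPolarization B Bt φ lam) {d : ℕ} (hd : 1 ≤ d)
    (hdeg : AgPol.HasDegSq lam d) {g : ℕ} (hg : topologicalKrullDim B.left = g) :
    ∃ L : B.left.Modules, CohB1.IsAmple L ∧ 0 ≤ @Curv2.euler k _ B.left ⟨B.hom⟩ L ∧
      @Curv2.euler k _ B.left ⟨B.hom⟩ L ≤ (4 ^ g * d ^ 2 : ℕ) := by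
  obtain ⟨hsur, hTp, hTs, hTi⟩ := target_props lam hd hdeg
  obtain ⟨hfin, hfl, hlp, hr⟩ := hdeg
  haveI := hsur; haveI := hTp; haveI := hTs; haveI := hTi; haveI := hfin; haveI := hfl; haveI := hlp
  haveI := hpol.1
  haveI : Smooth B.hom := S7795.result B
  haveI : GeometricallyConnected B.hom := CubeAb.geometricallyConnected_of_integral B.hom
  haveI : IsCommMonObj B := isCommMonObj_of_isProper_of_geometricallyIntegral B
  haveI : IsCommMonObj Bt := isCommMonObj_of_isProper_of_geometricallyIntegral Bt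
  obtain ⟨P, hP, hξ⟩ := AVPoincareExist.exists_poincare hφ
  obtain ⟨L, hLc, hL⟩ := PicClLib.isInvertibleCl_pullCl (lift (𝟙 B) (lam ^ 1)).left
    (⟨P, rfl, hP⟩ : PicF.IsInvertibleCl (PicF.cl P))
  let Ω := AlgebraicClosure k
  let σ : Spec (CommRingCat.of Ω) ⟶ Spec (CommRingCat.of k) := Spec.map (CommRingCat.ofHom (algebraMap k Ω))
  let B' := Red.bc σ B
  let T' := Red.bc σ Bt
  haveI : IsProper B'.hom := inferInstanceAs (IsProper (pullback.snd B.hom σ))
  haveI : GeometricallyIntegral B'.hom := inferInstanceAs (GeometricallyIntegral (pullback.snd B.hom σ))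
  haveI : IsProper T'.hom := inferInstanceAs (IsProper (pullback.snd Bt.hom σ))
  haveI : GeometricallyIntegral T'.hom := inferInstanceAs (GeometricallyIntegral (pullback.snd Bt.hom σ))
  haveI : IsCommMonObj B' := isCommMonObj_of_isProper_of_geometricallyIntegral _
  haveI : IsCommMonObj T' := isCommMonObj_of_isProper_of_geometricallyIntegral _
  haveI : Smooth B'.hom := inferInstanceAs (Smooth (pullback.snd B.hom σ))
  haveI : Smooth T'.hom := inferInstanceAs (Smooth (pullback.snd Bt.hom σ))
  haveI : GeometricallyConnected B'.hom := CubeAb.geometricallyConnected_of_integral B'.hom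
  haveI : IsIntegral B'.left := GeometricallyIntegral.isIntegral_of_subsingleton B'.hom
  haveI : IsIntegral T'.left := GeometricallyIntegral.isIntegral_of_subsingleton T'.hom
  haveI : IsLocallyNoetherian B.left := LocallyOfFiniteType.isLocallyNoetherian B.hom
  haveI : IsLocallyNoetherian B'.left := LocallyOfFiniteType.isLocallyNoetherian B'.hom
  haveI : IsLocallyNoetherian T'.left := LocallyOfFiniteType.isLocallyNoetherian T'.hom
  let L' : B'.left.Modules := (Scheme.Modules.pullback (pullback.fst B.hom σ)).obj L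
  have hL' : PicF.IsInvertible L' := PicClLib.isInvertible_pullback _ hL
  have hφ' := AVDualBC.isDualAV (f := σ) hφ
  have hlamL : AVLambda.lam (AgPol.bcDual σ B Bt φ) hL' = (Over.pullback σ).map lam ^ (2 * 1) :=
    AVGraphPair.fibre_eq σ hφ hξ hpol.2 hL' (by
      show PicF.pullCl _ (PicF.cl L) = _
      rw [hLc])
  rw [_root_.mul_one] at hlamL
  obtain ⟨M, hM, hMl⟩ := hpol.2 Ω σ
  have eM := AVLambda.eq_lam_of_isLambda hM.1 hMl
  have hrel : AVLambda.base hL' = AVLambda.base hM.1 ^ 2 := by
    have h := AVLambda.polar_of_rel hL' hφ' hM.1 (𝟙 B') 2 (by rw [Category.id_comp, hlamL, eM])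
      (fst B' B') (snd B' B')
    rw [Category.comp_id] at h
    exact (congrArg AVLambda.val h.symm).trans (AVLambda.val_pow _ 2)
  obtain ⟨D, hD, hMD⟩ := PicInv.exists_inverse hM.1
  let N : B'.left.Modules := CohB1.tensorMod (CohB1.tensorMod L' D) D
  have hN : PicF.IsInvertible N := PicMul.isInvertible_tensor (PicMul.isInvertible_tensor hL' hD) hD
  have hmu : ∀ {C : B'.left.Modules} (hC : PicF.IsInvertible C),
      pl μ[B'] (PicF.cl C) = AVLambda.base hC * pl (fst B' B') (PicF.cl C) * pl (snd B' B') (PicF.cl C) := by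
    intro C hC
    have e := congrArg AVLambda.val (div_mul_cancel (AVDegPoly.q hC (fst B' B' * snd B' B'))
      (AVDegPoly.q hC (fst B' B') * AVDegPoly.q hC (snd B' B')))
    simp only [AVLambda.val, Subgroup.coe_mul, Units.val_mul] at e
    rw [show fst B' B' * snd B' B' = μ[B'] by rw [Hom.mul_def, lift_fst_snd, Category.id_comp]] at e
    have hq : ∀ f : B' ⊗ B' ⟶ B', pl f (PicF.cl C) =
        (((AVDegPoly.q hC f : TopInt.inv (B' ⊗ B').left) : (PicF.Cl (B' ⊗ B').left)ˣ) : PicF.Cl (B' ⊗ B').left) :=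
      fun f => rfl
    rw [← _root_.mul_assoc] at e
    rw [hq, hq, hq]
    refine e.symm.trans ?_
    congr 2
    show _ = AVLambda.val (AVDegPoly.polar hC (fst B' B') (snd B' B'))
    rw [AVDegPoly.polar, show fst B' B' * snd B' B' = μ[B'] by rw [Hom.mul_def, lift_fst_snd, Category.id_comp]]
  have hone : (PicF.cl M : PicF.Cl B'.left) * PicF.cl D = 1 := (PicGrp.cl_eq_cl_iff _ _).2 hMD
  have hN0 : pl μ[B'] (PicF.cl N) = pl (fst B' B') (PicF.cl N) * pl (snd B' B') (PicF.cl N) := by
    have e1 : pl μ[B'] (PicF.cl M) * pl μ[B'] (PicF.cl D) = 1 := by rw [← map_mul, hone, map_one]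
    have e2 : pl (fst B' B') (PicF.cl M) * pl (fst B' B') (PicF.cl D) = 1 := by rw [← map_mul, hone, map_one]
    have e3 : pl (snd B' B') (PicF.cl M) * pl (snd B' B') (PicF.cl D) = 1 := by rw [← map_mul, hone, map_one]
    have hN' : (PicF.cl N : PicF.Cl B'.left) = PicF.cl L' * PicF.cl D * PicF.cl D := by
      rw [PicMul.cl_tensor, PicMul.cl_tensor]
    rw [hmu hM.1] at e1
    simp only [hN', map_mul, hmu hL', hrel, pow_two]
    set b := AVLambda.base hM.1
    set fa := pl (fst B' B') (PicF.cl L')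
    set sa := pl (snd B' B') (PicF.cl L')
    set fb := pl (fst B' B') (PicF.cl M)
    set sb := pl (snd B' B') (PicF.cl M)
    set mc := pl μ[B'] (PicF.cl D)
    set fc := pl (fst B' B') (PicF.cl D)
    set sc := pl (snd B' B') (PicF.cl D)
    have h : b * mc = fc * sc := by
      calc b * mc = b * mc * ((fb * fc) * (sb * sc)) := by
            rw [e2, e3, _root_.mul_one, _root_.mul_one]
        _ = (b * fb * sb * mc) * (fc * sc) := by ac_rfl
        _ = fc * sc := by rw [e1, _root_.one_mul]
    calc b * b * fa * sa * mc * mc = (b * mc) * (b * mc) * fa * sa := by ac_rfl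
      _ = fa * fc * fc * (sa * sc * sc) := by rw [h]; ac_rfl
  have hampΩ : CohB1.IsAmple L' := by
    obtain ⟨e⟩ := (PicGrp.cl_eq_cl_iff (CohB1.tensorMod (CohB1.tensorPow M 2) N) L').1 (by
      rw [PicMul.cl_tensor, PicMul.cl_tensorPow, PicMul.cl_tensor, PicMul.cl_tensor]
      calc (PicF.cl M : PicF.Cl B'.left) ^ 2 * (PicF.cl L' * PicF.cl D * PicF.cl D)
          = PicF.cl L' * (PicF.cl M * PicF.cl D) * (PicF.cl M * PicF.cl D) := by rw [pow_two]; ac_rfl
        _ = PicF.cl L' := by rw [hone, _root_.mul_one, _root_.mul_one])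
    refine AmpleX.isAmple_of_iso e (S18369.result Ω B' _ N (AmpleX.isAmple_tensorPow hM (by norm_num)) hN ?_)
    refine (PicGrp.cl_eq_cl_iff _ _).1 ?_
    rw [PicMul.cl_tensor]
    exact hN0
  have hamp : CohB1.IsAmple L :=
    Quiet5.AmpleFpqc.isAmple_of_pullback (IsPullback.of_hasPullback B.hom σ) inferInstance hL hampΩ
  -- the degree of the homomorphism of `L'`
  let l' : B' ⟶ T' := (Over.pullback σ).map lam
  haveI : IsMonHom l' := inferInstanceAs (IsMonHom ((Over.pullback σ).map lam))
  have sq : IsPullback (pullback.fst B.hom σ) l'.left lam.left (pullback.fst Bt.hom σ) := by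
    refine IsPullback.of_bot ?_ ?_ (IsPullback.of_hasPullback Bt.hom σ)
    · rw [show l'.left ≫ pullback.snd Bt.hom σ = pullback.snd B.hom σ from Over.w l', Over.w lam]
      exact IsPullback.of_hasPullback B.hom σ
    · exact (pullback.lift_fst _ _ _).symm
  haveI : IsFinite l'.left := MorphismProperty.of_isPullback sq ‹IsFinite lam.left›
  haveI : Flat l'.left := MorphismProperty.of_isPullback sq ‹Flat lam.left›
  haveI : Surjective l'.left := MorphismProperty.of_isPullback sq ‹Surjective lam.left›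
  haveI : LocallyOfFinitePresentation l'.left := MorphismProperty.of_isPullback sq ‹LocallyOfFinitePresentation lam.left›
  have hg' : topologicalKrullDim B'.left = g := AVTors.topologicalKrullDim_pullback Ω hg
  obtain ⟨h2f, h2fl, h2s⟩ := AVDegLib.zpow_props (A := B') ((2 : ℕ) : ℤ) (by norm_num)
  have h2r : ∀ a, Scheme.Hom.finrank (𝟙 B' ^ ((2 : ℕ) : ℤ)).left a = 2 ^ (2 * g) := fun a => by
    rw [AVDegLib.finrank_zpow hg' _ (by norm_num) a]; rfl
  rw [zpow_natCast] at h2f h2fl h2s h2r
  haveI := h2f; haveI := h2fl; haveI := h2s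
  haveI := AVDegLib.lfp_endo (𝟙 B' ^ 2)
  let f : B' ⟶ T' := (𝟙 B' ^ 2) ≫ l'
  have hf : AVLambda.lam (AgPol.bcDual σ B Bt φ) hL' = f := by
    rw [hlamL, pow_two]
    show _ = (𝟙 B' ^ 2) ≫ l'
    rw [pow_two (𝟙 B'), MonObj.mul_comp, Category.id_comp]
  haveI : IsFinite f.left := by rw [Over.comp_left]; infer_instance
  haveI : Flat f.left := by rw [Over.comp_left]; infer_instance
  have hfd : ∀ y : ↥T'.left, Scheme.Hom.finrank f.left y = 4 ^ g * d ^ 2 := fun y => by
    rw [AVTors.finrank_comp_eq (𝟙 B' ^ 2) l' (η[B'].left (IsLocalRing.closedPoint Ω)) y, h2r,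
      Scheme.Hom.finrank_of_isPullback _ _ _ _ sq, hr, pow_mul]
    norm_num
  have hc : AVLambda.base hL' = ((AVCube.pc hL' (fst B' B' * snd B' B') * (AVCube.pc hL' (fst B' B'))⁻¹ *
      (AVCube.pc hL' (snd B' B'))⁻¹ : (PicF.Cl (B' ⊗ B').left)ˣ) : PicF.Cl (B' ⊗ B').left) := by
    refine congrArg Units.val ?_
    show ((AVDegPoly.q hL' (fst B' B' * snd B' B') / (AVDegPoly.q hL' (fst B' B') * AVDegPoly.q hL' (snd B' B')) :
      TopInt.inv (B' ⊗ B').left) : (PicF.Cl (B' ⊗ B').left)ˣ) = _
    rw [Subgroup.coe_div, Subgroup.coe_mul, div_eq_mul_inv, _root_.mul_inv, ← _root_.mul_assoc]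
    rfl
  have h1 := (AVNondeg.riemann_roch hL' hφ' hc (AVLambda.pz_base hL') hg' hf hfd).1
  have h2 := AVIndexStable.euler_bc (A := B) Ω (CurveDeg.isCoh_of_isInvertible hL)
  have h3 : @Curv2.euler k _ B.left ⟨B.hom⟩ L ^ 2 = ((4 ^ g * d ^ 2 : ℕ) : ℤ) := by rw [← h2]; exact h1
  have h0 : 0 ≤ @Curv2.euler k _ B.left ⟨B.hom⟩ L := by rw [AVHilbert.euler_eq_finrank hamp]; positivity
  exact ⟨L, hamp, h0, (Int.le_self_sq _).trans h3.le⟩

end Groth.Agent.AVTate
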