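import Groth.Agent.AVTate.Center

/-!
# The rank of the endomorphism ring from the characteristic polynomial of the Frobenius
-/

set_option autoImplicit false
set_option linter.style.haveILetI false
set_option linter.unusedSectionVars false
set_option backward.isDefEq.respectTransparency false
set_option backward.isDefEq.respectTransparency.types false
set_option maxHeartbeats 2000000
set_option synthInstance.maxHeartbeats 400000

universe u

open CategoryTheory AlgebraicGeometry MonoidalCategory CartesianMonoidalCategory UniqueFactorizationMonoid Polynomial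

noncomputable section

namespace Groth.Agent.AVTate

open scoped Classical

section Sums

variable {K : Type} [Field K] {f : K[X]}

theorem natDegree_eq_sum (hf : f ≠ 0) :
    f.natDegree = ∑ Q ∈ (normalizedFactors f).toFinset, (normalizedFactors f).count Q * Q.natDegree := by
  have h := prod_normalizedFactors hf
  rw [← natDegree_eq_of_degree_eq (degree_eq_degree_of_associated h),
    natDegree_multiset_prod _ (zero_notMem_normalizedFactors f), Finset.sum_multiset_map_count]
  simp

theorem rsum_eq (f : K[X]) : S14944.rsum K f =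
    ∑ Q ∈ (normalizedFactors f).toFinset, (normalizedFactors f).count Q * (normalizedFactors f).count Q * Q.natDegree := by
  unfold S14944.rsum
  congr!

theorem natDegree_le_rsum (hf : f ≠ 0) : f.natDegree ≤ S14944.rsum K f := by
  rw [natDegree_eq_sum hf, rsum_eq]
  exact Finset.sum_le_sum fun Q hQ => Nat.mul_le_mul_right _
    (Nat.le_mul_of_pos_left _ (Multiset.count_pos.2 (Multiset.mem_toFinset.1 hQ)))

theorem rsum_eq_natDegree_iff (hf : f ≠ 0) : S14944.rsum K f = f.natDegree ↔ Squarefree f := by
  rw [squarefree_iff_nodup_normalizedFactors hf, Multiset.nodup_iff_count_le_one, natDegree_eq_sum hf, rsum_eq]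
  have hle : ∀ Q ∈ (normalizedFactors f).toFinset, (normalizedFactors f).count Q * Q.natDegree ≤
      (normalizedFactors f).count Q * (normalizedFactors f).count Q * Q.natDegree := fun Q hQ =>
    Nat.mul_le_mul_right _ (Nat.le_mul_of_pos_left _ (Multiset.count_pos.2 (Multiset.mem_toFinset.1 hQ)))
  rw [eq_comm, Finset.sum_eq_sum_iff_of_le hle]
  constructor
  · intro h Q
    by_cases hQ : Q ∈ normalizedFactors f
    · have hd : 0 < Q.natDegree := (irreducible_of_normalized_factor Q hQ).natDegree_pos
      have hc := Multiset.count_pos.2 hQ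
      have h' := h Q (Multiset.mem_toFinset.2 hQ)
      have := Nat.eq_of_mul_eq_mul_right hd h'
      nlinarith
    · rw [Multiset.count_eq_zero.2 hQ]; exact Nat.zero_le _
  · intro h Q hQ
    have := Multiset.count_pos.2 (Multiset.mem_toFinset.1 hQ)
    simp [show (normalizedFactors f).count Q = 1 by have := h Q; omega]

theorem rsum_eq_sq_iff (hf : f.Monic) :
    S14944.rsum K f = f.natDegree ^ 2 ↔ ∃ a : K, f = (X - C a) ^ f.natDegree := by
  constructor
  · intro h
    rw [natDegree_eq_sum hf.ne_zero, rsum_eq, pow_two, Finset.sum_mul_sum] at h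
    set S := (normalizedFactors f).toFinset
    have hpos : ∀ Q ∈ S, 0 < (normalizedFactors f).count Q ∧ 0 < Q.natDegree := fun Q hQ =>
      ⟨Multiset.count_pos.2 (Multiset.mem_toFinset.1 hQ),
        (irreducible_of_normalized_factor Q (Multiset.mem_toFinset.1 hQ)).natDegree_pos⟩
    let G : K[X] → K[X] → ℕ := fun Q R =>
      (normalizedFactors f).count Q * Q.natDegree * ((normalizedFactors f).count R * R.natDegree)
    have hdiag : ∀ Q ∈ S, (normalizedFactors f).count Q * (normalizedFactors f).count Q * Q.natDegree ≤ G Q Q :=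
      fun Q hQ => by
        have hd := (hpos Q hQ).2
        calc (normalizedFactors f).count Q * (normalizedFactors f).count Q * Q.natDegree
            = (normalizedFactors f).count Q * (normalizedFactors f).count Q * Q.natDegree * 1 := (_root_.mul_one _).symm
          _ ≤ (normalizedFactors f).count Q * (normalizedFactors f).count Q * Q.natDegree * Q.natDegree :=
            Nat.mul_le_mul_left _ hd
          _ = G Q Q := by simp only [G]; ring
    have hrow : ∀ Q ∈ S, G Q Q ≤ ∑ R ∈ S, G Q R := fun Q hQ =>
      Finset.single_le_sum (f := G Q) (fun _ _ => Nat.zero_le _) hQ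
    have heq : ∀ Q ∈ S, (normalizedFactors f).count Q * (normalizedFactors f).count Q * Q.natDegree = ∑ R ∈ S, G Q R :=
      (Finset.sum_eq_sum_iff_of_le fun Q hQ => (hdiag Q hQ).trans (hrow Q hQ)).1 h
    rcases S.eq_empty_or_nonempty with hS | ⟨Q, hQ⟩
    · refine ⟨0, ?_⟩
      have h0 : f.natDegree = 0 := by
        rw [natDegree_eq_sum hf.ne_zero]
        exact Finset.sum_eq_zero fun R hR => absurd hR (by rw [show (normalizedFactors f).toFinset = ∅ from hS]; exact Finset.notMem_empty R)
      rw [h0, pow_zero]
      exact eq_one_of_monic_natDegree_zero hf h0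
    · have e := heq Q hQ
      have hone : ∀ R ∈ S, R = Q := by
        intro R hR
        by_contra hne
        have h2 : G Q Q + G Q R ≤ ∑ T ∈ S, G Q T := by
          rw [← Finset.sum_pair (f := G Q) (Ne.symm hne)]
          exact Finset.sum_le_sum_of_subset (by intro T hT; simp only [Finset.mem_insert, Finset.mem_singleton] at hT; rcases hT with rfl | rfl <;> assumption)
        have h3 : 0 < G Q R := Nat.mul_pos (Nat.mul_pos (hpos Q hQ).1 (hpos Q hQ).2) (Nat.mul_pos (hpos R hR).1 (hpos R hR).2)
        have := hdiag Q hQ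
        omega
      have hQ' := Multiset.mem_toFinset.1 hQ
      have hd1 : Q.natDegree = 1 := by
        have h4 : ∑ R ∈ S, G Q R = G Q Q := Finset.sum_eq_single_of_mem Q hQ fun R hR hne => absurd (hone R hR) hne
        rw [h4] at e
        simp only [G] at e
        have hc := (hpos Q hQ).1
        have hd := (hpos Q hQ).2
        have : (normalizedFactors f).count Q * (normalizedFactors f).count Q * Q.natDegree * 1 =
            (normalizedFactors f).count Q * (normalizedFactors f).count Q * Q.natDegree * Q.natDegree := by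
          conv_lhs => rw [_root_.mul_one, e]
          ring
        exact (Nat.eq_of_mul_eq_mul_left (Nat.mul_pos (Nat.mul_pos hc hc) hd) this).symm
      have hQm : Q.Monic := by
        rw [← normalize_normalized_factor Q hQ']
        exact monic_normalize (irreducible_of_normalized_factor Q hQ').ne_zero
      have hQX : Q = X - C (-Q.coeff 0) := by
        rw [map_neg, sub_neg_eq_add]
        exact hQm.eq_X_add_C hd1
      have hrep : normalizedFactors f = Multiset.replicate (Multiset.card (normalizedFactors f)) Q :=
        Multiset.eq_replicate_card.2 fun R hR => hone R (Multiset.mem_toFinset.2 hR)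
      have hfp : f = Q ^ Multiset.card (normalizedFactors f) := by
        refine eq_of_monic_of_associated hf (hQm.pow _) ?_
        rw [← Multiset.prod_replicate, ← hrep]
        exact (prod_normalizedFactors hf.ne_zero).symm
      refine ⟨-Q.coeff 0, ?_⟩
      rw [← hQX]
      have hdeg : f.natDegree = Multiset.card (normalizedFactors f) := by
        conv_lhs => rw [hfp, natDegree_pow, hd1, _root_.mul_one]
      rw [hdeg]
      exact hfp
  · rintro ⟨a, ha⟩
    rw [ha, natDegree_pow, natDegree_X_sub_C, _root_.mul_one, rsum_eq]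
    rcases Nat.eq_zero_or_pos f.natDegree with h0 | h0
    · simp [h0]
    · rw [normalizedFactors_pow, normalizedFactors_irreducible (irreducible_X_sub_C a), (monic_X_sub_C a).normalize_eq_self,
        Multiset.nsmul_singleton, Multiset.toFinset_replicate, if_neg h0.ne', Finset.sum_singleton,
        Multiset.count_replicate_self, natDegree_X_sub_C, _root_.mul_one, pow_two]

end Sums

open MonObj

theorem finrank_adjoin_singleton {R : Type*} [Ring R] [Algebra ℚ R] (x : R) (hx : IsIntegral ℚ x) :
    Module.finrank ℚ (Algebra.adjoin ℚ ({x} : Set R)) = (minpoly ℚ x).natDegree := by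
  have hker : RingHom.ker (Polynomial.aeval x : ℚ[X] →ₐ[ℚ] R).rangeRestrict = Ideal.span {minpoly ℚ x} := by
    ext p
    rw [RingHom.mem_ker, Subtype.ext_iff, Ideal.mem_span_singleton]
    exact ⟨fun h => minpoly.dvd ℚ x h, fun ⟨q, hq⟩ => by simp [hq, minpoly.aeval]⟩
  rw [(Subalgebra.equivOfEq _ _ (Algebra.adjoin_singleton_eq_range_aeval ℚ x)).toLinearEquiv.finrank_eq,
    ← (Ideal.quotientKerAlgEquivOfSurjective
      (AlgHom.rangeRestrict_surjective (Polynomial.aeval x : ℚ[X] →ₐ[ℚ] R))).toLinearEquiv.finrank_eq,
    (Ideal.quotientEquivAlgOfEq ℚ hker).toLinearEquiv.finrank_eq, finrank_quotient_span_eq_natDegree]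

variable {k : Type u} [Field k] {Ω : Type u} [Field Ω] [Algebra k Ω] [IsAlgClosed Ω]
  {A : Over (Spec (CommRingCat.of k))} [GrpObj A] [IsCommMonObj A] [IsProper A.hom] [GeometricallyIntegral A.hom]
  {π : A ⟶ A} [IsMonHom π] {l : ℕ} [Fact l.Prime] (hl : (l : k) ≠ 0)
  [Module.Free ℤ_[l] (AbDual.TateMod A l (SGA7.pt Ω))] [Module.Finite ℤ_[l] (AbDual.TateMod A l (SGA7.pt Ω))]
  {P : ℤ[X]} (hP : (AbDual.tateMapₗ (l := l) (T := SGA7.pt Ω) π).charpoly = P.map (Int.castRingHom ℤ_[l]))

include hl hP in
theorem aeval_charpoly : Polynomial.aeval (EndAV.End.of π) P = 0 := AVEnd0.tateRep_injective Ω l hl (by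
  rw [AVEnd0.aeval_tateRep, ← hP, map_zero]
  exact LinearMap.aeval_self_charpoly _)

include hl hP in
theorem minpoly_dvd : minpoly ℚ (EndAV.toEnd0 (EndAV.End.of π)) ∣ P.map (Int.castRingHom ℚ) :=
  minpoly.dvd ℚ _ (by rw [← AVEnd0.aeval_toEnd0, aeval_charpoly hl hP, map_zero])

include hl hP in
theorem isIntegral_frob : IsIntegral ℚ (EndAV.toEnd0 (EndAV.End.of π)) := by
  obtain ⟨g, hg⟩ := AVTors.exists_dimNat A
  exact ⟨P.map (Int.castRingHom ℚ), (AVWeil.charpoly_props Ω A hg π l hl hP).1.map _, by
    rw [← Polynomial.aeval_def, ← AVEnd0.aeval_toEnd0, aeval_charpoly hl hP, map_zero]⟩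

include hl hP in
theorem minpoly_eq_of_squarefree (hsq : Squarefree (P.map (Int.castRingHom ℚ))) :
    minpoly ℚ (EndAV.toEnd0 (EndAV.End.of π)) = P.map (Int.castRingHom ℚ) := by
  obtain ⟨g, hg⟩ := AVTors.exists_dimNat A
  obtain ⟨hm, hd, hv⟩ := AVWeil.charpoly_props Ω A hg π l hl hP
  have hμ := minpoly.monic (isIntegral_frob hl hP)
  refine eq_of_monic_of_associated hμ (hm.map _) (associated_of_dvd_dvd (minpoly_dvd hl hP) ?_)
  rw [dvd_iff_normalizedFactors_le_normalizedFactors (hm.map _).ne_zero hμ.ne_zero,
    Multiset.le_iff_subset ((squarefree_iff_nodup_normalizedFactors (hm.map _).ne_zero).1 hsq)]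
  intro h hh
  have hi := irreducible_of_normalized_factor h hh
  obtain ⟨q, hq, ha⟩ := exists_mem_normalizedFactors_of_dvd hμ.ne_zero hi
    (AVEnd0.dvd_minpoly hg (EndAV.End.of π) hm hd hv hi (dvd_of_mem_normalizedFactors hh))
  have e := normalize_eq_normalize ha.dvd ha.symm.dvd
  rw [normalize_normalized_factor h hh, normalize_normalized_factor q hq] at e
  exact e ▸ hq

end Groth.Agent.AVTate
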