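import Groth.Agent.CurveCohLib.Polar

/-!
# Pullback of rational functions, and the telescope lemma

`Sim D E`: the functions `D, E` (local equations of two divisors) differ by units at every point.
-/

set_option autoImplicit false
set_option linter.style.haveILetI false
set_option linter.unusedSectionVars false
set_option backward.isDefEq.respectTransparency false
set_option backward.isDefEq.respectTransparency.types false

universe u

open CategoryTheory AlgebraicGeometry TopologicalSpace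
open Groth.Agent.CurveCohLib.Polar (InR gη eta_mem)

noncomputable section

namespace Groth.Agent.AVTate

section Pull

variable {X Y : Scheme.{u}} [IsIntegral X] [IsIntegral Y]

/-- The generic point maps to the generic point. -/
class Dom (f : X ⟶ Y) : Prop where
  eta : f (genericPoint X) = genericPoint Y

theorem dom_of_surjective (f : X ⟶ Y) [Surjective f] : Dom f := by
  refine ⟨?_⟩
  have h := (genericPoint_spec X).image f.continuous
  rw [Set.image_univ, f.surjective.range_eq, closure_univ] at h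
  exact h.eq (genericPoint_spec Y)

/-- The map of function fields. -/
def fm (f : X ⟶ Y) [Dom f] : Y.functionField →+* X.functionField :=
  (f.stalkMap (genericPoint X)).hom.comp
    (Y.presheaf.stalkSpecializes (show f (genericPoint X) ⤳ genericPoint Y by rw [Dom.eta])).hom

theorem fm_gη (f : X ⟶ Y) [Dom f] {U : Y.Opens} {x : X} (hx : x ∈ f ⁻¹ᵁ U) (a : Γ(Y, U)) :
    fm f (gη (x := f x) hx a) = gη hx (f.app U a) := by
  show f.stalkMap _ (Y.presheaf.stalkSpecializes _ (Y.presheaf.germ U _ _ a)) = _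
  rw [TopCat.Presheaf.germ_stalkSpecializes_apply]
  exact Scheme.Hom.germ_stalkMap_apply f U _ _ a

theorem inR_fm (f : X ⟶ Y) [Dom f] {z : X} {c : Y.functionField} (h : InR (f z) c) : InR z (fm f c) := by
  obtain ⟨W, hz, r, rfl⟩ := CurveCohLib.Polar.exists_gη_of_inR h
  rw [fm_gη f hz]
  exact CurveCohLib.Polar.inR_gη (W := f ⁻¹ᵁ W) hz _

theorem exists_gη (c : Y.functionField) :
    ∃ (W : Y.Opens) (hW : genericPoint Y ∈ W) (r : Γ(Y, W)), gη hW r = c := by
  refine CurveCohLib.Polar.exists_gη_of_inR ?_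
  obtain ⟨W, hW, r, hr⟩ := Y.presheaf.germ_exist (x := genericPoint Y) c
  exact hr ▸ CurveCohLib.Polar.inR_gη hW r

instance dom_id : Dom (𝟙 X) := ⟨rfl⟩

instance dom_comp {Z : Scheme.{u}} [IsIntegral Z] (f : X ⟶ Y) (g : Y ⟶ Z) [Dom f] [Dom g] : Dom (f ≫ g) :=
  ⟨by rw [Scheme.Hom.comp_apply, Dom.eta, Dom.eta]⟩

theorem fm_id (c : X.functionField) : fm (𝟙 X) c = c := by
  obtain ⟨W, hW, r, rfl⟩ := exists_gη c
  exact fm_gη (𝟙 X) (U := W) (x := genericPoint X) hW r

theorem fm_comp {Z : Scheme.{u}} [IsIntegral Z] (f : X ⟶ Y) (g : Y ⟶ Z) [Dom f] [Dom g]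
    (c : Z.functionField) : fm (f ≫ g) c = fm f (fm g c) := by
  obtain ⟨W, hW, r, rfl⟩ := exists_gη c
  have h1 : f (genericPoint X) ∈ g ⁻¹ᵁ W := by
    show g (f (genericPoint X)) ∈ W
    rw [Dom.eta, Dom.eta]; exact hW
  have e1 : fm (f ≫ g) (gη (x := (f ≫ g) (genericPoint X)) (show (f ≫ g) (genericPoint X) ∈ W from h1) r) = _ :=
    fm_gη (f ≫ g) (U := W) (x := genericPoint X) h1 r
  have e2 : fm g (gη (x := g (f (genericPoint X))) (show g (f (genericPoint X)) ∈ W from h1) r) = _ :=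
    fm_gη g (U := W) (x := f (genericPoint X)) h1 r
  have e3 : fm f (gη (W := g ⁻¹ᵁ W) (x := f (genericPoint X)) h1 (g.app W r)) = _ :=
    fm_gη f (U := g ⁻¹ᵁ W) (x := genericPoint X) h1 (g.app W r)
  refine e1.trans ?_
  rw [show gη hW r = gη (x := g (f (genericPoint X))) (show g (f (genericPoint X)) ∈ W from h1) r from rfl, e2, e3]
  rfl

theorem fm_congr {f g : X ⟶ Y} [Dom f] [Dom g] (h : f = g) (c : Y.functionField) : fm f c = fm g c := by
  subst h; rfl

end Pull

section Sim

variable {X : Scheme.{u}} [IsIntegral X]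

/-- `c` is a unit at `z`. -/
def UnR (z : X) (c : X.functionField) : Prop := InR z c ∧ InR z c⁻¹ ∧ c ≠ 0

theorem UnR.one (z : X) : UnR z (1 : X.functionField) :=
  ⟨CurveCohLib.Polar.inR_one z, by rw [inv_one]; exact CurveCohLib.Polar.inR_one z, one_ne_zero⟩

theorem UnR.mul {z : X} {c d : X.functionField} (hc : UnR z c) (hd : UnR z d) : UnR z (c * d) :=
  ⟨hc.1.mul hd.1, by rw [mul_inv]; exact hc.2.1.mul hd.2.1, mul_ne_zero hc.2.2 hd.2.2⟩

theorem UnR.inv {z : X} {c : X.functionField} (hc : UnR z c) : UnR z c⁻¹ :=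
  ⟨hc.2.1, by rw [inv_inv]; exact hc.1, inv_ne_zero hc.2.2⟩

theorem UnR.div {z : X} {c d : X.functionField} (hc : UnR z c) (hd : UnR z d) : UnR z (c / d) := by
  rw [div_eq_mul_inv]; exact hc.mul hd.inv

theorem UnR.prod {z : X} {ι : Type*} (s : Finset ι) (c : ι → X.functionField) (h : ∀ i ∈ s, UnR z (c i)) :
    UnR z (∏ i ∈ s, c i) :=
  Finset.prod_induction _ (UnR z) (fun _ _ => UnR.mul) (UnR.one z) h

theorem unR_fm {Y : Scheme.{u}} [IsIntegral Y] (f : X ⟶ Y) [Dom f] {z : X} {c : Y.functionField}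
    (h : UnR (f z) c) : UnR z (fm f c) :=
  ⟨inR_fm f h.1, by rw [← map_inv₀]; exact inR_fm f h.2.1, (map_ne_zero _).2 h.2.2⟩

theorem unR_gη {W : X.Opens} {z : X} (hz : z ∈ W) {r : Γ(X, W)} (hr : IsUnit r) : UnR z (gη hz r) := by
  obtain ⟨r, rfl⟩ := hr
  refine ⟨CurveCohLib.Polar.inR_gη hz _, ?_, (r.isUnit.map _).ne_zero⟩
  have e : (gη hz (r : Γ(X, W)))⁻¹ = gη hz ((r⁻¹ : Γ(X, W)ˣ) : Γ(X, W)) :=
    inv_eq_of_mul_eq_one_right (by rw [← map_mul, Units.mul_inv, map_one])
  rw [e]
  exact CurveCohLib.Polar.inR_gη hz _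

/-- The iterates of an endomorphism. -/
def iter (T : X ⟶ X) : ℕ → (X ⟶ X)
  | 0 => 𝟙 X
  | i + 1 => T ≫ iter T i

instance dom_iter (T : X ⟶ X) [Dom T] : ∀ i, Dom (iter T i)
  | 0 => dom_id
  | i + 1 => @dom_comp _ _ _ _ _ _ _ _ _ (dom_iter T i)

theorem iter_comm (T : X ⟶ X) : ∀ i, T ≫ iter T i = iter T i ≫ T
  | 0 => by simp [iter]
  | i + 1 => by
    show T ≫ T ≫ iter T i = (T ≫ iter T i) ≫ T
    rw [Category.assoc, ← iter_comm T i]

theorem iter_comp_semi {Y : Scheme.{u}} (T : X ⟶ X) (S : Y ⟶ Y) (p : X ⟶ Y) (h : T ≫ p = p ≫ S) :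
    ∀ i, iter T i ≫ p = p ≫ iter S i
  | 0 => by simp [iter]
  | i + 1 => by
    show (T ≫ iter T i) ≫ p = p ≫ S ≫ iter S i
    rw [Category.assoc, iter_comp_semi T S p h i, ← Category.assoc, h, Category.assoc]

theorem prod_shift (T : X ⟶ X) [Dom T] (n : ℕ) {g : X.functionField} (hg : g ≠ 0) :
    fm T (∏ i ∈ Finset.range n, fm (iter T i) g) =
      (∏ i ∈ Finset.range n, fm (iter T i) g) * (fm (iter T n) g / g) := by
  rw [map_prod]
  induction n with
  | zero =>
    show (1 : X.functionField) = 1 * (fm (𝟙 X) g / g)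
    rw [fm_id, div_self hg, mul_one]
  | succ n ih =>
    rw [Finset.prod_range_succ, Finset.prod_range_succ, ih]
    have h1 : fm T (fm (iter T n) g) = fm (iter T (n + 1)) g := (fm_comp T (iter T n) g).symm
    rw [h1]
    field_simp

variable {Y : Scheme.{u}} [IsIntegral Y]

theorem prod_telescope (S : Y ⟶ Y) [Dom S] (D : Y → Y.functionField) (hD : ∀ P, D P ≠ 0) (P : Y) :
    ∀ n, ∏ i ∈ Finset.range n, fm (iter S i) (fm S (D (S (iter S i P))) / D (iter S i P)) =
      fm (iter S n) (D (iter S n P)) / D P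
  | 0 => by
    show (1 : Y.functionField) = fm (𝟙 Y) (D P) / D P
    rw [fm_id, div_self (hD P)]
  | n + 1 => by
    rw [Finset.prod_range_succ, prod_telescope S D hD P n, map_div₀]
    have h1 : fm (iter S n) (fm S (D (S (iter S n P)))) = fm (iter S (n + 1)) (D (iter S (n + 1) P)) := by
      rw [← fm_comp]
      refine (fm_congr (iter_comm S n).symm _).trans ?_
      rw [show S (iter S n P) = iter S (n + 1) P from by
        show S (iter S n P) = (S ≫ iter S n) P
        rw [iter_comm S n]; rfl]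
      rfl
    have h2 : fm (iter S n) (D (iter S n P)) ≠ 0 := (map_ne_zero _).2 (hD _)
    rw [h1, div_mul_div_comm, mul_comm (D P), mul_div_mul_left _ _ h2]

/-- **The telescope.** If `g` has divisor `p^*(S^* D - D)` with `T` over `S` and `S^n = 1`, then `g` is fixed by `T^n`. -/
theorem fm_iter_eq_self (T : X ⟶ X) [Dom T] (S : Y ⟶ Y) [Dom S] (p : X ⟶ Y) [Dom p] (hTS : T ≫ p = p ≫ S)
    (n : ℕ) (hS : iter S n = 𝟙 Y) (D : Y → Y.functionField) (hD : ∀ P, D P ≠ 0)
    {g : X.functionField} (hg : g ≠ 0)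
    (h : ∀ z, UnR z (g / fm p (fm S (D (S (p z))) / D (p z))))
    (hconst : ∀ r : Γ(X, ⊤), T.appTop r = r) : fm (iter T n) g = g := by
  set G := ∏ i ∈ Finset.range n, fm (iter T i) g with hG
  have hG0 : G ≠ 0 := Finset.prod_ne_zero_iff.2 fun i _ => (map_ne_zero _).2 hg
  have hun : ∀ z, UnR z G := by
    intro z
    have h1 : UnR z (∏ i ∈ Finset.range n,
        fm (iter T i) (g / fm p (fm S (D (S (p (iter T i z)))) / D (p (iter T i z))))) :=
      UnR.prod _ _ fun i _ => unR_fm (iter T i) (h _)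
    simp only [map_div₀ (fm (iter T _)), Finset.prod_div_distrib] at h1
    have h2 : ∏ i ∈ Finset.range n, fm (iter T i) (fm p (fm S (D (S (p (iter T i z)))) / D (p (iter T i z)))) = 1 := by
      have e : ∀ i, fm (iter T i) (fm p (fm S (D (S (p (iter T i z)))) / D (p (iter T i z)))) =
          fm p (fm (iter S i) (fm S (D (S (iter S i (p z)))) / D (iter S i (p z)))) := fun i => by
        have hp : p (iter T i z) = iter S i (p z) := by
          show (iter T i ≫ p) z = (p ≫ iter S i) z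
          rw [iter_comp_semi T S p hTS i]
        rw [hp, ← fm_comp, fm_congr (iter_comp_semi T S p hTS i), fm_comp]
      simp only [e]
      rw [← map_prod, prod_telescope S D hD (p z) n, fm_congr hS, fm_id,
        show iter S n (p z) = p z by rw [hS]; rfl, div_self (hD _), map_one]
    rwa [h2, div_one] at h1
  obtain ⟨r, hr⟩ := CurveCohLib.Polar.exists_of_forall_inR (W := ⊤) fun z _ => (hun z).1
  have hTG : fm T G = G := by
    rw [← hr (x := genericPoint X) trivial]
    have e := fm_gη T (U := ⊤) (x := genericPoint X) (show T (genericPoint X) ∈ (⊤ : X.Opens) from trivial) r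
    refine e.trans ?_
    rw [show T.app ⊤ r = r from hconst r]
    rfl
  rw [hG, prod_shift T n hg, ← hG] at hTG
  have h3 : fm (iter T n) g / g = 1 := mul_left_cancel₀ hG0 (hTG.trans (mul_one G).symm)
  exact (div_eq_one_iff_eq hg).1 h3

end Sim

end Groth.Agent.AVTate
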