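import Groth.Agent.AVTate.VeryAmple
import Groth.Agent.Lib.AVRelAmple
import Groth.Agent.QCoh.PullbackBC
import Groth.Agent.ExistEasy.PP.HatLemmas
import Groth.Agent.AmpleX.CounitEpi
import Groth.Agent.EtFound.Descent
import Groth.Agent.S14444
import Groth.Agent.S3572
import Groth.Agent.S4806
import Groth.Agent.S12481

/-!
The theorem of Lefschetz for abelian schemes.
-/

set_option autoImplicit false
set_option linter.style.haveILetI false
set_option linter.unusedSectionVars false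
set_option backward.isDefEq.respectTransparency false
set_option backward.isDefEq.respectTransparency.types false
set_option maxHeartbeats 1000000
set_option synthInstance.maxHeartbeats 200000

universe u

open CategoryTheory CategoryTheory.Limits MonoidalCategory CartesianMonoidalCategory MonObj AlgebraicGeometry TopologicalSpace Opposite

noncomputable section

namespace Groth.Agent.AVTate.RelLef

open Groth.Agent Groth.Agent.InvX Groth.Agent.CurveVA Groth.Agent.H23

/-- A constant of the base field as a function. -/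
def sc {K : Type u} [Field K] {X' : Scheme.{u}} (ζ : X' ⟶ Spec (CommRingCat.of K)) (c : K) : Γ(X', ⊤) :=
  ζ.appTop ((Scheme.ΓSpecIso (CommRingCat.of K)).inv c)

/-- A section over the preimage of an open through which the point factors, on the fibre. -/
def fibreSec {X S X' Z : Scheme.{u}} (f : X ⟶ S) (π : X' ⟶ X) (ζ : X' ⟶ Z) (q : Z ⟶ S) (w : π ≫ f = ζ ≫ q)
    (M : X.Modules) {W : S.Opens} (hle : (⊤ : Z.Opens) ≤ q ⁻¹ᵁ W) (a : Γ(M, f ⁻¹ᵁ W)) :
    Γ((Scheme.Modules.pullback π).obj M, ⊤) :=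
  AModX.res _ (fun x _ => by
    show f (π x) ∈ W
    rw [← Scheme.Hom.comp_apply, w, Scheme.Hom.comp_apply]
    exact hle trivial : (⊤ : X'.Opens) ≤ π ⁻¹ᵁ (f ⁻¹ᵁ W)) (pullElt π a)

theorem span_fibre {X S : Scheme.{u}} (f : X ⟶ S) [IsProper f] [LocallyOfFinitePresentation f] [Flat f]
    [IsLocallyNoetherian S] {M : X.Modules} (hM : PicF.IsInvertible M)
    (h1 : ∀ v : S, Subsingleton (CohIII.fiberH f M v 1))
    {W : S.Opens} (hW : IsAffineOpen W) {K : Type u} [Field K] (q : Spec (CommRingCat.of K) ⟶ S)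
    (hle : (⊤ : (Spec (CommRingCat.of K)).Opens) ≤ q ⁻¹ᵁ W)
    {X' : Scheme.{u}} (π : X' ⟶ X) (ζ : X' ⟶ Spec (CommRingCat.of K)) (h : IsPullback π ζ f q)
    (P : Γ((Scheme.Modules.pullback π).obj M, ⊤) → Prop) (h0 : P 0)
    (hadd : ∀ y z, P y → P z → P (y + z)) (hsmul : ∀ c z, P z → P (sc ζ c • z))
    (hsec : ∀ a : Γ(M, f ⁻¹ᵁ W), P (fibreSec f π ζ q h.w M hle a))
    (z : Γ((Scheme.Modules.pullback π).obj M, ⊤)) : P z := by
  haveI : IsLocallyNoetherian X := LocallyOfFiniteType.isLocallyNoetherian f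
  have hMc := CurveDeg.isCoh_of_isInvertible hM
  haveI : Coh.IsQCoh M := hMc.1
  have hiso := (S14444.result f M (KZ.LFRes.isFP_of_isCoh hMc)
    (H23.Seesaw.isFlatOver_of_isInvertible f hM) h1).2 π ζ q h
  let N := (Scheme.Modules.pushforward f).obj M
  have hN : Coh.IsQCoh N := QCoh.isQCoh_pushforward f hMc.1
  let adj := Scheme.Modules.pullbackPushforwardAdjunction q
  let α : N ⟶ (Scheme.Modules.pushforward q).obj
      ((Scheme.Modules.pushforward ζ).obj ((Scheme.Modules.pullback π).obj M)) :=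
    (Scheme.Modules.pushforward f).map ((Scheme.Modules.pullbackPushforwardAdjunction π).unit.app M) ≫
      (Scheme.Modules.pushforwardComp π f).hom.app ((Scheme.Modules.pullback π).obj M) ≫
      (Scheme.Modules.pushforwardCongr h.w).hom.app ((Scheme.Modules.pullback π).obj M) ≫
      (Scheme.Modules.pushforwardComp ζ q).inv.app ((Scheme.Modules.pullback π).obj M)
  let β := (adj.homEquiv _ _).symm α
  haveI : IsIso β := hiso
  let Q := (Scheme.Modules.pullback q).obj N
  let P' : Γ(Q, ⊤) → Prop := fun y => P (β.app ⊤ y)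
  suffices hall : ∀ y, P' y by
    have := hall ((inv β).app ⊤ z)
    change P (β.app ⊤ ((inv β).app ⊤ z)) at this
    rwa [← CategoryTheory.comp_apply, ← Scheme.Modules.Hom.comp_app, IsIso.inv_hom_id] at this
  intro y
  let T := (⊤ : (Spec (CommRingCat.of K)).Opens)
  letI : Algebra Γ(S, W) Γ(Spec (CommRingCat.of K), T) := (q.appLE W T hle).hom.toAlgebra
  letI : Module Γ(S, W) Γ(Q, T) := Module.compHom _ (q.appLE W T hle).hom
  haveI : IsScalarTower Γ(S, W) Γ(Spec (CommRingCat.of K), T) Γ(Q, T) :=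
    IsScalarTower.of_algebraMap_smul fun _ _ => rfl
  let l : Γ(N, W) →ₗ[Γ(S, W)] Γ(Q, T) :=
    { toFun := QCoh.pullSec q N hle
      map_add' := QCoh.pullSec_add q N hle
      map_smul' := QCoh.pullSec_smul q N hle }
  have hbc := QCoh.isBaseChange_pullback hW q (isAffineOpen_top _) hN hle (fun _ => rfl) l (fun _ => rfl)
  refine hbc.inductionOn y P' ?_ (fun a => ?_) (fun r x hx => ?_) (fun x x' hx hx' => ?_)
  · show P (β.app ⊤ 0); rw [map_zero]; exact h0
  · show P (β.app ⊤ (QCoh.pullSec q N hle a))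
    have e : β.app ⊤ (QCoh.pullSec q N hle a) = fibreSec f π ζ q h.w M hle a := by
      unfold QCoh.pullSec
      rw [QCoh.map_app_comm]
      have e1 : β.app (q ⁻¹ᵁ W) ((adj.unit.app N).app W a) = α.app W a := by
        have : adj.unit.app N ≫ (Scheme.Modules.pushforward q).map β = α :=
          (adj.homEquiv_unit (f := β)).symm.trans (Equiv.apply_symm_apply _ _)
        exact congr($(this).app W a)
      refine (congrArg _ e1).trans ?_
      exact (AModX.res_res (M := (Scheme.Modules.pullback π).obj M) _ _ _)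
    rw [e]; exact hsec a
  · show P (β.app ⊤ (r • x))
    rw [Scheme.Modules.Hom.app_smul]
    obtain ⟨c, rfl⟩ := (ConcreteCategory.bijective_of_isIso (Scheme.ΓSpecIso (CommRingCat.of K)).inv).2 r
    exact hsmul c _ hx
  · show P (β.app ⊤ (x + x')); rw [map_add]; exact hadd _ _ hx hx'

section Locus

variable {X : Scheme.{u}} {M : X.Modules}

theorem notMem_locus_zero (hM : PicF.IsInvertible M) (x : X) : x ∉ TrivBasic.locus (0 : Γ(M, ⊤)) := fun hy => by
  obtain ⟨U, hxU, e, he⟩ := exists_frame hM x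
  have := (VA.locus_inf_eq he (0 : Γ(M, ⊤))).le ⟨hy, hxU⟩
  rw [VA.glCo_eq he (b := 0) (by rw [map_zero, zero_smul]), Scheme.basicOpen_zero] at this
  exact this

theorem notMem_locus_add (hM : PicF.IsInvertible M) {x : X} {y z : Γ(M, ⊤)} (hy : x ∉ TrivBasic.locus y)
    (hz : x ∉ TrivBasic.locus z) : x ∉ TrivBasic.locus (y + z) := fun h => by
  obtain ⟨U, hxU, e, he⟩ := exists_frame hM x
  have h1 := (VA.locus_inf_eq he (y + z)).le ⟨h, hxU⟩
  have key : ∀ w : Γ(M, ⊤), x ∉ TrivBasic.locus w →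
      X.presheaf.germ U x hxU (VA.glCo he w) ∈ IsLocalRing.maximalIdeal (X.presheaf.stalk x) := fun w hw =>
    (IsLocalRing.mem_maximalIdeal _).2 fun hu => hw ((VA.locus_inf_eq he w).ge ((X.mem_basicOpen _ x hxU).2 hu)).1
  rw [X.mem_basicOpen _ x hxU, VA.glCo_add, map_add] at h1
  exact (IsLocalRing.mem_maximalIdeal _).1 (Ideal.add_mem _ (key y hy) (key z hz)) h1

theorem notMem_locus_smul (hM : PicF.IsInvertible M) {x : X} (c : Γ(X, ⊤)) {z : Γ(M, ⊤)}
    (hz : x ∉ TrivBasic.locus z) : x ∉ TrivBasic.locus (c • z) := fun h => by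
  obtain ⟨U, hxU, e, he⟩ := exists_frame hM x
  have h1 := (VA.locus_inf_eq he (c • z)).le ⟨h, hxU⟩
  rw [X.mem_basicOpen _ x hxU, VA.glCo_smul, map_mul] at h1
  exact hz ((VA.locus_inf_eq he z).ge ((X.mem_basicOpen _ x hxU).2 (isUnit_of_mul_isUnit_right h1))).1

theorem mem_locus_map_iso {N : X.Modules} (e : M ≅ N) {z : Γ(M, ⊤)} {x : X} (hx : x ∈ TrivBasic.locus z) :
    x ∈ TrivBasic.locus (e.hom.app ⊤ z) := by
  obtain ⟨U, hU, hf⟩ := TrivBasic.mem_locus_iff.1 hx
  refine TrivBasic.mem_locus_iff.2 ⟨U, hU, ?_⟩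
  rw [← AModX.app_res]
  exact IsFrame.map_iso e hf

end Locus

/-- Sections over the base generate where the fibre is generated. -/
theorem exists_locus {X S : Scheme.{u}} (f : X ⟶ S) [IsProper f] [LocallyOfFinitePresentation f] [Flat f]
    [IsLocallyNoetherian S] {M : X.Modules} (hM : PicF.IsInvertible M)
    (h1 : ∀ v : S, Subsingleton (CohIII.fiberH f M v 1))
    {W : S.Opens} (hW : IsAffineOpen W) {K : Type u} [Field K] (q : Spec (CommRingCat.of K) ⟶ S)
    (hle : (⊤ : (Spec (CommRingCat.of K)).Opens) ≤ q ⁻¹ᵁ W)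
    {X' : Scheme.{u}} (π : X' ⟶ X) (ζ : X' ⟶ Spec (CommRingCat.of K)) (h : IsPullback π ζ f q)
    (x' : X') (hx' : ∃ t : Γ((Scheme.Modules.pullback π).obj M, ⊤), x' ∈ TrivBasic.locus t) :
    ∃ a : Γ(M, f ⁻¹ᵁ W), π x' ∈ AmpleX.locus a := by
  by_contra! hno
  obtain ⟨t, ht⟩ := hx'
  have hM' := PicClLib.isInvertible_pullback π hM
  refine span_fibre f hM h1 hW q hle π ζ h (fun z => x' ∉ TrivBasic.locus z) (notMem_locus_zero hM' x')
    (fun _ _ => notMem_locus_add hM') (fun c _ => notMem_locus_smul hM' _) (fun a ha => hno a ?_) t ht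
  obtain ⟨U, hxU, hU⟩ := TrivBasic.mem_locus_iff.1 ha
  rw [fibreSec, AModX.res_res] at hU
  exact (AmpleX.locus_pullElt hM π a).le (AmpleX.mem_locus.2 ⟨U, _, hxU, hU⟩)

section PlSec

variable {X X' : Scheme.{u}} (π : X' ⟶ X) (M : X.Modules) (O : X'.Opens)

/-- A global section, pulled back and restricted. -/
def plSec (a : Γ(M, ⊤)) : Γ((Scheme.Modules.pullback π).obj M, O) :=
  AModX.res _ (le_top : O ≤ π ⁻¹ᵁ (⊤ : X.Opens)) (pullElt π a)

theorem plSec_zero : plSec π M O 0 = 0 :=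
  (congrArg _ (map_zero (((Scheme.Modules.pullbackPushforwardAdjunction π).unit.app M).app ⊤).hom)).trans
    (map_zero _)

theorem plSec_add (a a' : Γ(M, ⊤)) : plSec π M O (a + a') = plSec π M O a + plSec π M O a' :=
  (congrArg _ (map_add (((Scheme.Modules.pullbackPushforwardAdjunction π).unit.app M).app ⊤).hom a a')).trans
    (map_add _ _ _)

theorem plSec_smul (c : Γ(X, ⊤)) (a : Γ(M, ⊤)) :
    plSec π M O (c • a) = π.appLE ⊤ O le_top c • plSec π M O a := by
  rw [plSec, InvX.pullElt_smul, AModX.res_smul]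
  rfl

theorem plSec_eq {U : X.Opens} (hU : O ≤ π ⁻¹ᵁ U) (a : Γ(M, ⊤)) :
    plSec π M O a = AModX.res _ hU (InvX.pullElt π (AModX.res M (le_top : U ≤ ⊤) a)) := by
  rw [← InvX.res_pullElt π (le_top : U ≤ ⊤) a, AModX.res_res]
  rfl

end PlSec

attribute [local instance] Functor.monObjObj Functor.grpObjObj

variable {S : Scheme.{u}} {A : Over S} [GrpObj A] [IsProper A.hom] [Smooth A.hom] [GeometricallyConnected A.hom]

theorem fibre_data {L : A.left.Modules} (hample : RelAmple.IsRelAmple A.hom L) {K : Type u} [Field K]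
    (q : Spec (CommRingCat.of K) ⟶ S) :
    IsProper ((Over.pullback q).obj A).hom ∧ GeometricallyIntegral ((Over.pullback q).obj A).hom ∧
      CohB1.IsAmple (X := ((Over.pullback q).obj A).left) ((Scheme.Modules.pullback (pullback.fst A.hom q)).obj L) := by
  let B := (Over.pullback q).obj A
  haveI : IsProper B.hom := inferInstanceAs (IsProper (pullback.snd A.hom q))
  haveI : Smooth B.hom := inferInstanceAs (Smooth (pullback.snd A.hom q))
  haveI : GeometricallyConnected B.hom := inferInstanceAs (GeometricallyConnected (pullback.snd A.hom q))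
  haveI : GeometricallyReduced B.hom := H23.RigidGamma.geometricallyReduced_of_smooth B.hom
  haveI : ConnectedSpace B.left := GeometricallyConnected.connectedSpace_of_subsingleton B.hom
  exact ⟨inferInstance, H23.MaxAbelian.geometricallyIntegral_of_connected B,
    AVRelAmple.isAmple_pullback hample q _ _ (IsPullback.of_hasPullback A.hom q)⟩

theorem flat_data [IsLocallyNoetherian S] : LocallyOfFinitePresentation A.hom ∧ Flat A.hom :=
  ⟨inferInstance, inferInstance⟩

theorem subsingleton_fiberH_pow {L : A.left.Modules} (hL : PicF.IsInvertible L)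
    (hample : RelAmple.IsRelAmple A.hom L) {n : ℕ} (hn : 0 < n) (v : S) :
    Subsingleton (CohIII.fiberH A.hom (CohB1.tensorPow L n) v 1) :=
  AVRelAmple.subsingleton_fiberH A (InvX.isInvertible_tensorPow hL n)
    ((AmpleX.isRelAmple_tensorPow_iff hL hn).1 hample) v 1 one_pos

/-- Over every affine open, the powers from the square on are generated. -/
theorem exists_section [IsLocallyNoetherian S] {L : A.left.Modules} (hL : PicF.IsInvertible L)
    (hample : RelAmple.IsRelAmple A.hom L) {n : ℕ} (hn : 2 ≤ n) (x : A.left) {W : S.Opens} (hW : IsAffineOpen W)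
    (hxW : A.hom x ∈ W) : ∃ a : Γ(CohB1.tensorPow L n, A.hom ⁻¹ᵁ W), x ∈ AmpleX.locus a := by
  let s := A.hom x
  let Ω := AlgebraicClosure (S.residueField s)
  let a₀ : Spec (CommRingCat.of Ω) ⟶ Spec (S.residueField s) :=
    Spec.map (CommRingCat.ofHom (algebraMap (S.residueField s) Ω))
  let q : Spec (CommRingCat.of Ω) ⟶ S := a₀ ≫ S.fromSpecResidueField s
  have hq : ∀ z, q z = s := fun z => by
    have : q z ∈ Set.range (S.fromSpecResidueField s) := ⟨a₀ z, rfl⟩
    rwa [Scheme.range_fromSpecResidueField] at this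
  obtain ⟨hp, hg, ha⟩ := fibre_data hample q
  have hpb : IsPullback (pullback.fst A.hom q) (pullback.snd A.hom q) A.hom q := IsPullback.of_hasPullback _ _
  obtain ⟨z₀⟩ : Nonempty (Spec (CommRingCat.of Ω)) := inferInstance
  obtain ⟨x', hx', -⟩ := Scheme.Pullback.exists_preimage_pullback (f := A.hom) (g := q) x z₀ (hq z₀).symm
  obtain ⟨t, ht⟩ := VA.exists_section_pow (A := (Over.pullback q).obj A) ha n hn x'
  obtain ⟨e⟩ := AmpleVan.RelVanish.pullback_tensorPow (pullback.fst A.hom q) L n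
  obtain ⟨hlfp, hfl⟩ := flat_data (A := A)
  obtain ⟨a, ha'⟩ := exists_locus A.hom (InvX.isInvertible_tensorPow hL n)
    (subsingleton_fiberH_pow hL hample (show 0 < n by omega)) hW q
    (fun z _ => show q z ∈ W by rw [hq]; exact hxW) _ _ hpb x' ⟨_, mem_locus_map_iso e.symm ht⟩
  exact ⟨a, hx' ▸ ha'⟩

/-- The closed immersion criterion on geometric fibres. -/
theorem isClosedImmersion_of_geometric {X P : Scheme.{u}} {snd : P ⟶ S} (i : X ⟶ P) [IsProper i]
    [LocallyOfFinitePresentation i]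
    (h : ∀ (y : P), ∃ (K : Type u) (_ : Field K) (q : Spec (CommRingCat.of K) ⟶ S) (X' : Scheme.{u})
      (g : X' ⟶ pullback snd q) (π : X' ⟶ X), IsPullback π g i (pullback.fst snd q) ∧ IsClosedImmersion g ∧
      ∃ y' : (pullback snd q : Scheme.{u}), pullback.fst snd q y' = y) :
    IsClosedImmersion i := by
  refine (S4806.result i).2 fun y => ?_
  obtain ⟨K, _, q, X', g, π, hsq, hg, y', rfl⟩ := h y
  let fst := pullback.fst snd q
  have h1 : IsPullback (g.fiberι y') (g.fiberToSpecResidueField y') g ((pullback snd q).fromSpecResidueField y') :=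
    IsPullback.of_hasPullback _ _
  have h2 := h1.paste_horiz hsq
  rw [← Scheme.Hom.SpecMap_residueFieldMap_fromSpecResidueField fst y'] at h2
  have h3 : IsPullback (i.fiberι (fst y')) (i.fiberToSpecResidueField (fst y')) i (P.fromSpecResidueField (fst y')) :=
    IsPullback.of_hasPullback _ _
  let l := h3.lift (g.fiberι y' ≫ π) (g.fiberToSpecResidueField y' ≫ Spec.map (fst.residueFieldMap y'))
    (by rw [Category.assoc]; exact h2.w.trans (Category.assoc _ _ _).symm)
  have h4 : IsPullback l (g.fiberToSpecResidueField y') (i.fiberToSpecResidueField (fst y'))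
      (Spec.map (fst.residueFieldMap y')) :=
    IsPullback.of_right (by rw [h3.lift_fst]; exact h2) (h3.lift_snd _ _ _) h3
  haveI : IsClosedImmersion (g.fiberToSpecResidueField y') :=
    MorphismProperty.of_isPullback (P := @IsClosedImmersion) h1 hg
  haveI : MorphismProperty.DescendsAlong @IsClosedImmersion
      (@Surjective ⊓ @Flat ⊓ @QuasiCompact : MorphismProperty Scheme.{u}) := EtFound.fpqc_isClosedImmersion
  haveI : IsClosedImmersion (i.fiberToSpecResidueField (fst y')) := by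
    refine MorphismProperty.of_isPullback_of_descendsAlong (Q := (@Surjective ⊓ @Flat ⊓ @QuasiCompact :
      MorphismProperty Scheme.{u})) h4.flip ⟨⟨?_, ?_⟩, inferInstance⟩ ‹_›
    · exact GrpSchLib.surjective_spec_map_field (fst.residueFieldMap y').hom
    · exact GrpSchLib.flat_spec_map_field (fst.residueFieldMap y').hom
  by_cases hne : IsEmpty (i.fiber (fst y'))
  · exact Or.inl hne
  rw [not_isEmpty_iff] at hne
  haveI : Surjective (i.fiberToSpecResidueField (fst y')) :=
    ⟨fun z => ⟨hne.some, Subsingleton.elim _ _⟩⟩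
  exact Or.inr (isIso_of_isClosedImmersion_of_surjective _)

/-- Over an affine base the powers from the cube on embed into a projective space. -/
theorem isRelVeryAmplePn_of_isAffine [IsLocallyNoetherian S] [IsAffine S] {L : A.left.Modules}
    (hL : PicF.IsInvertible L) (hample : RelAmple.IsRelAmple A.hom L) {n : ℕ} (hn : 3 ≤ n) :
    RelAmple.IsRelVeryAmplePn A.hom (CohB1.tensorPow L n) := by
  classical
  obtain ⟨hlfp, hflat⟩ := flat_data (A := A)
  haveI : IsLocallyNoetherian A.left := LocallyOfFiniteType.isLocallyNoetherian A.hom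
  let M := CohB1.tensorPow L n
  have hM : PicF.IsInvertible M := InvX.isInvertible_tensorPow hL n
  have h1 := subsingleton_fiberH_pow hL hample (show 0 < n by omega)
  have hcoh := ExistEasy.isCoh_pushforward_proper A.hom (CurveDeg.isCoh_of_isInvertible hM)
  have hfin : Module.Finite Γ(S, ⊤) Γ((Scheme.Modules.pushforward A.hom).obj M, ⊤) :=
    QCoh.finite_of_isFT hcoh.1 hcoh.2 (isAffineOpen_top S)
  obtain ⟨N, b, hb⟩ := Module.Finite.exists_fin (R := Γ(S, ⊤)) (M := Γ((Scheme.Modules.pushforward A.hom).obj M, ⊤))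
  let σ : Fin (N + 1) → Γ(M, ⊤) := Fin.cons 0 fun i => (b i : Γ(M, ⊤))
  -- every section is a combination of the chosen ones
  have hcomb : ∀ (Q : Γ(M, ⊤) → Prop), Q 0 → (∀ y z, Q y → Q z → Q (y + z)) →
      (∀ (r : Γ(S, ⊤)) z, Q z → Q (A.hom.appTop r • z)) → (∀ i, Q (σ i)) → ∀ z, Q z := by
    intro Q q0 qa qs qσ z
    suffices key : ∀ y : Γ((Scheme.Modules.pushforward A.hom).obj M, ⊤), Q y from key z
    intro y
    have hz : y ∈ Submodule.span Γ(S, ⊤) (Set.range b) := hb ▸ trivial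
    induction hz using Submodule.span_induction with
    | mem y hy => obtain ⟨i, rfl⟩ := hy; simpa [σ] using qσ i.succ
    | zero => exact q0
    | add y y' _ _ hy hy' => exact qa _ _ hy hy'
    | smul r y _ hy => exact qs r _ hy
  have hcov : ∀ x : A.left, ∃ i, x ∈ TrivBasic.locus (σ i) := fun x => by
    obtain ⟨a, ha⟩ := exists_section hL hample (show 2 ≤ n by omega) x (isAffineOpen_top S) trivial
    by_contra! hno
    obtain ⟨U, _, hxU, hU⟩ := AmpleX.mem_locus.1 ha
    exact hcomb (fun z => x ∉ TrivBasic.locus z) (notMem_locus_zero hM x) (fun _ _ => notMem_locus_add hM)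
      (fun _ _ => notMem_locus_smul hM _) hno a (TrivBasic.mem_locus_iff.2 ⟨U, hxU, hU⟩)
  let Z := ULift.{u} ℤ
  obtain ⟨r, hr, τ, hτ⟩ := S3572.result (R := Z) N (specULiftZIsTerminal.from A.left) M hM σ
    (AVAmple.generatedBy_of_locus σ hcov)
  let fst₀ := pullback.fst (CohB1.ProjSpace.toSpec N Z) (specULiftZIsTerminal.from S)
  let snd : CohB1.ProjSpaceOver N S ⟶ S :=
    pullback.snd (CohB1.ProjSpace.toSpec N Z) (specULiftZIsTerminal.from S)
  let i : A.left ⟶ CohB1.ProjSpaceOver N S := pullback.lift r A.hom (specULiftZIsTerminal.hom_ext _ _)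
  have hi1 : i ≫ fst₀ = r := pullback.lift_fst _ _ _
  have hi2 : i ≫ snd = A.hom := pullback.lift_snd _ _ _
  haveI : IsProper (CohB1.ProjSpace.toSpec N Z) := PnCoh.Chow.isProper_toSpec N Z
  haveI : IsProper snd := inferInstanceAs (IsProper (pullback.snd _ _))
  haveI : IsProper i := by
    haveI : IsProper (i ≫ snd) := by rw [hi2]; infer_instance
    exact IsProper.of_comp i snd
  haveI : IsLocallyNoetherian (CohB1.ProjSpaceOver N S) := LocallyOfFiniteType.isLocallyNoetherian snd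
  suffices IsClosedImmersion i from ⟨N, i, inferInstance, hi2,
    ⟨τ.symm ≪≫ (Scheme.Modules.pullbackCongr hi1.symm).app _ ≪≫ ((Scheme.Modules.pullbackComp i fst₀).app _).symm⟩⟩
  refine isClosedImmersion_of_geometric (snd := snd) i fun y => ?_
  let s := snd y
  let Ω := AlgebraicClosure (S.residueField s)
  let a₀ : Spec (CommRingCat.of Ω) ⟶ Spec (S.residueField s) :=
    Spec.map (CommRingCat.ofHom (algebraMap (S.residueField s) Ω))
  let q : Spec (CommRingCat.of Ω) ⟶ S := a₀ ≫ S.fromSpecResidueField s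
  obtain ⟨z₀⟩ : Nonempty (Spec (CommRingCat.of Ω)) := inferInstance
  have hq : q z₀ = s := by
    have : q z₀ ∈ Set.range (S.fromSpecResidueField s) := ⟨a₀ z₀, rfl⟩
    rwa [Scheme.range_fromSpecResidueField] at this
  obtain ⟨y', hy', -⟩ := Scheme.Pullback.exists_preimage_pullback (f := snd) (g := q) y z₀ hq.symm
  let A' := (Over.pullback q).obj A
  obtain ⟨hp, hgi, hamp⟩ := fibre_data hample q
  let π : A'.left ⟶ A.left := pullback.fst A.hom q
  let ζ : A'.left ⟶ Spec (CommRingCat.of Ω) := A'.hom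
  have hpb : IsPullback π ζ A.hom q := IsPullback.of_hasPullback _ _
  letI : A'.left.Over (Spec (CommRingCat.of Ω)) := ⟨ζ⟩
  haveI : IsProper (A'.left ↘ Spec (CommRingCat.of Ω)) := hp
  haveI : IsIntegral A'.left := GeometricallyIntegral.isIntegral_of_subsingleton A'.hom
  let P' : Scheme.{u} := pullback snd q
  let g : A'.left ⟶ P' := pullback.lift (π ≫ i) ζ (by rw [Category.assoc, hi2]; exact hpb.w)
  have hg1 : g ≫ pullback.fst snd q = π ≫ i := pullback.lift_fst _ _ _
  have hg2 : g ≫ pullback.snd snd q = ζ := pullback.lift_snd _ _ _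
  have hsq : IsPullback π g i (pullback.fst snd q) := by
    refine IsPullback.of_bot ?_ hg1.symm (IsPullback.of_hasPullback snd q)
    rw [hi2, hg2]
    exact hpb
  refine ⟨Ω, inferInstance, q, A'.left, g, π, hsq, ?_, y', hy'⟩
  -- separation on the geometric fibre
  let L' := (Scheme.Modules.pullback π).obj L
  let M' := (Scheme.Modules.pullback π).obj M
  obtain ⟨e⟩ := AmpleVan.RelVanish.pullback_tensorPow π L n
  have hco : ∀ {U : A'.left.Opens} {f : Γ(M', U)} (hf : IsFrame f) {x : A'.left} (hx : x ∈ U)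
      (z : Γ(CohB1.tensorPow L' n, ⊤)),
      coord hf hx (M'.presheaf.germ ⊤ x trivial (e.inv.app ⊤ z)) =
        coord (IsFrame.map_iso e hf) hx ((CohB1.tensorPow L' n).presheaf.germ ⊤ x trivial z) := by
    intro U f hf x hx z
    rw [← InvX.germ_res' (le_top : U ≤ ⊤) hx z, ← InvX.germ_res' (le_top : U ≤ ⊤) hx (e.inv.app ⊤ z),
      ← AModX.app_res, VA.res_glCo (IsFrame.map_iso e hf) z, Scheme.Modules.Hom.app_smul,
      show e.inv.app U (e.hom.app U f) = f from congr($(e.hom_inv_id).app U f),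
      QCoh.germ_smul', QCoh.germ_smul', coord_smul_germ, coord_smul_germ]
  haveI : LocallyOfFiniteType (pullback.snd snd q) := inferInstance
  refine CurveVA.isClosedImmersion_of_separation Ω (L := M') (fun {U} {f} hf {a b} ha hb hac hbc hne => ?_)
    (fun {U} {f} hf {a} ha hac N' h1' h2' => ?_) (pullback.snd snd q) g hg2 fun w => ?_
  · obtain ⟨z, hz1, hz2⟩ := VA.exists_separate_pow (A := A') hamp n hn (IsFrame.map_iso e hf) ha hb hac hbc hne
    exact ⟨e.inv.app ⊤ z, by rwa [hco hf ha], by rwa [hco hf hb]⟩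
  · obtain ⟨z, hz1, hz2⟩ := VA.exists_tangent_pow (A := A') hamp n hn (IsFrame.map_iso e hf) ha hac N' h1' h2'
    exact ⟨e.inv.app ⊤ z, by rwa [hco hf ha], by rwa [hco hf ha]⟩
  -- charts
  let p : P' ⟶ CohB1.ProjSpace N Z := pullback.fst snd q ≫ fst₀
  have hgp : g ≫ p = π ≫ r := by rw [← Category.assoc, hg1, Category.assoc, hi1]
  obtain ⟨j, hj⟩ := Opens.mem_iSup.1
    ((AmpleEmbed.iSup_basicOpen_X N Z).ge (trivial : p w ∈ (⊤ : Opens _)))
  let D : (CohB1.ProjSpace N Z).Opens := Proj.basicOpen (CohB1.polyGrading N Z) (MvPolynomial.X j)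
  let U : A.left.Opens := TrivBasic.locus (σ j)
  have hpre : r ⁻¹ᵁ D = U := AmpleEmbed.preimage_chart r τ j (hτ j)
  let V : P'.Opens := p ⁻¹ᵁ D
  have hVU : g ⁻¹ᵁ V = π ⁻¹ᵁ U := by
    show g ⁻¹ᵁ p ⁻¹ᵁ D = _
    rw [← Scheme.Hom.comp_preimage, hgp, Scheme.Hom.comp_preimage, hpre]
  let pl : Γ(M, ⊤) → Γ(M', g ⁻¹ᵁ V) := plSec π M (g ⁻¹ᵁ V)
  let f₀ : Γ(M', g ⁻¹ᵁ V) := pl (σ j)
  have hloc : π ⁻¹ᵁ U = TrivBasic.locus (pullElt π (σ j)) := (TrivBasic.locus_pullElt hM π (σ j)).symm
  have hf₀ : IsFrame f₀ := TrivBasic.isFrame_res_of_le_locus (by rw [hVU, hloc])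
  refine ⟨V, hj, f₀, hf₀, fun z => ?_⟩
  let R : Subring Γ(A'.left, g ⁻¹ᵁ V) := (g.app V).hom.range
  let Good : Γ(M', g ⁻¹ᵁ V) → Prop := fun w => ∃ β ∈ R, w = β • f₀
  suffices hgood : Good (AModX.res M' (le_top : g ⁻¹ᵁ V ≤ ⊤) z) by
    obtain ⟨β, ⟨t, rfl⟩, hβ⟩ := hgood
    exact ⟨t, hβ⟩
  have gadd : ∀ v v', Good v → Good v' → Good (v + v') := by
    rintro _ _ ⟨β, hβ, rfl⟩ ⟨β', hβ', rfl⟩
    exact ⟨β + β', R.add_mem hβ hβ', (add_smul _ _ _).symm⟩
  have gsmul : ∀ c ∈ R, ∀ v, Good v → Good (c • v) := by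
    rintro c hc _ ⟨β, hβ, rfl⟩
    exact ⟨c * β, R.mul_mem hc hβ, (mul_smul _ _ _).symm⟩
  have hconst : ∀ c : Ω, AModX.resR (le_top : g ⁻¹ᵁ V ≤ ⊤) (sc ζ c) ∈ R := fun c => by
    refine ⟨(pullback.snd snd q).appLE ⊤ V le_top ((Scheme.ΓSpecIso (CommRingCat.of Ω)).inv c), ?_⟩
    rw [← Scheme.Hom.appLE_eq_app, ← CommRingCat.comp_apply, Scheme.Hom.appLE_comp_appLE]
    simp only [hg2]
    rfl
  have hbase : ∀ a : Γ(S, ⊤), π.appLE ⊤ (g ⁻¹ᵁ V) le_top (A.hom.appTop a) ∈ R := fun a => by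
    refine ⟨(pullback.fst snd q ≫ snd).appLE ⊤ V le_top a, ?_⟩
    rw [← VA.appLE_top A.hom le_top, ← Scheme.Hom.appLE_eq_app, ← CommRingCat.comp_apply, ← CommRingCat.comp_apply,
      Scheme.Hom.appLE_comp_appLE, Scheme.Hom.appLE_comp_appLE]
    have e' : g ≫ pullback.fst snd q ≫ snd = π ≫ A.hom := by
      rw [← Category.assoc, hg1, Category.assoc, hi2]
    simp only [e']
  have hσ : ∀ k, Good (pl (σ k)) := fun k => by
    have hfr : IsFrame (AModX.res M (le_top : U ≤ ⊤) (σ j)) := TrivBasic.isFrame_res_of_le_locus le_rfl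
    obtain ⟨β, hβ⟩ := hfr.exists_coord le_rfl (AModX.res M (le_top : U ≤ ⊤) (σ k))
    rw [AModX.res_self] at hβ
    obtain ⟨t, ht⟩ : ∃ t : Γ(CohB1.ProjSpace N Z, D), r.appLE D U hpre.ge t = β :=
      ⟨_, AmpleEmbed.ratioOf_eq r τ j k (hτ j) (hτ k) hpre.ge β hβ⟩
    refine ⟨(π.appLE U (g ⁻¹ᵁ V) hVU.le) β, ⟨p.appLE D V le_rfl t, ?_⟩, ?_⟩
    · rw [← ht, ← Scheme.Hom.appLE_eq_app, ← CommRingCat.comp_apply, ← CommRingCat.comp_apply,
        Scheme.Hom.appLE_comp_appLE, Scheme.Hom.appLE_comp_appLE]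
      simp only [hgp]
    · have h' : ∀ w, pl w = AModX.res M' hVU.le (InvX.pullElt π (AModX.res M (le_top : U ≤ ⊤) w)) :=
        plSec_eq π M _ hVU.le
      show pl (σ k) = _ • pl (σ j)
      rw [h', h', hβ, InvX.pullElt_smul, AModX.res_smul]
      rfl
  have hall : ∀ a : Γ(M, ⊤), Good (pl a) := hcomb (fun a => Good (pl a))
    ⟨0, R.zero_mem, (plSec_zero π M _).trans (zero_smul _ _).symm⟩
    (fun a a' ha ha' => by
      show Good (plSec π M (g ⁻¹ᵁ V) (a + a'))
      rw [plSec_add π M (g ⁻¹ᵁ V) a a']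
      exact gadd _ _ ha ha')
    (fun c a ha => by
      show Good (plSec π M (g ⁻¹ᵁ V) (A.hom.appTop c • a))
      rw [plSec_smul π M (g ⁻¹ᵁ V) (A.hom.appTop c) a]
      exact gsmul _ (hbase c) _ ha) hσ
  refine span_fibre A.hom hM h1 (isAffineOpen_top S) q le_top π ζ hpb
    (fun v => Good (AModX.res M' (le_top : g ⁻¹ᵁ V ≤ ⊤) v)) ⟨0, R.zero_mem, by rw [map_zero, zero_smul]⟩
    (fun v v' hv hv' => by simp only [map_add]; exact gadd _ _ hv hv')
    (fun c v hv => by simp only [AModX.res_smul]; exact gsmul _ (hconst c) _ hv) (fun a => ?_) z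
  have he' : AModX.res M' (le_top : g ⁻¹ᵁ V ≤ ⊤) (fibreSec A.hom π ζ q hpb.w M le_top a) = pl a :=
    AModX.res_res _ _ _
  show Good (AModX.res M' (le_top : g ⁻¹ᵁ V ≤ ⊤) (fibreSec A.hom π ζ q hpb.w M le_top a))
  rw [he']
  exact hall a

/-- Transport of embeddings along an isomorphism. -/
theorem isRelVeryAmplePn_of_iso {X X' S' : Scheme.{u}} {f : X ⟶ S'} {f' : X' ⟶ S'} (e : X ⟶ X') [IsIso e]
    (he : e ≫ f' = f) {M : X.Modules} {M' : X'.Modules}
    (ξ : (Scheme.Modules.pullback e).obj M' ≅ M) (h : RelAmple.IsRelVeryAmplePn f' M') :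
    RelAmple.IsRelVeryAmplePn f M := by
  obtain ⟨N, i, hi, hsnd, ⟨d⟩⟩ := h
  exact ⟨N, e ≫ i, inferInstance, by rw [Category.assoc, hsnd, he],
    ⟨ξ.symm ≪≫ (Scheme.Modules.pullback e).mapIso d ≪≫ (Scheme.Modules.pullbackComp e i).app _⟩⟩

/-- The theorem of Lefschetz for abelian schemes. -/
theorem lefschetz [IsLocallyNoetherian S] {L : A.left.Modules} (hL : PicF.IsInvertible L)
    (hample : RelAmple.IsRelAmple A.hom L) {n : ℕ} (hn : 2 ≤ n) :
    Epi ((Scheme.Modules.pullbackPushforwardAdjunction A.hom).counit.app (CohB1.tensorPow L n)) ∧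
      (3 ≤ n → RelProj.IsRelVeryAmple A.hom (CohB1.tensorPow L n)) := by
  have hM := InvX.isInvertible_tensorPow hL n
  refine ⟨AmpleX.epi_counit_of_sections A.hom hM fun x => ?_, fun h3 => ?_⟩
  · obtain ⟨_, ⟨W, hW, rfl⟩, hxW, -⟩ :=
      S.isBasis_affineOpens.exists_subset_of_mem_open (Set.mem_univ (A.hom x)) isOpen_univ
    obtain ⟨a, ha⟩ := exists_section hL hample hn x hW hxW
    exact ⟨W, a, ha⟩
  refine S12481.result A.hom _ hM (fun W : S.affineOpens => W.1) (iSup_affineOpens_eq_top S) fun W => ?_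
  haveI : IsAffine W.1.toScheme := W.2
  let B := (Over.pullback W.1.ι).obj A
  haveI : IsProper B.hom := inferInstanceAs (IsProper (pullback.snd A.hom W.1.ι))
  haveI : Smooth B.hom := inferInstanceAs (Smooth (pullback.snd A.hom W.1.ι))
  haveI : GeometricallyConnected B.hom := inferInstanceAs (GeometricallyConnected (pullback.snd A.hom W.1.ι))
  have hB := isRelVeryAmplePn_of_isAffine (A := B) (L := (Scheme.Modules.pullback (pullback.fst A.hom W.1.ι)).obj L)
    (PicClLib.isInvertible_pullback _ hL) (AmpleX.isRelAmple_baseChange A.hom W.1.ι hample) h3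
  let e := (pullbackRestrictIsoRestrict A.hom W.1).inv
  have he : e ≫ pullback.fst A.hom W.1.ι = (A.hom ⁻¹ᵁ W.1).ι := pullbackRestrictIsoRestrict_inv_fst _ _
  obtain ⟨d⟩ := AmpleVan.RelVanish.pullback_tensorPow (pullback.fst A.hom W.1.ι) L n
  refine isRelVeryAmplePn_of_iso (f' := B.hom) e ?_ ?_ hB
  · rfl
  · exact (Scheme.Modules.pullback e).mapIso d.symm ≪≫ (Scheme.Modules.pullbackComp e _).app _ ≪≫
      (Scheme.Modules.pullbackCongr he).app _ ≪≫
      ((Scheme.Modules.restrictFunctorIsoPullback (A.hom ⁻¹ᵁ W.1).ι).app _).symm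

end Groth.Agent.AVTate.RelLef
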