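import Groth.Agent.AVTate.Pairing
import Groth.Agent.AVTate.PadicRoots
import Groth.Prelude.Def_AbDual

/-!
# The Riemann form of an invertible module on the Tate module
-/

set_option autoImplicit false
set_option linter.style.haveILetI false
set_option linter.unusedSectionVars false
set_option backward.isDefEq.respectTransparency false
set_option backward.isDefEq.respectTransparency.types false
set_option maxHeartbeats 1000000

universe u

open CategoryTheory CategoryTheory.Limits MonoidalCategory CartesianMonoidalCategory MonObj AlgebraicGeometry TopologicalSpace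

noncomputable section

namespace Groth.Agent.AVTate

open Groth.Agent.AVTorsChar Groth.Agent.H23
open scoped Groth.Agent.H23.PicMul

variable {K : Type u} [Field K] [IsAlgClosed K] {A : Over (Spec (CommRingCat.of K))} [GrpObj A]
  [IsCommMonObj A] [IsProper A.hom] [GeometricallyIntegral A.hom]

local notation "Pt" => (𝟙_ (Over (Spec (CommRingCat.of K))))

section Val

variable (A)

/-- The value of a global function, at the origin. -/
def val : Γ(A.left, ⊤) →+* K :=
  (Scheme.ΓSpecIso (CommRingCat.of K)).hom.hom.comp ((1 : Pt ⟶ A).left.appTop).hom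

theorem val_injective : Function.Injective (val A) := by
  intro c d h
  have h1 : (1 : Pt ⟶ A).left.appTop c = (1 : Pt ⟶ A).left.appTop d :=
    (Scheme.ΓSpecIso (CommRingCat.of K)).commRingCatIsoToRingEquiv.injective h
  obtain ⟨r, rfl⟩ := (Rigid.bijective_appTop A.hom).2 c
  obtain ⟨s, rfl⟩ := (Rigid.bijective_appTop A.hom).2 d
  have hr : ∀ t, (1 : Pt ⟶ A).left.appTop (A.hom.appTop t) = t := fun t =>
    ConcreteCategory.congr_hom ((Scheme.Hom.comp_appTop _ _).symm.trans
      (congrArg Scheme.Hom.appTop (Over.w (1 : Pt ⟶ A)))) t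
  rw [hr, hr] at h1
  rw [h1]

end Val

variable {L : A.left.Modules} (hL : PicF.IsInvertible L) {l : ℕ} [hp : Fact l.Prime] (hl : (l : K) ≠ 0)

/-- The components of an element of the Tate module. -/
abbrev cp (m : ℕ) (t : AbDual.TateMod A l (AVTors.pt0 K)) : Pt ⟶ A :=
  (AbDual.TateMod.component A l (AVTors.pt0 K) m t).toMul

theorem cp_pow (m : ℕ) (t : AbDual.TateMod A l (AVTors.pt0 K)) : cp m t ^ l ^ m = 1 :=
  AbDual.TateMod.component_mem t m

theorem cp_succ_pow (m : ℕ) (t : AbDual.TateMod A l (AVTors.pt0 K)) : cp (m + 1) t ^ l = cp m t :=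
  congrArg Additive.toMul (AbDual.TateMod.compat t m)

theorem cp_add (m : ℕ) (t t' : AbDual.TateMod A l (AVTors.pt0 K)) : cp m (t + t') = cp m t * cp m t' := rfl

theorem appr_eq (c : ℤ_[l]) (m : ℕ) : (PadicInt.toZModPow m c).val = c.appr m := by
  show ((c.appr m : ℕ) : ZMod (l ^ m)).val = _
  rw [ZMod.val_natCast, Nat.mod_eq_of_lt (PadicInt.appr_lt c m)]

theorem cp_smul (m : ℕ) (c : ℤ_[l]) (t : AbDual.TateMod A l (AVTors.pt0 K)) :
    cp m (c • t) = cp m t ^ (PadicInt.toZModPow m c).val := by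
  rw [appr_eq]; rfl

/-- A chosen compatible system of primitive roots of unity. -/
def zeta : ℕ → K := (exists_roots l hl).choose

theorem zeta_prim (m : ℕ) : IsPrimitiveRoot (zeta hl m) (l ^ m) := (exists_roots l hl).choose_spec.1 m

theorem zeta_succ (m : ℕ) : zeta hl (m + 1) ^ l = zeta hl m := (exists_roots l hl).choose_spec.2 m

/-- The values of the pairings. -/
def z (t t' : AbDual.TateMod A l (AVTors.pt0 K)) (m : ℕ) : K := val A (e hL (l ^ m) (cp m t) (cp m t'))

theorem z_pow (t t' : AbDual.TateMod A l (AVTors.pt0 K)) (m : ℕ) : z hL t t' m ^ l ^ m = 1 := by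
  rw [z, ← map_pow, e_pow_eq_one hL (cp_pow m t), map_one]

theorem z_succ (t t' : AbDual.TateMod A l (AVTors.pt0 K)) (m : ℕ) : z hL t t' (m + 1) ^ l = z hL t t' m := by
  have h1 : ∀ s : AbDual.TateMod A l (AVTors.pt0 K), cp (m + 1) s ^ (l ^ m * l) = 1 := fun s => by rw [← pow_succ, cp_pow]
  rw [z, z, ← map_pow, pow_succ l m, e_level hL (h1 t) (h1 t'), cp_succ_pow, cp_succ_pow]

/-- The form, as a function. -/
def rf (t t' : AbDual.TateMod A l (AVTors.pt0 K)) : ℤ_[l] :=
  (exists_isLog (zeta_prim hl) (zeta_succ hl) (z_pow hL t t') (z_succ hL t t')).choose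

theorem rf_spec (t t' : AbDual.TateMod A l (AVTors.pt0 K)) : IsLog (zeta hl) (z hL t t') (rf hL hl t t') :=
  (exists_isLog (zeta_prim hl) (zeta_succ hl) (z_pow hL t t') (z_succ hL t t')).choose_spec

theorem rf_skew (t t' : AbDual.TateMod A l (AVTors.pt0 K)) : rf hL hl t t' + rf hL hl t' t = 0 := by
  refine IsLog.unique (zeta_prim hl) (IsLog.add (zeta_prim hl) (rf_spec hL hl t t') (rf_spec hL hl t' t)) ?_
  have h : (fun m => z hL t t' m * z hL t' t m) = fun _ => (1 : K) := funext fun m => by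
    rw [z, z, ← map_mul, e_skew hL (pow_pos hp.out.pos m) (cp_pow m t) (cp_pow m t'), map_one]
  rw [h]
  exact IsLog.zero (zeta_prim hl)

theorem rf_self (t : AbDual.TateMod A l (AVTors.pt0 K)) : rf hL hl t t = 0 := by
  refine IsLog.unique (zeta_prim hl) (rf_spec hL hl t t) ?_
  have h : z hL t t = fun _ => (1 : K) := funext fun m => by
    rw [z, e_self hL (pow_pos hp.out.pos m) (cp_pow m t), map_one]
  rw [h]
  exact IsLog.zero (zeta_prim hl)

theorem rf_add (t₁ t₂ t' : AbDual.TateMod A l (AVTors.pt0 K)) :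
    rf hL hl (t₁ + t₂) t' = rf hL hl t₁ t' + rf hL hl t₂ t' := by
  refine IsLog.unique (zeta_prim hl) (rf_spec hL hl _ _) ?_
  have h : z hL (t₁ + t₂) t' = fun m => z hL t₁ t' m * z hL t₂ t' m := funext fun m => by
    rw [z, cp_add, e_mul_left hL (cp_pow m t₁) (cp_pow m t₂), map_mul]
    rfl
  rw [h]
  exact IsLog.add (zeta_prim hl) (rf_spec hL hl _ _) (rf_spec hL hl _ _)

theorem rf_smul (c : ℤ_[l]) (t t' : AbDual.TateMod A l (AVTors.pt0 K)) :
    rf hL hl (c • t) t' = c * rf hL hl t t' := by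
  refine IsLog.unique (zeta_prim hl) (rf_spec hL hl _ _) ?_
  have h : z hL (c • t) t' = fun m => z hL t t' m ^ (PadicInt.toZModPow m c).val := funext fun m => by
    rw [z, z, cp_smul, ← map_pow, e_pow_left hL (cp_pow m t)]
  rw [h]
  exact IsLog.mul_nat (zeta_prim hl) (rf_spec hL hl _ _) c

/-- The Riemann form. -/
def form : LinearMap.BilinForm ℤ_[l] (AbDual.TateMod A l (AVTors.pt0 K)) :=
  LinearMap.mk₂ ℤ_[l] (rf hL hl) (rf_add hL hl) (fun c t t' => by rw [rf_smul]; rfl)
    (fun t t₁ t₂ => by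
      have h : ∀ s, rf hL hl t s = -rf hL hl s t := fun s => eq_neg_of_add_eq_zero_left (rf_skew hL hl t s)
      rw [h, rf_add, h t₁, h t₂, neg_add])
    (fun c t t' => by
      have h : ∀ s, rf hL hl t s = -rf hL hl s t := fun s => eq_neg_of_add_eq_zero_left (rf_skew hL hl t s)
      rw [h, rf_smul, h t', smul_eq_mul, mul_neg])

theorem form_apply (t t' : AbDual.TateMod A l (AVTors.pt0 K)) : form hL hl t t' = rf hL hl t t' := rfl

theorem form_isAlt : (form hL hl).IsAlt := fun t => rf_self hL hl t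

/-- Vanishing of the form is vanishing of every pairing. -/
theorem form_eq_zero_iff (t t' : AbDual.TateMod A l (AVTors.pt0 K)) :
    form hL hl t t' = 0 ↔ ∀ m, e hL (l ^ m) (cp m t) (cp m t') = 1 := by
  constructor
  · intro h m
    have := rf_spec hL hl t t' m
    rw [← form_apply, h, map_zero, ZMod.val_zero, pow_zero] at this
    exact val_injective A (this.symm.trans (map_one _).symm)
  · intro h
    refine IsLog.unique (zeta_prim hl) (rf_spec hL hl t t') ?_
    have h' : z hL t t' = fun _ => (1 : K) := funext fun m => by rw [z, h m, map_one]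
    rw [h']
    exact IsLog.zero (zeta_prim hl)

/-- Similitudes of the form. -/
theorem form_map (f : A ⟶ A) [IsMonHom f] (q : ℕ) (hf : PicF.pullCl f.left (PicF.cl L) = PicF.cl L ^ q)
    (t t' : AbDual.TateMod A l (AVTors.pt0 K)) :
    form hL hl (AbDual.tateMapₗ (l := l) (T := AVTors.pt0 K) f t) (AbDual.tateMapₗ (l := l) (T := AVTors.pt0 K) f t') =
      (q : ℤ_[l]) * form hL hl t t' := by
  refine IsLog.unique (zeta_prim hl) (rf_spec hL hl _ _) ?_
  have h : ∀ m, z hL (AbDual.tateMapₗ (l := l) (T := AVTors.pt0 K) f t)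
      (AbDual.tateMapₗ (l := l) (T := AVTors.pt0 K) f t') m = z hL t t' m ^ q := fun m => by
    rw [z, z, ← map_pow, ← e_comp hL f q hf (cp_pow m t) (cp_pow m t')]
    rfl
  intro m
  have hq := IsLog.mul_nat (zeta_prim hl) (rf_spec hL hl t t') (q : ℤ_[l]) m
  rw [h]
  refine hq.trans ?_
  show _ ^ _ = _
  rw [map_natCast, ZMod.val_natCast]
  exact (pow_eq_pow_mod _ (z_pow hL t t' m)).symm

omit hl in
include hp in
/-- Every torsion point is a component. -/
theorem exists_cp_eq (m : ℕ) {y : Pt ⟶ A} (hy : y ^ l ^ m = 1) :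
    ∃ t : AbDual.TateMod A l (AVTors.pt0 K), cp m t = y := by
  haveI : Surjective (mulN A l).left := AVMulN.surjective_pow l hp.out.pos
  have hdiv : ∀ x : Pt ⟶ A, ∃ w : Pt ⟶ A, w ^ l = x := fun x => by
    obtain ⟨w, hw⟩ := AVDegenerate.exists_lift_image (mulN A l) x
      (by rw [(mulN A l).left.surjective.range_eq]; exact Set.mem_univ _)
    exact ⟨w, (comp_mulN l w).symm.trans hw⟩
  choose d hd using hdiv
  let up : ℕ → (Pt ⟶ A) := fun j => j.rec y fun _ x => d x
  have hup : ∀ j, up j ^ l ^ j = y := fun j => by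
    induction j with
    | zero => rw [pow_zero, pow_one]; rfl
    | succ j ih => rw [pow_succ', pow_mul]; exact (congrArg (· ^ l ^ j) (hd (up j))).trans ih
  let x : ℕ → (Pt ⟶ A) := fun n => up n ^ l ^ m
  refine ⟨⟨fun n => Additive.ofMul (x n), fun n => ?_, fun n => ?_⟩, ?_⟩
  · show (up n ^ l ^ m) ^ l ^ n = 1
    rw [← pow_mul, mul_comm, pow_mul, hup, hy]
  · show (up (n + 1) ^ l ^ m) ^ l = up n ^ l ^ m
    rw [← pow_mul, mul_comm, pow_mul]
    exact congrArg (· ^ l ^ m) (hd (up n))
  · exact hup m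

/-- The form of a module with finite stabilizer is nondegenerate. -/
theorem form_nondegenerate (hfin : Set.Finite {a : Pt ⟶ A | tcl hL a = 1})
    (hN : ∀ m, IsFinite (mulN A (l ^ m)).left ∧ Etale (mulN A (l ^ m)).left ∧ Surjective (mulN A (l ^ m)).left)
    {t : AbDual.TateMod A l (AVTors.pt0 K)} (h : ∀ t', form hL hl t t' = 0) : t = 0 := by
  have hmem : ∀ m, cp m t ∈ {a : Pt ⟶ A | tcl hL a = 1} := by
    intro m
    obtain ⟨h1, h2, h3⟩ := hN m
    refine tcl_eq_one_of_e hL (cp_pow m t) fun s hs => ?_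
    obtain ⟨t', rfl⟩ := exists_cp_eq m hs
    have h' : e hL (l ^ m) (cp m t) (cp m t') = 1 := (form_eq_zero_iff hL hl t t').1 (h t') m
    have := e_skew hL (pow_pos hp.out.pos m) (cp_pow m t) hs
    rwa [h', _root_.one_mul] at this
  obtain ⟨F, hF⟩ : ∃ F : Finset (Pt ⟶ A), ∀ m, cp m t ∈ F := ⟨hfin.toFinset, fun m => hfin.mem_toFinset.2 (hmem m)⟩
  refine AbDual.TateMod.ext fun i => ?_
  haveI : Finite F := Finite.of_fintype _
  obtain ⟨v, hv⟩ := Finite.exists_infinite_fiber fun m => (⟨cp m t, hF m⟩ : F)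
  have hinf := Set.infinite_coe_iff.1 hv
  obtain ⟨a, ha⟩ := hinf.nonempty
  obtain ⟨b, hb, hab⟩ := hinf.exists_gt (i + a)
  have hpow : ∀ j, cp (i + j) t ^ l ^ j = cp i t := fun j => by
    induction j with
    | zero => rw [pow_zero, pow_one]; rfl
    | succ j ih => rw [pow_succ', pow_mul, ← add_assoc, cp_succ_pow, ih]
  have heq : cp b t = cp a t := congrArg Subtype.val (hb.trans ha.symm)
  show _ = Additive.ofMul (1 : Pt ⟶ A)
  refine congrArg Additive.ofMul (show cp i t = 1 from ?_)
  rw [← hpow (b - i), show i + (b - i) = b by omega, heq, show l ^ (b - i) = l ^ a * l ^ (b - i - a) by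
    rw [← pow_add]; congr 1; omega, pow_mul, cp_pow, one_pow]

end Groth.Agent.AVTate
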