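import Groth.Agent.AVTate.RootPt
import Groth.Prelude.Def_AbDual

/-!
# The root of a torsion invariant class
-/

set_option autoImplicit false
set_option linter.style.haveILetI false
set_option linter.unusedSectionVars false
set_option backward.isDefEq.respectTransparency false
set_option backward.isDefEq.respectTransparency.types false
set_option maxHeartbeats 1000000
set_option synthInstance.maxHeartbeats 400000

universe u

open CategoryTheory CategoryTheory.Limits MonoidalCategory CartesianMonoidalCategory MonObj AlgebraicGeometry TopologicalSpace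

noncomputable section

namespace Groth.Agent.AVTate

open Groth.Agent.H23 Groth.Agent.H23.TrivBasic Groth.Agent.AVPair
open Groth.Agent.AVCube (pc pull_pc val_pc' pc_one cube_rel)
open scoped Groth.Agent.H23.PicMul

attribute [local instance] Functor.monObjObj Functor.grpObjObj

variable {k : Type u} [Field k] {Y : Over (Spec (CommRingCat.of k))} [GrpObj Y] [IsCommMonObj Y] [IsProper Y.hom]
  [GeometricallyIntegral Y.hom] {L : Y.left.Modules} (hL : PicF.IsInvertible L) (n : ℕ)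

/-- From a descended polar class, a root. -/
theorem root_of_desc {β₀ : PicF.Cl (Y ⊗ Y).left} (hβ : PicF.IsInvertibleCl β₀)
    (h1 : pl (lift (1 : Y ⟶ Y) (𝟙 Y)) β₀ = 1) (h2 : pl (lift (𝟙 Y) (1 : Y ⟶ Y)) β₀ = 1)
    (hd : pl (Y ◁ (𝟙 Y ^ n : Y ⟶ Y)) β₀ = polar hL) :
    ∃ M : Y.left.Modules, PicF.IsInvertible M ∧
      PicF.cl M ^ n = PicF.cl L * PicF.pullCl ((𝟙 Y)⁻¹ : Y ⟶ Y).left (PicF.cl L) := by
  obtain ⟨M, hMc, hM⟩ := isInv_pl (lift (𝟙 Y) (𝟙 Y)) hβ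
  refine ⟨M, hM, ?_⟩
  let φ : (Y ⟶ Y) →* PicF.Cl Y.left :=
    { toFun := fun f => pl (lift (𝟙 Y) f) β₀
      map_one' := h2
      map_mul' := fun f g => AVPair.add_right hβ h1 h2 (𝟙 Y) f g }
  have e : φ (𝟙 Y ^ n) = PicF.cl M ^ n := by rw [map_pow, hMc]; rfl
  rw [← e]
  show pl (lift (𝟙 Y) (𝟙 Y ^ n : Y ⟶ Y)) β₀ = _
  rw [show lift (𝟙 Y) (𝟙 Y ^ n : Y ⟶ Y) = lift (𝟙 Y) (𝟙 Y) ≫ Y ◁ (𝟙 Y ^ n : Y ⟶ Y) by
    rw [lift_whiskerLeft, Category.id_comp], ← pl_pl, hd, pl_polar]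
  have hc := cube_rel hL (𝟙 Y) (𝟙 Y) ((𝟙 Y)⁻¹ : Y ⟶ Y)
  rw [mul_inv_cancel, pc_one, _root_.mul_one, _root_.mul_one, mul_inv_cancel_right] at hc
  have hdiv : pc hL (𝟙 Y * 𝟙 Y) / (pc hL (𝟙 Y) * pc hL (𝟙 Y)) = pc hL (𝟙 Y) * pc hL ((𝟙 Y)⁻¹ : Y ⟶ Y) := by
    rw [div_eq_iff_eq_mul, ← hc]
    ac_rfl
  rw [hdiv, Units.val_mul, val_pc', val_pc', Over.id_left, PicClLib.pullCl_id]

variable (hn : 0 < n) (hnk : (n : k) ≠ 0) (Ω : Type u) [Field Ω] [Algebra k Ω] [IsAlgClosed Ω]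

/-- The polar class on the cover. -/
def polarU : PicF.Cl (PicF.XT Y.hom (AbDual.ovr Y (𝟙 Y ^ n : Y ⟶ Y).left)) :=
  PicF.pullCl (PicF.XTmap Y.hom (Over.homMk (𝟙 Y.left) (by
    show 𝟙 _ ≫ Y.hom = (𝟙 Y ^ n : Y ⟶ Y).left ≫ Y.hom
    rw [Category.id_comp, Over.w]) : AbDual.ovr Y (𝟙 Y ^ n : Y ⟶ Y).left ⟶ Y)) (polar hL)

include hn hnk in
/-- The glueing condition for the descent. -/
theorem glue
    (hinv : ∀ y : AVTors.pt0 Ω ⟶ (Over.pullback (AVTors.vΩ (k := k) Ω)).obj Y, y ^ n = 1 →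
      pc (L := LΩ Ω L) (PicClLib.isInvertible_pullback _ hL) (𝟙 _ * (toUnit _ ≫ y)) =
        pc (L := LΩ Ω L) (PicClLib.isInvertible_pullback _ hL) (𝟙 ((Over.pullback (AVTors.vΩ (k := k) Ω)).obj Y)))
    {W : Over (Spec (CommRingCat.of k))} (a b : W ⟶ Y) (hab : a ^ n = b ^ n) :
    pl (Y ◁ a) (polar hL) = pl (Y ◁ b) (polar hL) := by
  have e : ∀ c : W ⟶ Y, Y ◁ c = lift (fst Y W) (snd Y W ≫ c) := fun c =>
    CartesianMonoidalCategory.hom_ext _ _ (by simp) (by simp)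
  rw [e a, e b]
  refine pl_polar_eq_of_pow_eq hL n hn hnk Ω hinv _ _ _ ?_
  rw [← MonObj.comp_pow, hab, MonObj.comp_pow]

end Groth.Agent.AVTate
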