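import Groth.Agent.AVTate.Root
import Groth.Agent.S12403

/-!
# Existence of the root
-/

set_option autoImplicit false
set_option linter.style.haveILetI false
set_option linter.unusedSectionVars false
set_option backward.isDefEq.respectTransparency false
set_option backward.isDefEq.respectTransparency.types false
set_option maxHeartbeats 1000000
set_option synthInstance.maxHeartbeats 400000

universe u

open CategoryTheory CategoryTheory.Limits MonoidalCategory CartesianMonoidalCategory MonObj AlgebraicGeometry TopologicalSpace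

noncomputable section

namespace Groth.Agent.AVTate

open Groth.Agent.H23 Groth.Agent.H23.TrivBasic Groth.Agent.AVPair
open Groth.Agent.AVCube (pc)
open scoped Groth.Agent.H23.PicMul

attribute [local instance] Functor.monObjObj Functor.grpObjObj

variable {k : Type u} [Field k] {Y : Over (Spec (CommRingCat.of k))} [GrpObj Y] [IsCommMonObj Y] [IsProper Y.hom]
  [GeometricallyIntegral Y.hom] {L : Y.left.Modules} (hL : PicF.IsInvertible L) (n : ℕ)
  (hn : 0 < n) (hnk : (n : k) ≠ 0) (Ω : Type u) [Field Ω] [Algebra k Ω] [IsAlgClosed Ω]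

/-- Composites from the glueing, as maps to `Y`. -/
theorem pow_eq_of_left {W : Over (Spec (CommRingCat.of k))} (f g : W ⟶ Y)
    (h : f.left ≫ (𝟙 Y ^ n : Y ⟶ Y).left = g.left ≫ (𝟙 Y ^ n : Y ⟶ Y).left) : f ^ n = g ^ n := by
  have e : ∀ f : W ⟶ Y, f ≫ 𝟙 Y ^ n = f ^ n := fun f => by rw [MonObj.comp_pow, Category.comp_id]
  rw [← e, ← e]
  exact Over.OverMorphism.ext h

include hn hnk in
/-- **The root.** A class invariant under geometric `n`-torsion has a `c·[-1]^*c` that is an `n`-th power. -/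
theorem exists_root
    (hinv : ∀ y : AVTors.pt0 Ω ⟶ (Over.pullback (AVTors.vΩ (k := k) Ω)).obj Y, y ^ n = 1 →
      pc (L := LΩ Ω L) (PicClLib.isInvertible_pullback _ hL) (𝟙 _ * (toUnit _ ≫ y)) =
        pc (L := LΩ Ω L) (PicClLib.isInvertible_pullback _ hL) (𝟙 ((Over.pullback (AVTors.vΩ (k := k) Ω)).obj Y))) :
    ∃ M : Y.left.Modules, PicF.IsInvertible M ∧
      PicF.cl M ^ n = PicF.cl L * PicF.pullCl ((𝟙 Y)⁻¹ : Y ⟶ Y).left (PicF.cl L) := by
  let u := (𝟙 Y ^ n : Y ⟶ Y).left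
  haveI : Etale u := etale_mulN n hnk
  haveI : Surjective u := AVMulN.surjective_pow n hn
  let σ : Spec (CommRingCat.of k) ⟶ Y.left := (1 : 𝟙_ (Over (Spec (CommRingCat.of k))) ⟶ Y).left
  have hσ : σ ≫ Y.hom = 𝟙 _ := Over.w (1 : 𝟙_ (Over (Spec (CommRingCat.of k))) ⟶ Y)
  have ha : ∀ (T : Over (Spec (CommRingCat.of k))) (U : T.left.Opens), IsIso ((PicF.XTproj Y.hom T).app U) :=
    fun T U => (ConcreteCategory.isIso_iff_bijective _).2 (AVSeesaw.bijective_app Y T U)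
  have hsec : ∀ T : Over (Spec (CommRingCat.of k)), PicF.secT Y.hom σ hσ T = (lift (1 : T ⟶ Y) (𝟙 T)).left := by
    intro T
    refine pullback.hom_ext ?_ ?_
    · rw [PicF.secT, pullback.lift_fst]
      show _ = (lift (1 : T ⟶ Y) (𝟙 T)).left ≫ (fst Y T).left
      rw [← Over.comp_left, lift_fst, show (1 : T ⟶ Y) = toUnit T ≫ (1 : 𝟙_ _ ⟶ Y) by rw [MonObj.comp_one],
        Over.comp_left]
      rfl
    · rw [PicF.secT, pullback.lift_snd]
      show _ = (lift (1 : T ⟶ Y) (𝟙 T)).left ≫ (snd Y T).left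
      rw [← Over.comp_left, lift_snd, Over.id_left]
  let U := AbDual.ovr Y u
  let κ : U ⟶ Y := Over.homMk (𝟙 Y.left) (by
    show 𝟙 _ ≫ Y.hom = u ≫ Y.hom
    rw [Category.id_comp, Over.w])
  have hc' : PicF.IsInvertibleCl (polarU hL n) := isInv_pl (Y ◁ κ) (isInvertibleCl_polar hL)
  have hc'' : PicF.IsTrivialCl (PicF.pullCl (PicF.secT Y.hom σ hσ U) (polarU hL n)) := by
    show _ = (1 : PicF.Cl U.left)
    rw [hsec]
    show pl (lift (1 : U ⟶ Y) (𝟙 U)) (pl (Y ◁ κ) (polar hL)) = 1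
    rw [pl_pl, show lift (1 : U ⟶ Y) (𝟙 U) ≫ Y ◁ κ = κ ≫ lift (1 : Y ⟶ Y) (𝟙 Y) by
      rw [lift_whiskerLeft, comp_lift, MonObj.comp_one, Category.id_comp, Category.comp_id],
      ← pl_pl, polar_axis_left, map_one]
  obtain ⟨c, hc, -⟩ := S12403.result Y.hom σ hσ ha Y u ⟨polarU hL n, hc', hc''⟩ (by
    show pl (Y ◁ AbDual.ovrHom U (pullback.fst u u)) (pl (Y ◁ κ) (polar hL)) =
      pl (Y ◁ (Over.homMk (pullback.snd u u) (pullback.condition_assoc Y.hom).symm :
        AbDual.ovr U (pullback.fst u u) ⟶ U)) (pl (Y ◁ κ) (polar hL))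
    rw [pl_pl, pl_pl, ← MonoidalCategory.whiskerLeft_comp, ← MonoidalCategory.whiskerLeft_comp]
    refine glue hL n hn hnk Ω hinv _ _ (pow_eq_of_left n _ _ ?_)
    show (pullback.fst u u ≫ 𝟙 _) ≫ u = (pullback.snd u u ≫ 𝟙 _) ≫ u
    rw [Category.comp_id, Category.comp_id, pullback.condition])
  let ν : Y ⟶ U := Over.homMk (𝟙 Y.left) (by
    show 𝟙 _ ≫ u ≫ Y.hom = Y.hom
    rw [Category.id_comp, Over.w])
  have hd : pl (Y ◁ (𝟙 Y ^ n : Y ⟶ Y)) c.1 = polar hL := by
    have h : pl (Y ◁ AbDual.ovrHom Y u) c.1 = pl (Y ◁ κ) (polar hL) := hc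
    have h' := congrArg (pl (Y ◁ ν)) h
    rw [pl_pl, pl_pl, ← MonoidalCategory.whiskerLeft_comp, ← MonoidalCategory.whiskerLeft_comp,
      show ν ≫ κ = 𝟙 Y from Over.OverMorphism.ext (Category.id_comp _), MonoidalCategory.whiskerLeft_id, pl_id,
      show ν ≫ AbDual.ovrHom Y u = 𝟙 Y ^ n from Over.OverMorphism.ext (Category.id_comp _)] at h'
    exact h'
  have h1 : pl (lift (1 : Y ⟶ Y) (𝟙 Y)) c.1 = 1 := by
    have h : PicF.pullCl (PicF.secT Y.hom σ hσ Y) c.1 = 1 := c.2.2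
    exact (congrArg (fun p => PicF.pullCl p c.1) (hsec Y)).symm.trans h
  refine root_of_desc hL n c.2.1 h1 ?_ hd
  haveI : IsMonHom (𝟙 Y ^ n : Y ⟶ Y) := AVDegLib.isMonHom_pow n
  have h := congrArg (pl (lift (𝟙 Y) (1 : Y ⟶ Y))) hd
  rwa [pl_pl, lift_whiskerLeft, MonObj.one_comp, polar_axis_right] at h

end Groth.Agent.AVTate
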