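import Groth.Agent.Lib.AVPair
import Groth.Agent.Lib.AVMulN
import Groth.Agent.AVTors.TatePt
import Groth.Agent.AVTors.GalSub
import Groth.Agent.H23.MulEtale
import Groth.Agent.S8193

/-!
# The polar class and its restriction to the torsion kernel
-/

set_option autoImplicit false
set_option linter.style.haveILetI false
set_option linter.unusedSectionVars false
set_option backward.isDefEq.respectTransparency false
set_option backward.isDefEq.respectTransparency.types false
set_option maxHeartbeats 1000000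
set_option synthInstance.maxHeartbeats 400000

universe u

open CategoryTheory CategoryTheory.Limits MonoidalCategory CartesianMonoidalCategory MonObj AlgebraicGeometry TopologicalSpace

noncomputable section

namespace Groth.Agent.AVTate

open Groth.Agent.H23 Groth.Agent.H23.TrivBasic Groth.Agent.AVPair
open Groth.Agent.AVCube (pc pull_pc val_pc' pc_one)
open scoped Groth.Agent.H23.PicMul

attribute [local instance] Functor.monObjObj Functor.grpObjObj

variable {k : Type u} [Field k] {Y : Over (Spec (CommRingCat.of k))} [GrpObj Y] [IsProper Y.hom]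
  [GeometricallyIntegral Y.hom] {L : Y.left.Modules} (hL : PicF.IsInvertible L)

/-- The polar class `m^*L - p^*L - q^*L`. -/
def polar : PicF.Cl (Y ⊗ Y).left :=
  (pc hL (fst Y Y * snd Y Y) / (pc hL (fst Y Y) * pc hL (snd Y Y)) : (PicF.Cl (Y ⊗ Y).left)ˣ)

theorem pl_polar {T : Over (Spec (CommRingCat.of k))} (f g : T ⟶ Y) :
    pl (lift f g) (polar hL) = (pc hL (f * g) / (pc hL f * pc hL g) : (PicF.Cl T.left)ˣ) := by
  have h := congrArg Units.val (map_div (Units.map (PicMul.pullHom (lift f g).left : PicF.Cl (Y ⊗ Y).left →* PicF.Cl T.left))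
    (pc hL (fst Y Y * snd Y Y)) (pc hL (fst Y Y) * pc hL (snd Y Y)))
  refine h.trans ?_
  rw [map_mul, pull_pc, pull_pc, pull_pc, MonObj.comp_mul, lift_fst, lift_snd]

theorem isInvertibleCl_polar : PicF.IsInvertibleCl (polar hL) := by
  have hi : ∀ {T : Over (Spec (CommRingCat.of k))} (f : T ⟶ Y), PicF.IsInvertibleCl (pc hL f : PicF.Cl T.left) :=
    fun f => PicClLib.isInvertibleCl_pullCl _ ⟨L, rfl, hL⟩
  obtain ⟨d, hd, hcd⟩ := exists_inv (PicMul.isInvertibleCl_mul (hi (fst Y Y)) (hi (snd Y Y)))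
  have e : polar hL = (pc hL (fst Y Y * snd Y Y) : PicF.Cl _) * d := by
    show Units.val (pc hL (fst Y Y * snd Y Y) / (pc hL (fst Y Y) * pc hL (snd Y Y))) = _
    rw [div_eq_mul_inv, Units.val_mul]
    refine congrArg _ (Units.inv_eq_of_mul_eq_one_right (u := pc hL (fst Y Y) * pc hL (snd Y Y)) ?_)
    rwa [Units.val_mul]
  exact e ▸ PicMul.isInvertibleCl_mul (hi _) hd

theorem polar_axis_left : pl (lift (1 : Y ⟶ Y) (𝟙 Y)) (polar hL) = 1 := by
  rw [pl_polar, _root_.one_mul, pc_one, _root_.one_mul, div_self', Units.val_one]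

theorem polar_axis_right : pl (lift (𝟙 Y) (1 : Y ⟶ Y)) (polar hL) = 1 := by
  rw [pl_polar, _root_.mul_one, pc_one, _root_.mul_one, div_self', Units.val_one]

variable (n : ℕ)

/-- The kernel of multiplication by `n`. -/
def torsK (Y : Over (Spec (CommRingCat.of k))) [GrpObj Y] (n : ℕ) : Over (Spec (CommRingCat.of k)) :=
  Over.mk (pullback.snd (𝟙 Y ^ n : Y ⟶ Y).left (1 : 𝟙_ (Over (Spec (CommRingCat.of k))) ⟶ Y).left)

/-- Its inclusion. -/
def torsι (Y : Over (Spec (CommRingCat.of k))) [GrpObj Y] (n : ℕ) : torsK Y n ⟶ Y :=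
  Over.homMk (pullback.fst _ _) (by
    refine Eq.trans (congrArg (pullback.fst _ _ ≫ ·) (Over.w (𝟙 Y ^ n : Y ⟶ Y)).symm) ?_
    refine (Category.assoc _ _ _).symm.trans ?_
    rw [pullback.condition]
    exact (Category.assoc _ _ _).trans ((congrArg (pullback.snd _ _ ≫ ·)
      (Over.w (1 : 𝟙_ (Over (Spec (CommRingCat.of k))) ⟶ Y))).trans (Category.comp_id _)))

theorem torsι_pow : torsι Y n ^ n = 1 := by
  have h : torsι Y n ≫ 𝟙 Y ^ n = torsι Y n ^ n := by rw [MonObj.comp_pow, Category.comp_id]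
  rw [← h]
  refine Over.OverMorphism.ext (Eq.trans pullback.condition ?_)
  rw [show (1 : torsK Y n ⟶ Y) = toUnit _ ≫ (1 : 𝟙_ (Over (Spec (CommRingCat.of k))) ⟶ Y) by rw [MonObj.comp_one],
    Over.comp_left]
  rfl

theorem exists_fac_torsι {T : Over (Spec (CommRingCat.of k))} {δ : T ⟶ Y} (hδ : δ ^ n = 1) :
    ∃ δ' : T ⟶ torsK Y n, δ' ≫ torsι Y n = δ := by
  have h : δ.left ≫ (𝟙 Y ^ n : Y ⟶ Y).left = T.hom ≫ (1 : 𝟙_ (Over (Spec (CommRingCat.of k))) ⟶ Y).left := by
    rw [← Over.comp_left, MonObj.comp_pow, Category.comp_id, hδ,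
      show (1 : T ⟶ Y) = toUnit T ≫ (1 : 𝟙_ (Over (Spec (CommRingCat.of k))) ⟶ Y) by rw [MonObj.comp_one],
      Over.comp_left]
    rfl
  exact ⟨Over.homMk (pullback.lift δ.left T.hom h) (pullback.lift_snd _ _ _),
    Over.OverMorphism.ext (pullback.lift_fst _ _ _)⟩

variable [IsCommMonObj Y] (hn : 0 < n) (hnk : (n : k) ≠ 0)

include hnk in
theorem etale_mulN : Etale (𝟙 Y ^ n : Y ⟶ Y).left := by
  haveI : GeometricallyConnected Y.hom := H23.CubeAb.geometricallyConnected_of_integral Y.hom
  refine H23.MulEtale.etale_pow n ?_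
  have h := (isUnit_iff_ne_zero.2 hnk).map (Scheme.ΓSpecIso (CommRingCat.of k)).inv.hom
  rwa [map_natCast] at h

include hn in
theorem isFinite_torsK : IsFinite (torsK Y n).hom := by
  haveI : IsFinite (𝟙 Y ^ n : Y ⟶ Y).left := AVMulN.isFinite_pow n hn
  exact MorphismProperty.pullback_snd (P := @IsFinite) _ _ inferInstance

include hn hnk in
theorem isReduced_torsK : IsReduced (torsK Y n).left := by
  haveI := etale_mulN (Y := Y) n hnk
  haveI : IsFinite (𝟙 Y ^ n : Y ⟶ Y).left := AVMulN.isFinite_pow n hn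
  haveI : Surjective (𝟙 Y ^ n : Y ⟶ Y).left := AVMulN.surjective_pow n hn
  let f := pullback.snd (𝟙 Y ^ n : Y ⟶ Y).left (1 : 𝟙_ (Over (Spec (CommRingCat.of k))) ⟶ Y).left
  haveI : IsFinite f := MorphismProperty.pullback_snd (P := @IsFinite) _ _ inferInstance
  haveI : Etale f := MorphismProperty.pullback_snd (P := @Etale) _ _ inferInstance
  haveI : Surjective f := MorphismProperty.pullback_snd (P := @Surjective) _ _ inferInstance
  haveI : ConnectedSpace ↥(Spec (CommRingCat.of k)) := inferInstanceAs (ConnectedSpace (PrimeSpectrum k))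
  haveI : ConnectedSpace ↥(𝟙_ (Over (Spec (CommRingCat.of k)))).left := inferInstanceAs (ConnectedSpace ↥(Spec (CommRingCat.of k)))
  haveI : IsReduced (𝟙_ (Over (Spec (CommRingCat.of k)))).left := inferInstanceAs (IsReduced (Spec (CommRingCat.of k)))
  exact S8193.result f

variable (Ω : Type u) [Field Ω] [Algebra k Ω] [IsAlgClosed Ω]

local notation "F" => Over.pullback (AVTors.vΩ (k := k) Ω)

/-- Projection of the base change, as a map over `k`. -/
def prX (Y : Over (Spec (CommRingCat.of k))) : (Over.map (AVTors.vΩ (k := k) Ω)).obj ((F).obj Y) ⟶ Y :=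
  (Over.mapPullbackAdj (AVTors.vΩ (k := k) Ω)).counit.app Y

/-- The module on the base change. -/
abbrev LΩ (L : Y.left.Modules) : ((F).obj Y).left.Modules :=
  (Scheme.Modules.pullback (prX Ω Y).left).obj L

include hn hnk in
/-- The polar class dies on `Y × Y[n]` when `L` is invariant under geometric `n`-torsion translations. -/
theorem pl_polar_torsι
    (hinv : ∀ y : AVTors.pt0 Ω ⟶ (F).obj Y, y ^ n = 1 →
      pc (L := LΩ Ω L) (PicClLib.isInvertible_pullback _ hL) (𝟙 ((F).obj Y) * (toUnit _ ≫ y)) =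
        pc (L := LΩ Ω L) (PicClLib.isInvertible_pullback _ hL) (𝟙 ((F).obj Y))) :
    pl (Y ◁ torsι Y n) (polar hL) = 1 := by
  haveI := isFinite_torsK (Y := Y) n hn
  haveI := isReduced_torsK (Y := Y) n hn hnk
  obtain ⟨M, hMc, hM⟩ := isInv_pl (Y ◁ torsι Y n) (isInvertibleCl_polar hL)
  rw [← hMc]
  refine (PicGrp.cl_eq_cl_iff _ _).2 (AVSeesaw.triv_of_slices Y (torsK Y n) M hM (fun z _ => ?_) (1 : torsK Y n ⟶ Y) ?_)
  · refine (SeesawGlobal.fieldTriv_iff_residueField z).1 ?_
    obtain ⟨x, hx⟩ := AVTors.GalSub.exists_pt (Ω := Ω) z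
    let y := x ≫ torsι Y n
    have hy : y ^ n = 1 := by
      show (x ≫ torsι Y n) ^ n = 1
      rw [← MonObj.comp_pow, torsι_pow, MonObj.comp_one]
    have key : pl (Y ◁ y) (polar hL) = 1 := by
      let S := SGA7.pt (K := k) Ω
      haveI : Subsingleton ↥S.left := inferInstanceAs (Subsingleton (PrimeSpectrum Ω))
      haveI : Nonempty ↥S.left := inferInstanceAs (Nonempty (PrimeSpectrum Ω))
      have hconst : pc hL (snd Y S ≫ y) = 1 := by
        have h0 : pc hL y = 1 := Units.ext (KLBasic.trivial_of_subsingleton (PicClLib.isInvertible_pullback y.left hL))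
        rw [← pull_pc, h0, map_one]
      let y' := AVTors.ePts Ω Y y
      have hy' : y' ^ n = 1 := by rw [← map_pow, hy, map_one]
      have h := congrArg Units.val (hinv y' hy')
      rw [val_pc', val_pc', Over.id_left, PicClLib.pullCl_id] at h
      change PicF.pullCl _ (PicF.pullCl (prX Ω Y).left (PicF.cl L)) = PicF.pullCl (prX Ω Y).left (PicF.cl L) at h
      rw [PicClLib.pullCl_comp] at h
      have e1 : (𝟙 ((F).obj Y) * (toUnit _ ≫ y')).left ≫ (prX Ω Y).left = (fst Y S * (snd Y S ≫ y)).left := by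
        let eq := AVTors.bcPts (AVTors.vΩ (k := k) Ω) ((F).obj Y) Y
        have h1 : eq (prX Ω Y) = 𝟙 _ := by
          show (Over.mapPullbackAdj (AVTors.vΩ (k := k) Ω)).homEquiv _ _
            ((Over.mapPullbackAdj (AVTors.vΩ (k := k) Ω)).counit.app Y) = _
          rw [Adjunction.homEquiv_unit]
          exact Adjunction.right_triangle_components _ Y
        let cst : (Over.map (AVTors.vΩ (k := k) Ω)).obj ((F).obj Y) ⟶ Y :=
          (Over.map (AVTors.vΩ (k := k) Ω)).map (toUnit ((F).obj Y)) ≫ (AVTors.ioPt (k := k) Ω).hom ≫ y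
        have h2 : eq cst = toUnit _ ≫ y' := (Over.mapPullbackAdj _).homEquiv_naturality_left _ _
        have h3 : (Over.map (AVTors.vΩ (k := k) Ω)).map (𝟙 ((F).obj Y) * (toUnit _ ≫ y')) ≫ prX Ω Y = prX Ω Y * cst := by
          apply eq.injective
          rw [map_mul, h1, h2]
          refine ((Over.mapPullbackAdj _).homEquiv_naturality_left _ _).trans ?_
          rw [show (Over.mapPullbackAdj (AVTors.vΩ (k := k) Ω)).homEquiv _ _ (prX Ω Y) = 𝟙 _ from h1, Category.comp_id]
        let jj : (Over.map (AVTors.vΩ (k := k) Ω)).obj ((F).obj Y) ⟶ Y ⊗ S :=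
          Over.homMk (𝟙 (pullback Y.hom (AVTors.vΩ (k := k) Ω))) (by
            show 𝟙 _ ≫ (Y ⊗ S).hom = pullback.snd _ _ ≫ AVTors.vΩ (k := k) Ω
            rw [Category.id_comp, ← Over.w (snd Y S)]
            rfl)
        have hj1 : jj ≫ fst Y S = prX Ω Y := Over.OverMorphism.ext (Category.id_comp _)
        have hj2 : jj ≫ snd Y S ≫ y = cst := by
          refine Over.OverMorphism.ext ?_
          show 𝟙 _ ≫ (snd Y S).left ≫ y.left = (toUnit ((F).obj Y)).left ≫ 𝟙 _ ≫ y.left
          rw [Category.id_comp, Category.id_comp]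
          rfl
        have h4 := congrArg Over.Hom.left h3
        rw [Over.comp_left] at h4
        refine h4.trans ?_
        rw [← hj1, ← hj2, ← MonObj.comp_mul, Over.comp_left]
        exact Category.id_comp _
      rw [e1] at h
      rw [show Y ◁ y = lift (fst Y S) (snd Y S ≫ y) from CartesianMonoidalCategory.hom_ext _ _ ((whiskerLeft_fst _ _).trans (lift_fst _ _).symm) ((whiskerLeft_snd _ _).trans (lift_snd _ _).symm),
        pl_polar, hconst, _root_.mul_one, Units.val_eq_one, div_eq_one]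
      exact Units.ext h
    have hw := fieldTriv_of_whisker Y M hM x ((triv_iff _).2 (by
      rw [hMc, pl_pl, ← MonoidalCategory.whiskerLeft_comp]; exact key)) (K := Ω) (𝟙 _)
    rw [Category.id_comp] at hw
    exact (hx : x.left (AVTors.GalSub.cp Ω) = z) ▸ hw
  · refine (triv_iff _).2 ?_
    rw [hMc, pl_pl, show lift (1 : torsK Y n ⟶ Y) (𝟙 _) ≫ Y ◁ torsι Y n =
      torsι Y n ≫ lift (1 : Y ⟶ Y) (𝟙 Y) by
        rw [lift_whiskerLeft, comp_lift, MonObj.comp_one, Category.id_comp, Category.comp_id],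
      ← pl_pl, polar_axis_left, map_one]

include hn hnk in
/-- The polar class does not see `n`-torsion in its second variable. -/
theorem pl_polar_eq_of_pow_eq
    (hinv : ∀ y : AVTors.pt0 Ω ⟶ (F).obj Y, y ^ n = 1 →
      pc (L := LΩ Ω L) (PicClLib.isInvertible_pullback _ hL) (𝟙 ((F).obj Y) * (toUnit _ ≫ y)) =
        pc (L := LΩ Ω L) (PicClLib.isInvertible_pullback _ hL) (𝟙 ((F).obj Y)))
    {T : Over (Spec (CommRingCat.of k))} (f a b : T ⟶ Y) (hab : a ^ n = b ^ n) :
    pl (lift f a) (polar hL) = pl (lift f b) (polar hL) := by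
  haveI : LocallyOfFiniteType Y.hom := inferInstance
  obtain ⟨d, hd⟩ := exists_fac_torsι n (δ := a / b) (by rw [div_pow, hab, div_self'])
  have h : pl (lift f (a / b)) (polar hL) = 1 := by
    rw [show lift f (a / b) = lift f d ≫ Y ◁ torsι Y n by rw [lift_whiskerLeft, hd], ← pl_pl,
      pl_polar_torsι hL n hn hnk Ω hinv, map_one]
  conv_lhs => rw [← div_mul_cancel a b, AVPair.add_right (isInvertibleCl_polar hL) (polar_axis_left hL)
    (polar_axis_right hL), h, _root_.one_mul]

end Groth.Agent.AVTate
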