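import Groth.Agent.Lib.AmpleEmbed
import Groth.Agent.Lib.AVAmple
import Groth.Agent.SepPtTan.Coord
import Groth.Agent.Lib.PnChart

/-!
Values of sections along morphisms from a one-point scheme, up to a common factor.
-/

noncomputable section

set_option linter.style.haveILetI false
set_option linter.unusedSectionVars false
set_option backward.isDefEq.respectTransparency false
set_option backward.isDefEq.respectTransparency.types false
set_option maxHeartbeats 800000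

universe u

open CategoryTheory CategoryTheory.Limits AlgebraicGeometry TopologicalSpace Opposite

namespace Groth.Agent.AVTate.VA

open Groth.Agent Groth.Agent.InvX Groth.Agent.H23 Groth.Agent.H23.TrivBasic

variable {X : Scheme.{u}} {L : X.Modules}

/-- The coordinate of a global section in a frame. -/
def glCo {U : X.Opens} {e : Γ(L, U)} (he : IsFrame e) (z : Γ(L, ⊤)) : Γ(X, U) :=
  (he.exists_coord le_rfl (AModX.res L (le_top : U ≤ ⊤) z)).choose

theorem res_glCo {U : X.Opens} {e : Γ(L, U)} (he : IsFrame e) (z : Γ(L, ⊤)) :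
    AModX.res L (le_top : U ≤ ⊤) z = glCo he z • e := by
  have h := (he.exists_coord le_rfl (AModX.res L (le_top : U ≤ ⊤) z)).choose_spec
  refine h.trans ?_
  exact congrArg (glCo he z • ·) (AModX.res_self e)

theorem glCo_eq {U : X.Opens} {e : Γ(L, U)} (he : IsFrame e) {z : Γ(L, ⊤)} {b : Γ(X, U)}
    (h : AModX.res L (le_top : U ≤ ⊤) z = b • e) : glCo he z = b :=
  he.coord_unique le_rfl (by rw [AModX.res_self, ← res_glCo he z, h])

theorem glCo_res {U W : X.Opens} {e : Γ(L, U)} (he : IsFrame e) (hW : W ≤ U) (z : Γ(L, ⊤)) :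
    glCo (he.res hW) z = AModX.resR hW (glCo he z) := by
  refine glCo_eq (he.res hW) ?_
  rw [← AModX.res_smul, ← res_glCo, AModX.res_res]

theorem glCo_add {U : X.Opens} {e : Γ(L, U)} (he : IsFrame e) (z z' : Γ(L, ⊤)) :
    glCo he (z + z') = glCo he z + glCo he z' := by
  refine glCo_eq he ?_
  rw [map_add, res_glCo he z, res_glCo he z', add_smul]

theorem glCo_smul {U : X.Opens} {e : Γ(L, U)} (he : IsFrame e) (c : Γ(X, ⊤)) (z : Γ(L, ⊤)) :
    glCo he (c • z) = AModX.resR (le_top : U ≤ ⊤) c * glCo he z := by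
  refine glCo_eq he ?_
  rw [AModX.res_smul, res_glCo he z, mul_smul]

/-- The locus of a section meets a framed open in the basic open of its coordinate. -/
theorem locus_inf_eq {U : X.Opens} {e : Γ(L, U)} (he : IsFrame e) (z : Γ(L, ⊤)) :
    locus z ⊓ U = X.basicOpen (glCo he z) :=
  locus_eq_basicOpen he (res_glCo he z)

variable {T : Scheme.{u}}

/-- The value of a section along a morphism. -/
def val (u : T ⟶ X) {U : X.Opens} (hu : ⊤ ≤ u ⁻¹ᵁ U) {e : Γ(L, U)} (he : IsFrame e) (z : Γ(L, ⊤)) : Γ(T, ⊤) :=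
  u.appLE U ⊤ hu (glCo he z)

theorem val_res (u : T ⟶ X) {U W : X.Opens} (hW : W ≤ U) (hw : ⊤ ≤ u ⁻¹ᵁ W) {e : Γ(L, U)} (he : IsFrame e)
    (z : Γ(L, ⊤)) : val u (hw.trans (u.preimage_mono hW)) he z = val u hw (he.res hW) z := by
  show _ = u.appLE W ⊤ hw (glCo (he.res hW) z)
  rw [glCo_res]
  show _ = (X.presheaf.map (homOfLE hW).op ≫ u.appLE W ⊤ hw) (glCo he z)
  rw [Scheme.Hom.map_appLE]
  rfl

theorem val_self (u : T ⟶ X) {U : X.Opens} (hu : ⊤ ≤ u ⁻¹ᵁ U) {s : Γ(L, ⊤)}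
    (he : IsFrame (AModX.res L (le_top : U ≤ ⊤) s)) : val u hu he s = 1 := by
  show u.appLE U ⊤ hu _ = 1
  rw [glCo_eq he (b := 1) (one_smul _ _).symm, map_one]

theorem val_change (u : T ⟶ X) {U U' : X.Opens} (hu : ⊤ ≤ u ⁻¹ᵁ U) (hu' : ⊤ ≤ u ⁻¹ᵁ U')
    {e : Γ(L, U)} (he : IsFrame e) {e' : Γ(L, U')} (he' : IsFrame e') :
    ∃ w : Γ(T, ⊤), ∀ z, val u hu' he' z = w * val u hu he z := by
  let W := U ⊓ U'
  have hw : ⊤ ≤ u ⁻¹ᵁ W := le_inf hu hu'
  obtain ⟨a, ha⟩ := (he'.res (inf_le_right : W ≤ U')).exists_coord le_rfl (AModX.res L (inf_le_left : W ≤ U) e)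
  rw [AModX.res_self] at ha
  refine ⟨u.appLE W ⊤ hw a, fun z => ?_⟩
  rw [val_res u (inf_le_right : W ≤ U') hw he', val_res u (inf_le_left : W ≤ U) hw he]
  show u.appLE W ⊤ hw (glCo _ z) = u.appLE W ⊤ hw a * u.appLE W ⊤ hw (glCo _ z)
  rw [← map_mul]
  congr 1
  refine glCo_eq _ ?_
  rw [res_glCo (he.res (inf_le_left : W ≤ U)) z, mul_comm, mul_smul]
  exact congrArg (_ • ·) ha

/-- Equality of values up to a common factor. -/
def Rel (u v : T ⟶ X) (L : X.Modules) : Prop :=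
  ∀ (U V : X.Opens) (hu : ⊤ ≤ u ⁻¹ᵁ U) (hv : ⊤ ≤ v ⁻¹ᵁ V) (e : Γ(L, U)) (f : Γ(L, V)) (he : IsFrame e)
    (hf : IsFrame f) (z z' : Γ(L, ⊤)),
    val u hu he z * val v hv hf z' = val u hu he z' * val v hv hf z

theorem Rel.of_frames (u v : T ⟶ X) {U V : X.Opens} (hu : ⊤ ≤ u ⁻¹ᵁ U) (hv : ⊤ ≤ v ⁻¹ᵁ V) {e : Γ(L, U)}
    {f : Γ(L, V)} (he : IsFrame e) (hf : IsFrame f)
    (h : ∀ z z' : Γ(L, ⊤), val u hu he z * val v hv hf z' = val u hu he z' * val v hv hf z) : Rel u v L := by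
  intro U' V' hu' hv' e' f' he' hf' z z'
  obtain ⟨a, ha⟩ := val_change u hu hu' he he'
  obtain ⟨b, hb⟩ := val_change v hv hv' hf hf'
  rw [ha, ha, hb, hb]
  linear_combination (a * b) * h z z'

/-- A common factor is cancelled. -/
theorem Rel.cancel {u v : T ⟶ X} {M Q N : X.Modules} (ψ : CohB1.tensorMod M Q ≅ N) (s : Γ(Q, ⊤))
    (hus : ⊤ ≤ u ⁻¹ᵁ locus s) (hvs : ⊤ ≤ v ⁻¹ᵁ locus s) (h : Rel u v N) : Rel u v M := by
  intro U V hu hv e f he hf z z'
  have key : ∀ (w : T ⟶ X) {U : X.Opens} (hw : ⊤ ≤ w ⁻¹ᵁ U) (hws : ⊤ ≤ w ⁻¹ᵁ locus s) (e : Γ(M, U))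
      (he : IsFrame e), ∃ (W : X.Opens) (hW : ⊤ ≤ w ⁻¹ᵁ W) (E : Γ(N, W)) (hE : IsFrame E),
        ∀ z, val w hW hE (ψ.hom.app ⊤ (tmul z s)) = val w hw he z := by
    intro w U hw hws e he
    let W := U ⊓ locus s
    have hW : ⊤ ≤ w ⁻¹ᵁ W := le_inf hw hws
    let e₂ : Γ(Q, W) := AModX.res Q (le_top : W ≤ ⊤) s
    have he₂ : IsFrame e₂ := isFrame_res_of_le_locus inf_le_right
    let E : Γ(N, W) := ψ.hom.app W (tmul (AModX.res M (inf_le_left : W ≤ U) e) e₂)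
    have hE : IsFrame E := IsFrame.map_iso ψ (isFrame_tmul (he.res _) he₂)
    refine ⟨W, hW, E, hE, fun z => ?_⟩
    rw [val_res w (inf_le_left : W ≤ U) hW he]
    show w.appLE W ⊤ hW _ = w.appLE W ⊤ hW _
    congr 1
    refine glCo_eq hE ?_
    show _ = _ • ψ.hom.app W _
    rw [← AModX.app_res, InvX.res_tmul, res_glCo (he.res (inf_le_left : W ≤ U)) z, InvX.tmul_smul_left,
      Scheme.Modules.Hom.app_smul]
  obtain ⟨W, hW, E, hE, kE⟩ := key u hu hus e he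
  obtain ⟨W', hW', F, hF, kF⟩ := key v hv hvs f hf
  rw [← kE z, ← kE z', ← kF z, ← kF z']
  exact h W W' hW hW' E F hE hF _ _

/-- Values of pullbacks. -/
theorem Rel.of_pullback {Y : Scheme.{u}} (g : X ⟶ Y) {M : Y.Modules} {u v : T ⟶ X}
    (h : Rel u v ((Scheme.Modules.pullback g).obj M)) : Rel (u ≫ g) (v ≫ g) M := by
  intro U V hu hv e f he hf z z'
  have key : ∀ (w : T ⟶ X) {U : Y.Opens} (hw : ⊤ ≤ (w ≫ g) ⁻¹ᵁ U) (e : Γ(M, U)) (he : IsFrame e) (z : Γ(M, ⊤)),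
      val w (show ⊤ ≤ w ⁻¹ᵁ g ⁻¹ᵁ U from hw) (isFrame_pullElt g he)
        (show Γ((Scheme.Modules.pullback g).obj M, ⊤) from pullElt g z) = val (w ≫ g) hw he z := by
    intro w U hw e he z
    have h1 : glCo (isFrame_pullElt g he) (show Γ((Scheme.Modules.pullback g).obj M, ⊤) from pullElt g z) =
        g.app U (glCo he z) := by
      refine glCo_eq _ ?_
      rw [← InvX.pullElt_smul, ← res_glCo he z, ← InvX.res_pullElt g (le_top : U ≤ ⊤) z]
      rfl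
    show w.appLE (g ⁻¹ᵁ U) ⊤ hw _ = (w ≫ g).appLE U ⊤ hw _
    rw [h1, Scheme.Hom.app_eq_appLE, ← CommRingCat.comp_apply, Scheme.Hom.appLE_comp_appLE]
  rw [← key u hu e he z, ← key u hu e he z', ← key v hv f hf z, ← key v hv f hf z']
  exact h _ _ _ _ _ _ _ _ _ _

/-- Morphisms to projective space given by sections agree on proportional values. -/
theorem eq_of_rel {k : Type u} [Field k] {n : ℕ} (r : X ⟶ CohB1.ProjSpace n k)
    (τ : (Scheme.Modules.pullback r).obj (Twist.twistProjSpace n k 1) ≅ L) {s : Fin (n + 1) → Γ(L, ⊤)}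
    (hτ : ∀ i, τ.hom.app ⊤ (ProjUP.pullSec r (Twist.twistProjSpace n k 1) (ProjUP.coord n k i)) = s i)
    [Subsingleton T] [Nonempty T] {u v : T ⟶ X} (h : Rel u v L)
    (hk : u ≫ r ≫ CohB1.ProjSpace.toSpec n k = v ≫ r ≫ CohB1.ProjSpace.toSpec n k) : u ≫ r = v ≫ r := by
  obtain ⟨t⟩ := ‹Nonempty T›
  have top_le : ∀ (w : T ⟶ X) (U : X.Opens), w t ∈ U → ⊤ ≤ w ⁻¹ᵁ U := fun w U hw x _ =>
    Subsingleton.elim t x ▸ hw
  let D : Fin (n + 1) → (CohB1.ProjSpace n k).Opens := fun i => SepPtTan.chartOpen k i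
  have hpre : ∀ i, r ⁻¹ᵁ D i = locus (s i) := fun i => AmpleEmbed.preimage_chart r τ i (hτ i)
  have hcov : ∀ x : X, ∃ i, x ∈ locus (s i) := fun x => by
    obtain ⟨i, hi⟩ := Opens.mem_iSup.1 ((AmpleEmbed.iSup_basicOpen_X n k).ge (trivial : r x ∈ (⊤ : Opens _)))
    exact ⟨i, (hpre i).le hi⟩
  obtain ⟨j, hj⟩ := hcov (u t)
  obtain ⟨l, hl⟩ := hcov (v t)
  have hfr : ∀ i, IsFrame (AModX.res L (le_top : locus (s i) ≤ ⊤) (s i)) := fun i => isFrame_res_of_le_locus le_rfl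
  have huj : ⊤ ≤ u ⁻¹ᵁ locus (s j) := top_le u _ hj
  have hvl : ⊤ ≤ v ⁻¹ᵁ locus (s l) := top_le v _ hl
  have hvj : ⊤ ≤ v ⁻¹ᵁ locus (s j) := by
    have h1 := h _ _ huj hvl _ _ (hfr j) (hfr l) (s j) (s l)
    rw [val_self, val_self, _root_.one_mul] at h1
    have hunit : IsUnit (val v hvl (hfr l) (s j)) := IsUnit.of_mul_eq_one _ (by rw [mul_comm]; exact h1.symm)
    refine top_le v _ ?_
    have h3 : v t ∈ X.basicOpen (glCo (hfr l) (s j)) := by
      have h4 : t ∈ T.basicOpen (val v hvl (hfr l) (s j)) := by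
        rw [Scheme.basicOpen_of_isUnit T hunit]; trivial
      rw [val, Scheme.basicOpen_appLE] at h4
      exact h4.2
    rw [← locus_inf_eq] at h3
    exact h3.1
  have hval : ∀ i, val u huj (hfr j) (s i) = val v hvj (hfr j) (s i) := fun i => by
    have h1 := h _ _ huj hvj _ _ (hfr j) (hfr j) (s j) (s i)
    rw [val_self, val_self, _root_.one_mul, _root_.mul_one] at h1
    exact h1.symm
  have hpu : ∀ (w : T ⟶ X), ⊤ ≤ w ⁻¹ᵁ locus (s j) → ⊤ ≤ (w ≫ r) ⁻¹ᵁ D j := fun w hw => by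
    rw [Scheme.Hom.comp_preimage, hpre]; exact hw
  have hru := hpu u huj
  have hrv := hpu v hvj
  have happ : (u ≫ r).appLE (D j) ⊤ hru = (v ≫ r).appLE (D j) ⊤ hrv := by
    apply CommRingCat.hom_ext
    let φ := (Proj.awayToSection (CohB1.polyGrading n k) (MvPolynomial.X j)).hom
    have hsurj : Function.Surjective (φ.comp (MvPolynomial.eval₂Hom (ProjPt.cst (R := k) j) (ProjPt.crd j))) :=
      (SepPtTan.awayToSection_bijective j).2.comp (SepPtTan.chart_surjective j)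
    refine RingHom.cancel_right hsurj |>.1 (MvPolynomial.ringHom_ext (fun c => ?_) fun i => ?_)
    · simp only [RingHom.comp_apply, MvPolynomial.eval₂Hom_C]
      show (u ≫ r).appLE (D j) ⊤ hru (φ (ProjPt.cst j c)) = (v ≫ r).appLE (D j) ⊤ hrv (φ (ProjPt.cst j c))
      have hc : φ (ProjPt.cst j c) = (CohB1.ProjSpace.toSpec n k).appLE ⊤ (D j) (fun x _ => trivial)
          ((Scheme.ΓSpecIso (CommRingCat.of k)).inv c) := (PnChart.str_eq n k j c).symm
      have hw : ∀ (w : T ⟶ X) (hw : ⊤ ≤ (w ≫ r) ⁻¹ᵁ D j), (w ≫ r).appLE (D j) ⊤ hw (φ (ProjPt.cst j c)) =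
          ((w ≫ r ≫ CohB1.ProjSpace.toSpec n k).appLE ⊤ ⊤ (fun x _ => trivial))
            ((Scheme.ΓSpecIso (CommRingCat.of k)).inv c) := fun w hw => by
        rw [hc, ← CommRingCat.comp_apply, Scheme.Hom.appLE_comp_appLE]
        simp only [Category.assoc]
      rw [hw u hru, hw v hrv]
      simp only [hk]
    · simp only [RingHom.comp_apply, MvPolynomial.eval₂Hom_X']
      show (u ≫ r).appLE (D j) ⊤ hru (φ (ProjPt.crd j i)) = (v ≫ r).appLE (D j) ⊤ hrv (φ (ProjPt.crd j i))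
      have hb : r.appLE (D j) (locus (s j)) (hpre j).ge (φ (ProjPt.crd j i)) = glCo (hfr j) (s i) :=
        AmpleEmbed.ratioOf_eq r τ j i (hτ j) (hτ i) (hpre j).ge _ (res_glCo (hfr j) (s i))
      have key : ∀ (w : T ⟶ X) (hw : ⊤ ≤ w ⁻¹ᵁ locus (s j)) (hwr : ⊤ ≤ (w ≫ r) ⁻¹ᵁ D j),
          (w ≫ r).appLE (D j) ⊤ hwr (φ (ProjPt.crd j i)) = val w hw (hfr j) (s i) := fun w hw hwr => by
        rw [val, ← hb, ← CommRingCat.comp_apply, Scheme.Hom.appLE_comp_appLE]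
      rw [key u huj hru, key v hvj hrv, hval]
  have hDaff : IsAffineOpen (D j) := SepPtTan.isAffineOpen_chartOpen j
  haveI : IsAffine (D j : Scheme) := hDaff
  have hr : ∀ (w : T ⟶ X), ⊤ ≤ (w ≫ r) ⁻¹ᵁ D j → Set.range (w ≫ r) ⊆ Set.range (D j).ι := fun w hw => by
    rw [Scheme.Opens.range_ι]
    rintro _ ⟨x, rfl⟩
    exact hw (trivial : x ∈ (⊤ : T.Opens))
  rw [← IsOpenImmersion.lift_fac (D j).ι (u ≫ r) (hr u hru),
    ← IsOpenImmersion.lift_fac (D j).ι (v ≫ r) (hr v hrv)]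
  congr 1
  apply ext_of_isAffine
  rw [← cancel_epi (D j).topIso.inv]
  have key : ∀ (q : T ⟶ CohB1.ProjSpace n k) (g : T ⟶ (D j : Scheme)) (_ : g ≫ (D j).ι = q) (hq : ⊤ ≤ q ⁻¹ᵁ D j),
      (D j).topIso.inv ≫ g.appTop = q.appLE (D j) ⊤ hq := by
    intro q g e hq
    subst e
    rw [← Scheme.Hom.appLE_comp_appLE g (D j).ι (D j) ⊤ ⊤ (fun x _ => x.2) (fun x _ => trivial),
      show g.appTop = g.appLE ⊤ ⊤ le_rfl from g.app_eq_appLE]
    congr 1
  rw [key (u ≫ r) _ (IsOpenImmersion.lift_fac _ _ (hr u hru)) hru, key (v ≫ r) _ (IsOpenImmersion.lift_fac _ _ (hr v hrv)) hrv, happ]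

end Groth.Agent.AVTate.VA
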