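import Groth.Agent.Lib.AVAmpleVan
import Groth.Agent.Lib.AVEuler
import Groth.Agent.Lib.CurveAmple
import Groth.Agent.S12002
import Groth.Agent.S3030
import Groth.Agent.S2359
import Groth.Agent.S4381
import Groth.Agent.S7795
import Groth.Agent.GrpSchLib.HomFinite
import Groth.Agent.ExistEasy.PP.PullSec
import Groth.Agent.GrpSchLib.AVSubgroup
import Groth.Agent.GrpSchLib.Coincidence
import Groth.Agent.GrpSchLib.KernelPair
import Groth.Agent.GrpSchLib.Descent
import Groth.Agent.GrpSchLib.MonoSubgroup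
import Groth.Agent.GrpSchLib.SemiabIsog
import Groth.Agent.Lib.AmpleEmbed

/-!
A morphism given by all sections of an ample module is not invariant under a translation.
-/

noncomputable section

set_option linter.style.haveILetI false
set_option linter.unusedSectionVars false
set_option backward.isDefEq.respectTransparency false
set_option backward.isDefEq.respectTransparency.types false
set_option maxHeartbeats 1000000

universe u

open CategoryTheory CategoryTheory.Limits MonoidalCategory CartesianMonoidalCategory MonObj AlgebraicGeometry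
  TopologicalSpace Opposite

namespace Groth.Agent.AVTate.VA

open Groth.Agent Groth.Agent.InvX Groth.Agent.H23 Groth.Agent.H23.TrivBasic Groth.Agent.GrpSchLib

variable {k : Type u} [Field k] [IsAlgClosed k] {A : Over (Spec (CommRingCat.of k))} [GrpObj A] [IsProper A.hom]
  [GeometricallyIntegral A.hom]

local notation3 "pt₀" => 𝟙_ (Over (Spec (CommRingCat.of k)))

/-- Two maps agreeing on a dense set of translates agree on all translates. -/
theorem eq_of_dense {P : Over (Spec (CommRingCat.of k))} [IsSeparated P.hom] (f : A ⟶ P)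
    {T : Over (Spec (CommRingCat.of k))} (u v : T ⟶ A) (D : Set (pt₀ ⟶ A))
    (hD : Dense (AVAmple.pt '' D))
    (h : ∀ a ∈ D, (u * (toUnit T ≫ a)) ≫ f = (v * (toUnit T ≫ a)) ≫ f) :
    ((fst T A ≫ u) * snd T A) ≫ f = ((fst T A ≫ v) * snd T A) ≫ f := by
  haveI : IsIntegral A.left := GeometricallyIntegral.isIntegral_of_subsingleton A.hom
  obtain ⟨Z, j, hj, hZ⟩ := exists_coincidence_field (W := T) (X := A) (Y := P)
    (((fst T A ≫ u) * snd T A) ≫ f) (((fst T A ≫ v) * snd T A) ≫ f)
  have key : ∀ (w : T ⟶ A) (a : pt₀ ⟶ A), (T ◁ a) ≫ ((fst T A ≫ w) * snd T A) ≫ f =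
      fst T pt₀ ≫ (w * (toUnit T ≫ a)) ≫ f := fun w a => by
    rw [← Category.assoc, ← Category.assoc (fst T pt₀), MonObj.comp_mul, MonObj.comp_mul, whiskerLeft_snd,
      whiskerLeft_fst_assoc, ← Category.assoc (fst T pt₀) (toUnit T),
      toUnit_unique (fst T pt₀ ≫ toUnit T) (snd T pt₀)]
  have hmem : AVAmple.pt '' D ⊆ Set.range j.left := by
    rintro _ ⟨a, ha, rfl⟩
    obtain ⟨z, rfl⟩ := (hZ pt₀ a).2 (by rw [key, key, h a ha])
    exact ⟨z.left _, rfl⟩
  haveI : Surjective j.left := ⟨fun y => by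
    have := closure_minimal hmem j.left.isClosedEmbedding.isClosed_range
    rw [hD.closure_eq] at this
    exact this trivial⟩
  haveI : IsIso j.left := isIso_of_isClosedImmersion_of_surjective j.left
  haveI : IsIso ((Over.forget (Spec (CommRingCat.of k))).map j) := inferInstanceAs (IsIso j.left)
  haveI : IsIso j := isIso_of_reflects_iso j (Over.forget (Spec (CommRingCat.of k)))
  have h1 := (hZ A (𝟙 A)).1 ⟨inv j, IsIso.inv_hom_id j⟩
  simpa only [MonoidalCategory.whiskerLeft_id, Category.id_comp] using h1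

/-- A finite morphism from the pullback of an ample module. -/
theorem isFinite_of_ample {X : Scheme.{u}} (q : X ⟶ Spec (CommRingCat.of k)) [IsProper q] {L : X.Modules}
    (hLa : CohB1.IsAmple L) {n : ℕ} (r : X ⟶ CohB1.ProjSpace n k) (hr : r ≫ CohB1.ProjSpace.toSpec n k = q)
    (τ : (Scheme.Modules.pullback r).obj (Twist.twistProjSpace n k 1) ≅ L) : IsFinite r := by
  haveI : CompactSpace X := QuasiCompact.compactSpace_of_compactSpace q
  haveI : JacobsonSpace X := LocallyOfFiniteType.jacobsonSpace q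
  haveI : IsLocallyNoetherian X := LocallyOfFiniteType.isLocallyNoetherian q
  haveI : IsNoetherian X := {}
  haveI hp : IsProper (CohB1.ProjSpace.toSpec n k) := PnCoh.Chow.isProper_toSpec n k
  haveI : IsProper r := by
    haveI : IsProper (r ≫ CohB1.ProjSpace.toSpec n k) := hr ▸ ‹IsProper q›
    exact IsProper.of_comp r (CohB1.ProjSpace.toSpec n k)
  have hN : PicF.IsInvertible (Twist.twistProjSpace n k 1) :=
    PnCoh.Finite.isInvertible_twist (fun j : ULift.{u} (Fin (n + 1)) => MvPolynomial.X j.down)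
      (fun j => ProjPt.X_mem j.down) (by
        refine top_le_iff.1 ((AmpleEmbed.iSup_basicOpen_X n k).ge.trans (iSup_le fun j => ?_))
        exact le_iSup_of_le (ULift.up j) le_rfl) 1
  haveI : LocallyQuasiFinite r := AVAmple.locallyQuasiFinite_of_closed r fun y hy =>
    AVAmple.finite_preimage r hLa.1 hN τ (fun {C} j hj hC hT => by
      haveI := hj
      haveI : CompactSpace C := QuasiCompact.compactSpace_of_compactSpace (j ≫ q)
      have h := S2359.result q j j.isClosedEmbedding.isEmbedding L ((S4381.result q L).2 hLa)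
      have h' := (S4381.result (j ≫ q) _).1 h
      obtain ⟨e⟩ := hT
      haveI : C.IsQuasiAffine := AmpleX.isQuasiAffine_of_isAmple (AmpleX.isAmple_of_iso e h')
      exact S12002.finite_of_isProper_quasiAffine (j ≫ q)) y hy
  exact IsFinite.of_isProper_of_locallyQuasiFinite r

/-- An ample module on an abelian variety has a section. -/
theorem pos_h0_of_ample [A.left.Over (Spec (CommRingCat.of k))] {M : A.left.Modules} (hMa : CohB1.IsAmple M)
    (hA : A.left ↘ Spec (CommRingCat.of k) = A.hom) : 0 < Module.finrank k (Coh.HH A.left M 0) := by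
  haveI : IsProper (A.left ↘ Spec (CommRingCat.of k)) := hA ▸ ‹IsProper A.hom›
  haveI := CurveCohLib.isNoetherian_of_proper (k := k) (X := A.left)
  haveI := CurveCohLib.finite_HH (k := k) (CurveDeg.isCoh_of_isInvertible hMa.1) 0
  obtain ⟨i, hi⟩ := AVAmpleVan.exists_nontrivial_HH hMa.1 (S12002.result k A M hMa)
  obtain rfl : i = 0 := by
    by_contra h
    exact hi (AVAmpleVan.subsingleton_HH_of_isAmple hMa i (Nat.pos_of_ne_zero h))
  haveI : Nontrivial (Coh.HH A.left M 0) := not_subsingleton_iff_nontrivial.1 hi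
  exact Module.finrank_pos

/-- Spanning sections that are pulled back bound the dimension. -/
theorem finrank_le_of_descends {X Y : Scheme.{u}} [X.Over (Spec (CommRingCat.of k))] [Y.Over (Spec (CommRingCat.of k))]
    [IsProper (Y ↘ Spec (CommRingCat.of k))] (π : X ⟶ Y)
    (hπ : π ≫ (Y ↘ Spec (CommRingCat.of k)) = X ↘ Spec (CommRingCat.of k))
    {n : ℕ} (g : Y ⟶ CohB1.ProjSpace n k) {f : X ⟶ CohB1.ProjSpace n k} (hg : π ≫ g = f) {M : X.Modules}
    (τ : (Scheme.Modules.pullback f).obj (Twist.twistProjSpace n k 1) ≅ M) (s : Fin (n + 1) → Γ(M, ⊤))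
    (hτ : ∀ i, τ.hom.app ⊤ (ProjUP.pullSec f (Twist.twistProjSpace n k 1) (ProjUP.coord n k i)) = s i)
    (hs : ∀ z : Γ(M, ⊤), ∃ c : Fin (n + 1) → k,
      z = ∑ i, (X ↘ Spec (CommRingCat.of k)).appTop ((Scheme.ΓSpecIso (CommRingCat.of k)).inv (c i)) • s i)
    (hY : Coh.IsCoh ((Scheme.Modules.pullback g).obj (Twist.twistProjSpace n k 1))) :
    Module.finrank k (Coh.HH X M 0) ≤
      Module.finrank k (Coh.HH Y ((Scheme.Modules.pullback g).obj (Twist.twistProjSpace n k 1)) 0) := by
  subst hg
  haveI := CurveCohLib.isNoetherian_of_proper (k := k) (X := Y)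
  haveI := CurveCohLib.finite_HH (k := k) hY 0
  let O1 := Twist.twistProjSpace n k 1
  let MB := (Scheme.Modules.pullback g).obj O1
  let σ : (Scheme.Modules.pullback π).obj MB ≅ M := (Scheme.Modules.pullbackComp π g).app O1 ≪≫ τ
  let φ : Γ(MB, ⊤) → Γ(M, ⊤) := fun z => σ.hom.app ⊤ (InvX.pullElt π z)
  let eY := Sheaf.H.equiv₀ (Coh.toAb MB) isTerminalTop
  let eX := Sheaf.H.equiv₀ (Coh.toAb M) isTerminalTop
  have hφadd : ∀ a b, φ (a + b) = φ a + φ b := fun a b => by
    show σ.hom.app ⊤ (InvX.pullElt π (a + b)) = _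
    rw [show (InvX.pullElt π (a + b) : Γ((Scheme.Modules.pullback π).obj MB, π ⁻¹ᵁ ⊤)) =
      InvX.pullElt π a + InvX.pullElt π b from map_add _ a b]
    exact map_add (σ.hom.app ⊤).hom _ _
  have hφsmul : ∀ (r : Γ(Y, ⊤)) a, φ (r • a) = π.appTop r • φ a := fun r a => by
    show σ.hom.app ⊤ (InvX.pullElt π (r • a)) = _
    rw [InvX.pullElt_smul]
    exact Scheme.Modules.Hom.app_smul σ.hom _ _
  have hid : ∀ (W : Scheme.{u}) (z : Γ(W, ⊤)), Coh.resTop W (op ⊤) z = z := fun W z =>
    ConcreteCategory.congr_hom (W.presheaf.map_id (op ⊤)) z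
  let L : Coh.HH Y MB 0 →ₗ[k] Coh.HH X M 0 :=
    { toFun := fun x => eX.symm (φ (eY x))
      map_add' := fun a b => by
        show eX.symm (φ (eY (a + b))) = eX.symm (φ (eY a)) + eX.symm (φ (eY b))
        refine (congrArg eX.symm ?_).trans (map_add eX.symm _ _)
        exact (congrArg φ (map_add eY a b)).trans (hφadd _ _)
      map_smul' := fun c a => by
        apply eX.injective
        rw [eX.apply_symm_apply, RingHom.id_apply]
        refine Eq.trans ?_ (CurveCohLib.h0Equiv_smul M c _).symm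
        rw [eX.apply_symm_apply, CurveCohLib.h0Equiv_smul MB c a, hid, hid]
        refine (hφsmul _ _).trans ?_
        congr 1
        show (π ≫ (Y ↘ Spec (CommRingCat.of k))).appTop _ = (X ↘ Spec (CommRingCat.of k)).appTop _
        rw [hπ] }
  refine LinearMap.finrank_le_finrank_of_surjective (f := L) fun x => ?_
  obtain ⟨c, hc⟩ := hs (eX x)
  have hsi : ∀ i, φ (ProjUP.pullSec g O1 (ProjUP.coord n k i)) = s i := fun i => by
    have h := ExistEasy.pullSec_comp π g O1 (W := ⊤) (U := ⊤) (V := ⊤) le_top le_top (ProjUP.coord n k i)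
    have hunit : ∀ {P Q : Scheme.{u}} (q : P ⟶ Q) (N : Q.Modules) (z : Γ(N, ⊤)),
        QCoh.pullSec q N (le_refl (⊤ : P.Opens) : (⊤ : P.Opens) ≤ q ⁻¹ᵁ ⊤) z = ProjUP.pullSec q N z := fun q N z =>
      ConcreteCategory.congr_hom (((Scheme.Modules.pullback q).obj N).presheaf.map_id (op ⊤)) _
    rw [hunit, hunit, hunit] at h
    rw [← hτ i, ← h]
    rfl
  refine ⟨∑ i, c i • eY.symm (ProjUP.pullSec g O1 (ProjUP.coord n k i)), ?_⟩
  rw [map_sum]
  apply eX.injective
  rw [map_sum, hc]
  refine Finset.sum_congr rfl fun i _ => ?_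
  rw [map_smul]
  refine (CurveCohLib.h0Equiv_smul M (c i) _).trans ?_
  rw [hid]
  refine congrArg (_ • ·) ?_
  show eX (eX.symm (φ (eY (eY.symm _)))) = _
  rw [eX.apply_symm_apply, eY.apply_symm_apply, hsi]

/-- The morphism by all sections of an ample module has trivial stabiliser. -/
theorem eq_one_of_stab {M : A.left.Modules} (hMa : CohB1.IsAmple M) {n : ℕ}
    (f : A ⟶ Over.mk (CohB1.ProjSpace.toSpec n k))
    (τ : (Scheme.Modules.pullback f.left).obj (Twist.twistProjSpace n k 1) ≅ M)
    (s : Fin (n + 1) → Γ(M, ⊤))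
    (hτ : ∀ i, τ.hom.app ⊤ (ProjUP.pullSec f.left (Twist.twistProjSpace n k 1) (ProjUP.coord n k i)) = s i)
    (hs : ∀ z : Γ(M, ⊤), ∃ c : Fin (n + 1) → k,
      z = ∑ i, A.hom.appTop ((Scheme.ΓSpecIso (CommRingCat.of k)).inv (c i)) • s i)
    {T : Over (Spec (CommRingCat.of k))} (z : T ⟶ A)
    (hz : (fst A T * (snd A T ≫ z)) ≫ f = fst A T ≫ f) : z = 1 := by
  classical
  letI : A.left.Over (Spec (CommRingCat.of k)) := ⟨A.hom⟩
  haveI : IsProper (A.left ↘ Spec (CommRingCat.of k)) := ‹IsProper A.hom›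
  haveI : IsIntegral A.left := GeometricallyIntegral.isIntegral_of_subsingleton A.hom
  haveI : IsCommMonObj A := isCommMonObj_of_isProper_of_geometricallyIntegral A
  haveI : Smooth A.hom := S7795.result A
  haveI hp : IsProper (CohB1.ProjSpace.toSpec n k) := PnCoh.Chow.isProper_toSpec n k
  haveI : IsSeparated (Over.mk (CohB1.ProjSpace.toSpec n k)).hom := hp.toIsSeparated
  haveI : IsFinite f.left := isFinite_of_ample A.hom hMa f.left (Over.w f) τ
  -- the stabiliser
  obtain ⟨K, ιK, hιK, hK⟩ := exists_coincidence_field (W := A) (X := A) ((fst A A * snd A A) ≫ f) (fst A A ≫ f)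
  have hK' : ∀ (T : Over (Spec (CommRingCat.of k))) (x : T ⟶ A),
      (∃ w : T ⟶ K, w ≫ ιK = x) ↔ (fst A T * (snd A T ≫ x)) ≫ f = fst A T ≫ f := fun T x => by
    rw [hK, ← Category.assoc, MonObj.comp_mul, whiskerLeft_fst, whiskerLeft_snd, ← Category.assoc, whiskerLeft_fst]
  haveI : Mono ιK := SemiabIsog.mono_ci ιK
  have move : ∀ {T : Over (Spec (CommRingCat.of k))} (x : T ⟶ A), (fst A T * (snd A T ≫ x)) ≫ f = fst A T ≫ f →
      ∀ {T' : Over (Spec (CommRingCat.of k))} (a : T' ⟶ A) (t : T' ⟶ T), (a * (t ≫ x)) ≫ f = a ≫ f := by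
    intro T x hx T' a t
    have h := congrArg (fun φ => lift a t ≫ φ) hx
    simpa only [← Category.assoc, MonObj.comp_mul, lift_fst, lift_snd] using h
  have hιK' : ∀ {T' : Over (Spec (CommRingCat.of k))} (a : T' ⟶ A) (t : T' ⟶ K), (a * (t ≫ ιK)) ≫ f = a ≫ f :=
    fun a t => move ιK ((hK' K ιK).1 ⟨𝟙 K, Category.id_comp _⟩) a t
  obtain ⟨η', hη'⟩ := (hK' pt₀ η[A]).2 (by
    rw [toUnit_unique (snd A pt₀) (toUnit _), ← Hom.one_def, _root_.mul_one])
  obtain ⟨μ', hμ'⟩ := (hK' (K ⊗ K) ((fst K K ≫ ιK) * (snd K K ≫ ιK))).2 (by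
    rw [MonObj.comp_mul, ← _root_.mul_assoc, ← Category.assoc (snd A (K ⊗ K)) (snd K K) ιK, hιK',
      ← Category.assoc (snd A (K ⊗ K)) (fst K K) ιK, hιK'])
  obtain ⟨ι₂, hιK₂⟩ := (hK' K ιK⁻¹).2 (by
    have h := hιK' (fst A K * (snd A K ≫ ιK⁻¹)) (snd A K)
    rw [GrpObj.comp_inv, inv_mul_cancel_right] at h
    rw [GrpObj.comp_inv]
    exact h.symm)
  obtain ⟨_, _⟩ := exists_grpObj_of_mono ιK η' hη' μ' hμ' ι₂ hιK₂
  haveI : LocallyOfFiniteType K.hom := by rw [← Over.w ιK]; infer_instance
  haveI : QuasiCompact ιK.left := inferInstance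
  haveI : Flat A.hom := inferInstance
  haveI : Flat K.hom := inferInstance
  -- it is finite
  haveI : IsFinite K.hom := by
    have h1 : (toUnit A ≫ η[A]) = 1 := Hom.one_def.symm
    have h : ιK ≫ f = toUnit K ≫ η[A] ≫ f := by
      rw [← Category.assoc, ← Hom.one_def, ← hιK' (1 : K ⟶ A) (𝟙 K), _root_.one_mul, Category.id_comp]
    let y := η[A] ≫ f
    haveI : IsSeparated (CohB1.ProjSpace.toSpec n k) := hp.toIsSeparated
    have hy : y.left ≫ CohB1.ProjSpace.toSpec n k = (pt₀).hom := Over.w y
    haveI : IsClosedImmersion y.left := by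
      haveI : IsClosedImmersion (y.left ≫ CohB1.ProjSpace.toSpec n k) := by
        rw [hy]; exact inferInstanceAs (IsClosedImmersion (𝟙 _))
      exact IsClosedImmersion.of_comp y.left (CohB1.ProjSpace.toSpec n k)
    have hl : ιK.left ≫ f.left = (toUnit K).left ≫ y.left := congrArg CommaMorphism.left h
    have : IsFinite (pullback.snd f.left y.left) := MorphismProperty.pullback_snd _ _ inferInstance
    let l := pullback.lift ιK.left (toUnit K).left hl
    haveI : IsClosedImmersion l := by
      haveI : IsClosedImmersion (l ≫ pullback.fst f.left y.left) := by rw [pullback.lift_fst]; infer_instance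
      exact IsClosedImmersion.of_comp l (pullback.fst f.left y.left)
    rw [show K.hom = l ≫ pullback.snd f.left y.left from (pullback.lift_snd _ _ _).symm]
    infer_instance
  -- the quotient
  have hnorm : AlgGrp.IsNormalHom ιK := fun T g x => ⟨x, by
    rw [mul_comm g, mul_inv_cancel_right]⟩
  obtain ⟨B, _, π, hπ, hπf, hπs, hπlfp, hker, hBsep, -, hBsm⟩ := S3030.result k K A ιK hnorm
  haveI := hπ; haveI := hπf; haveI := hπs; haveI := hπlfp; haveI := hBsep
  haveI : Smooth B.hom := hBsm inferInstance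
  haveI : QuasiCompact B.hom := by
    haveI : CompactSpace A.left := QuasiCompact.compactSpace_of_compactSpace A.hom
    haveI : CompactSpace B.left := ⟨by
      rw [← π.left.surjective.range_eq]; exact isCompact_range π.left.continuous⟩
    exact HasAffineProperty.iff_of_isAffine.2 ‹CompactSpace B.left›
  haveI : ConnectedSpace B.left := π.left.surjective.connectedSpace π.left.continuous
  haveI : GeometricallyIntegral B.hom := AVSubgroup.geometricallyIntegral_group B
  haveI : IsProper B.hom := by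
    haveI : UniversallyClosed (π.left ≫ B.hom) := by rw [Over.w π]; infer_instance
    haveI : UniversallyClosed B.hom := UniversallyClosed.of_comp_surjective π.left B.hom
    exact {}
  haveI : IsIntegral B.left := GeometricallyIntegral.isIntegral_of_subsingleton B.hom
  haveI : IsFinite π.left := by
    haveI : QuasiCompact π.left := by
      haveI : QuasiCompact (π.left ≫ B.hom) := by rw [Over.w π]; infer_instance
      exact QuasiCompact.of_comp π.left B.hom
    haveI : LocallyQuasiFinite π.left := by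
      refine GrpSchLib.HomFinite.locallyQuasiFinite_of_finite_preimage π ?_
      haveI : Finite K.left := Set.finite_univ_iff.1
        ((K.hom.finite_preimage_singleton (IsLocalRing.closedPoint k)).subset
          fun x _ => Subsingleton.elim (α := Spec (CommRingCat.of k)) _ _)
      refine (Set.finite_range ιK.left).subset fun x hx => ?_
      obtain ⟨w, hw, -⟩ := Scheme.exists_preimage_of_isPullback (hker.map (Over.forget _)) x (IsLocalRing.closedPoint k) hx
      exact ⟨w, hw⟩
    exact GrpSchLib.HomFinite.isFinite_of_isAlgClosed π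
  haveI : Flat π.left := hπf
  -- the factorisation
  have hcov : IsCover π := isCover_of_flat_surjective π
  obtain ⟨g, hg⟩ : ∃ g : B.left ⟶ CohB1.ProjSpace n k, π.left ≫ g = f.left := by
    obtain ⟨_, _, _⟩ := hcov
    refine ⟨EffectiveEpi.desc π.left f.left fun {Z} g₁ g₂ e => ?_, EffectiveEpi.fac _ _ _⟩
    let Z' : Over (Spec (CommRingCat.of k)) := Over.mk (g₁ ≫ A.hom)
    let a : Z' ⟶ A := Over.homMk g₁ rfl
    let b : Z' ⟶ A := Over.homMk g₂ (by
      show g₂ ≫ A.hom = g₁ ≫ A.hom
      rw [← Over.w π, ← Category.assoc, ← e, Category.assoc])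
    have hab : (b⁻¹ * a) ≫ π = toUnit Z' ≫ η[B] := by
      rw [MonObj.mul_comp, GrpObj.inv_comp, show a ≫ π = b ≫ π from Over.OverMorphism.ext e, inv_mul_cancel]
      rfl
    have h1 := hιK' b (hker.lift _ _ hab)
    rw [hker.lift_fst, mul_inv_cancel_left] at h1
    exact congrArg CommaMorphism.left h1
  have hgk : g ≫ CohB1.ProjSpace.toSpec n k = B.hom := by
    haveI : Epi π.left := by
      obtain ⟨_, _, _⟩ := hcov
      infer_instance
    rw [← cancel_epi π.left, reassoc_of% hg, Over.w π]
    exact Over.w f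
  haveI : IsProper g := by
    haveI : IsProper (g ≫ CohB1.ProjSpace.toSpec n k) := by rw [hgk]; infer_instance
    exact IsProper.of_comp g (CohB1.ProjSpace.toSpec n k)
  haveI : LocallyQuasiFinite g := LocallyQuasiFinite.of_finite_preimage_singleton g fun y => by
    refine (((IsFinite.finite_preimage_singleton f.left y)).image π.left).subset fun b hb => ?_
    obtain ⟨a, rfl⟩ := π.left.surjective b
    exact ⟨a, by show f.left a ∈ ({y} : Set _); rw [← hg]; exact hb, rfl⟩
  haveI : IsFinite g := IsFinite.of_isProper_of_locallyQuasiFinite g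
  -- the module downstairs
  let MB := (Scheme.Modules.pullback g).obj (Twist.twistProjSpace n k 1)
  have hampP : CohB1.IsAmple (Twist.twistProjSpace n k 1) := by
    let T₀ : Finset (MvPolynomial (Fin (n + 1)) k) := Finset.univ.image MvPolynomial.X
    refine AmpleX.isAmple_twist_one _ T₀ (fun x hx => ?_) ?_
    · obtain ⟨i, -, rfl⟩ := Finset.mem_image.1 hx
      exact ProjPt.X_mem i
    · refine Proj.iSup_basicOpen_eq_top _ _ ((SegreX.irrelevant_le_span n k).trans ?_)
      refine Ideal.span_mono ?_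
      rintro _ ⟨i, rfl⟩
      exact ⟨⟨_, Finset.mem_image.2 ⟨i, Finset.mem_univ _, rfl⟩⟩, rfl⟩
  have hMB : CohB1.IsAmple MB := by
    have hqa : Mor2.IsQuasiAffine g := ⟨inferInstance, fun V hV => by
      haveI : IsAffine (g ⁻¹ᵁ V) := hV.preimage g
      infer_instance⟩
    haveI : CompactSpace B.left := QuasiCompact.compactSpace_of_compactSpace B.hom
    have h := AmpleX.isRelAmple_pullback_quasiAffine (CohB1.ProjSpace.toSpec n k) g hqa
      ((AmpleX.isRelAmple_iff_isAmple _ _).2 hampP)
    exact (AmpleX.isRelAmple_iff_isAmple (g ≫ CohB1.ProjSpace.toSpec n k) _).1 h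
  let σ : (Scheme.Modules.pullback π.left).obj MB ≅ M :=
    (Scheme.Modules.pullbackComp π.left g).app _ ≪≫ (Scheme.Modules.pullbackCongr hg).app _ ≪≫ τ
  -- degree
  letI : B.left.Over (Spec (CommRingCat.of k)) := ⟨B.hom⟩
  haveI : IsProper (B.left ↘ Spec (CommRingCat.of k)) := ‹IsProper B.hom›
  haveI := CurveCohLib.isNoetherian_of_proper (k := k) (X := A.left)
  haveI := CurveCohLib.isNoetherian_of_proper (k := k) (X := B.left)
  haveI : LocallyOfFinitePresentation π.left := hπlfp
  obtain ⟨d, hd⟩ : ∃ d, ∀ y : ↥B.left, Scheme.Hom.finrank π.left y = d := by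
    obtain ⟨b₁⟩ := (inferInstance : Nonempty B.left)
    exact ⟨_, fun y => π.left.isLocallyConstant_finrank.apply_eq_of_preconnectedSpace y b₁⟩
  obtain ⟨b₀⟩ := (inferInstance : Nonempty B.left)
  obtain ⟨a₀, rfl⟩ := π.left.surjective b₀
  have hd1 : 1 ≤ d := hd (π.left a₀) ▸ π.left.one_le_finrank_map a₀
  have hMc := CurveDeg.isCoh_of_isInvertible hMa.1
  have hBc := CurveDeg.isCoh_of_isInvertible hMB.1
  have he := AVEuler.euler_pullback π d hd hBc
  change Curv2.euler k A.left _ = (d : ℤ) * Curv2.euler k B.left MB at he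
  rw [CurveCohLib.euler_congr (k := k) σ,
    CurveAmple.euler_eq_h0_of_vanishing fun q => AVAmpleVan.subsingleton_HH_of_isAmple hMa (q + 1) q.succ_pos,
    CurveAmple.euler_eq_h0_of_vanishing fun q => AVAmpleVan.subsingleton_HH_of_isAmple hMB (q + 1) q.succ_pos]
    at he
  haveI := CurveCohLib.finite_HH (k := k) hBc 0
  haveI := CurveCohLib.finite_HH (k := k) hMc 0
  have hle : Module.finrank k (Coh.HH A.left M 0) ≤ Module.finrank k (Coh.HH B.left MB 0) :=
    finrank_le_of_descends (k := k) π.left (Over.w π) g hg τ s hτ hs hBc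
  have hpos : 0 < Module.finrank k (Coh.HH A.left M 0) := pos_h0_of_ample hMa rfl
  have hd' : d = 1 := by
    rcases Nat.lt_or_ge d 2 with h2 | h2
    · omega
    · exfalso
      have : Module.finrank k (Coh.HH A.left M 0) = d * Module.finrank k (Coh.HH B.left MB 0) := by
        exact_mod_cast he
      have h3 : 2 * Module.finrank k (Coh.HH B.left MB 0) ≤ Module.finrank k (Coh.HH A.left M 0) :=
        this ▸ Nat.mul_le_mul_right _ h2
      omega
  subst hd'
  haveI : IsIso π.left := (Scheme.Hom.isIso_iff_finrank_eq π.left).2 (funext hd)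
  haveI : IsIso ((Over.forget (Spec (CommRingCat.of k))).map π) := inferInstanceAs (IsIso π.left)
  haveI : IsIso π := isIso_of_reflects_iso π (Over.forget (Spec (CommRingCat.of k)))
  obtain ⟨w, hw⟩ := (hK' T z).2 hz
  have h1 : z ≫ π = 1 := by
    rw [← hw, Category.assoc, hker.w, ← Category.assoc, comp_toUnit]
    rfl
  rw [← cancel_mono π, h1, MonObj.one_comp]

end Groth.Agent.AVTate.VA
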