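import Groth.Agent.AVTate.VAJet
import Groth.Agent.AVTate.VAStab
import Groth.Agent.Lib.AVMulN
import Groth.Agent.Lib.AVDegenerate
import Groth.Agent.CurveVA.Criterion

/-!
Sections of powers of an ample module on an abelian variety over an algebraically closed field
generate from the square on and separate points and tangent vectors from the cube on.
-/

noncomputable section

set_option linter.style.haveILetI false
set_option linter.unusedSectionVars false
set_option backward.isDefEq.respectTransparency false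
set_option backward.isDefEq.respectTransparency.types false
set_option maxHeartbeats 1000000

universe u

open CategoryTheory CategoryTheory.Limits MonoidalCategory CartesianMonoidalCategory MonObj AlgebraicGeometry
  TopologicalSpace Opposite

namespace Groth.Agent.AVTate.VA

theorem appLE_top {X Y : Scheme.{u}} (f : X ⟶ Y) (h : (⊤ : X.Opens) ≤ f ⁻¹ᵁ ⊤) : f.appLE ⊤ ⊤ h = f.appTop :=
  f.app_eq_appLE.symm

open Groth.Agent Groth.Agent.InvX Groth.Agent.H23 Groth.Agent.H23.TrivBasic Groth.Agent.AVPair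
open Groth.Agent.AVCube (pc)
open scoped Groth.Agent.H23.PicMul

variable {k : Type u} [Field k] [IsAlgClosed k] {A : Over (Spec (CommRingCat.of k))} [GrpObj A] [IsProper A.hom]
  [GeometricallyIntegral A.hom] {L : A.left.Modules}

local notation3 "pt₀" => 𝟙_ (Over (Spec (CommRingCat.of k)))

/-- Translates whose weighted sum is zero do not change a product of powers. -/
theorem cl_translates (hL : PicF.IsInvertible L) (p q : ℕ) (a b : pt₀ ⟶ A) (h : a ^ p * b ^ q = 1) :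
    pl (AVAmple.tr a) (PicF.cl (CohB1.tensorPow L p)) * pl (AVAmple.tr b) (PicF.cl (CohB1.tensorPow L q)) =
      PicF.cl (CohB1.tensorPow L (p + q)) := by
  have hval : ∀ c : pt₀ ⟶ A, pl (AVAmple.tr c) (PicF.cl L) =
      ((AVDegenerate.transHom hL c * pc hL (𝟙 A) : (PicF.Cl A.left)ˣ) : PicF.Cl A.left) := fun c => by
    show _ = ((pc hL (AVAmple.tr c) / pc hL (𝟙 A) * pc hL (𝟙 A) : (PicF.Cl A.left)ˣ) : PicF.Cl A.left)
    rw [div_mul_cancel]
    rfl
  rw [PicMul.cl_tensorPow, PicMul.cl_tensorPow, PicMul.cl_tensorPow, map_pow, map_pow, hval, hval,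
    ← Units.val_pow_eq_pow_val, ← Units.val_pow_eq_pow_val, ← Units.val_mul, ← AVCube.val_pc_id hL,
    ← Units.val_pow_eq_pow_val]
  congr 1
  rw [mul_pow, mul_pow, _root_.mul_mul_mul_comm, ← map_pow, ← map_pow, ← map_mul, h, map_one, _root_.one_mul, pow_add]

theorem pt_comp (c : pt₀ ⟶ A) (g : A ⟶ A) : AVAmple.pt (c ≫ g) = g.left (AVAmple.pt c) := rfl

theorem nonempty_preimage {g : A ⟶ A} (hg : Surjective g.left) {U : A.left.Opens} (hU : U ≠ ⊥) :
    g.left ⁻¹ᵁ U ≠ ⊥ := by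
  obtain ⟨x, hx⟩ := (Opens.ne_bot_iff_nonempty U).1 hU
  obtain ⟨y, hy⟩ := g.left.surjective x
  exact (Opens.ne_bot_iff_nonempty _).2 ⟨y, show g.left y ∈ U from hy ▸ hx⟩

theorem surjective_inv_pow (m : ℕ) (hm : 1 ≤ m) : Surjective ((𝟙 A ^ m)⁻¹ : A ⟶ A).left := by
  haveI : IsIso ((𝟙 A)⁻¹ : A ⟶ A).left := by
    refine ⟨((𝟙 A)⁻¹ : A ⟶ A).left, ?_, ?_⟩ <;>
      rw [← Over.comp_left, GrpObj.comp_inv, Category.comp_id, _root_.inv_inv, Over.id_left]
  haveI := AVMulN.surjective_pow (A := A) m hm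
  rw [show ((𝟙 A ^ m)⁻¹ : A ⟶ A) = (𝟙 A ^ m) ≫ (𝟙 A)⁻¹ by rw [GrpObj.comp_inv, Category.comp_id], Over.comp_left]
  infer_instance

theorem exists_section_ne_zero (hL : CohB1.IsAmple L) (m : ℕ) (hm : 1 ≤ m) :
    ∃ s : Γ(CohB1.tensorPow L m, ⊤), s ≠ 0 := by
  letI : A.left.Over (Spec (CommRingCat.of k)) := ⟨A.hom⟩
  have h := pos_h0_of_ample (AmpleX.isAmple_tensorPow hL hm) (A := A) rfl
  exact CurveAmple.exists_section_ne_zero (Module.nontrivial_of_finrank_pos h)

/-- The square of an ample module is generated. -/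
theorem exists_section_sq (hL : CohB1.IsAmple L) (x : A.left) :
    ∃ t : Γ(CohB1.tensorPow L 2, ⊤), x ∈ locus t := by
  obtain ⟨s, hs⟩ : ∃ s : Γ(L, ⊤), s ≠ 0 := by
    letI : A.left.Over (Spec (CommRingCat.of k)) := ⟨A.hom⟩
    exact CurveAmple.exists_section_ne_zero (Module.nontrivial_of_finrank_pos (pos_h0_of_ample hL (A := A) rfl))
  obtain ⟨t, ht⟩ := AVAmple.exists_section_mem hL.1 hs x
  obtain ⟨e⟩ : Nonempty (CohB1.tensorMod L L ≅ CohB1.tensorPow L 2) := PicMul.cl_eq_iff.1 (by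
    rw [PicMul.cl_tensorPow, pow_two, PicMul.cl_tensor])
  refine ⟨e.hom.app ⊤ t, ?_⟩
  obtain ⟨U, hxU, hU⟩ := mem_locus_iff.1 ht
  refine mem_locus_iff.2 ⟨U, hxU, ?_⟩
  rw [← AModX.app_res]
  exact IsFrame.map_iso e hU

/-- A product of translated sections. -/
theorem exists_product (hL : PicF.IsInvertible L) (m : ℕ) (c : pt₀ ⟶ A) :
    ∃ ψ : CohB1.tensorMod ((Scheme.Modules.pullback (AVAmple.tr (c ^ m)⁻¹).left).obj (CohB1.tensorPow L 2))
      ((Scheme.Modules.pullback (AVAmple.tr (c ^ 2)).left).obj (CohB1.tensorPow L m)) ≅ CohB1.tensorPow L (2 + m),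
      True := by
  haveI : IsCommMonObj A := isCommMonObj_of_isProper_of_geometricallyIntegral A
  obtain ⟨e⟩ := PicMul.cl_eq_iff.1 ((PicMul.cl_tensor _ _).trans (cl_translates hL 2 m (c ^ m)⁻¹ (c ^ 2) (by
    rw [inv_pow, ← pow_mul, ← pow_mul, mul_comm m 2, inv_mul_cancel])))
  exact ⟨e, trivial⟩

/-- The powers from the square on are generated. -/
theorem exists_section_pow (hL : CohB1.IsAmple L) (n : ℕ) (hn : 2 ≤ n) (x : A.left) :
    ∃ t : Γ(CohB1.tensorPow L n, ⊤), x ∈ locus t := by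
  rcases eq_or_lt_of_le hn with rfl | hn'
  · exact exists_section_sq hL x
  obtain ⟨m, rfl⟩ := Nat.exists_eq_add_of_le hn
  have hm : 1 ≤ m := by omega
  haveI : IsIntegral A.left := GeometricallyIntegral.isIntegral_of_subsingleton A.hom
  haveI : JacobsonSpace A.left := LocallyOfFiniteType.jacobsonSpace A.hom
  suffices h : (⨆ t : Γ(CohB1.tensorPow L (2 + m), ⊤), locus t) = ⊤ from
    Opens.mem_iSup.1 (h.ge (trivial : x ∈ (⊤ : A.left.Opens)))
  refine AVAmple.eq_top_of_pt fun b => ?_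
  obtain ⟨s, hs⟩ := exists_section_ne_zero hL m hm
  have hsl := locus_ne_bot (InvX.isInvertible_tensorPow hL.1 m) hs
  haveI hg : Surjective ((𝟙 A ^ 2) ≫ AVAmple.tr b : A ⟶ A).left := by
    haveI := AVMulN.surjective_pow (A := A) 2 one_le_two
    rw [Over.comp_left]; infer_instance
  obtain ⟨c, hc⟩ := AVAmple.exists_pt_mem (nonempty_preimage hg hsl)
  obtain ⟨σ, hσ⟩ := exists_section_sq hL ((AVAmple.tr (c ^ m)⁻¹).left (AVAmple.pt b))
  obtain ⟨ψ, -⟩ := exists_product hL.1 m c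
  have hi1 := PicClLib.isInvertible_pullback (AVAmple.tr (c ^ m)⁻¹).left (InvX.isInvertible_tensorPow hL.1 2)
  have hi2 := PicClLib.isInvertible_pullback (AVAmple.tr (c ^ 2)).left (InvX.isInvertible_tensorPow hL.1 m)
  have h1 : AVAmple.pt b ∈ locus (show Γ((Scheme.Modules.pullback (AVAmple.tr (c ^ m)⁻¹).left).obj
      (CohB1.tensorPow L 2), ⊤) from pullElt (AVAmple.tr (c ^ m)⁻¹).left σ) :=
    (locus_pullElt (InvX.isInvertible_tensorPow hL.1 2) _ σ).ge hσ
  have h2 : AVAmple.pt b ∈ locus (show Γ((Scheme.Modules.pullback (AVAmple.tr (c ^ 2)).left).obj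
      (CohB1.tensorPow L m), ⊤) from pullElt (AVAmple.tr (c ^ 2)).left s) := by
    refine (locus_pullElt (InvX.isInvertible_tensorPow hL.1 m) _ s).ge ?_
    haveI : IsCommMonObj A := isCommMonObj_of_isProper_of_geometricallyIntegral A
    have e : c ≫ (𝟙 A ^ 2) ≫ AVAmple.tr b = b ≫ AVAmple.tr (c ^ 2) := by
      rw [← Category.assoc, AVAmple.comp_tr, AVAmple.comp_tr, AVAmple.unit_comp, AVAmple.unit_comp,
        pow_two (𝟙 A), MonObj.comp_mul, Category.comp_id, ← pow_two, mul_comm]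
    show (b ≫ AVAmple.tr (c ^ 2)).left (IsLocalRing.closedPoint k) ∈ locus s
    rw [← e]
    exact hc
  obtain ⟨U, hU, hfU⟩ := mem_locus_iff.1 h1
  obtain ⟨V, hV, hfV⟩ := mem_locus_iff.1 h2
  refine Opens.mem_iSup.2 ⟨ψ.hom.app ⊤ (tmul
    (show Γ((Scheme.Modules.pullback (AVAmple.tr (c ^ m)⁻¹).left).obj (CohB1.tensorPow L 2), ⊤) from
      pullElt (AVAmple.tr (c ^ m)⁻¹).left σ)
    (show Γ((Scheme.Modules.pullback (AVAmple.tr (c ^ 2)).left).obj (CohB1.tensorPow L m), ⊤) from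
      pullElt (AVAmple.tr (c ^ 2)).left s)), mem_locus_iff.2 ⟨U ⊓ V, ⟨hU, hV⟩, ?_⟩⟩
  rw [← AModX.app_res, InvX.res_tmul]
  refine IsFrame.map_iso ψ (isFrame_tmul ?_ ?_)
  · have := hfU.res (inf_le_left : U ⊓ V ≤ U)
    rwa [AModX.res_res] at this
  · have := hfV.res (inf_le_right : U ⊓ V ≤ V)
    rwa [AModX.res_res] at this

/-- The morphism given by the square. -/
theorem exists_sq_map (hL : CohB1.IsAmple L) :
    ∃ (n : ℕ) (f : A ⟶ Over.mk (CohB1.ProjSpace.toSpec n k))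
      (τ : (Scheme.Modules.pullback f.left).obj (Twist.twistProjSpace n k 1) ≅ CohB1.tensorPow L 2)
      (s : Fin (n + 1) → Γ(CohB1.tensorPow L 2, ⊤)),
      (∀ i, τ.hom.app ⊤ (ProjUP.pullSec f.left (Twist.twistProjSpace n k 1) (ProjUP.coord n k i)) = s i) ∧
      ∀ z : Γ(CohB1.tensorPow L 2, ⊤), ∃ c : Fin (n + 1) → k,
        z = ∑ i, A.hom.appTop ((Scheme.ΓSpecIso (CommRingCat.of k)).inv (c i)) • s i := by
  classical
  letI : A.left.Over (Spec (CommRingCat.of k)) := ⟨A.hom⟩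
  haveI : IsProper (A.left ↘ Spec (CommRingCat.of k)) := ‹IsProper A.hom›
  haveI := CurveCohLib.isNoetherian_of_proper (k := k) (X := A.left)
  let M := CohB1.tensorPow L 2
  have hM : CohB1.IsAmple M := AmpleX.isAmple_tensorPow hL two_pos
  haveI := CurveCohLib.finite_HH (k := k) (CurveDeg.isCoh_of_isInvertible hM.1) 0
  obtain ⟨n, hn⟩ : ∃ n, Module.finrank k (Coh.HH A.left M 0) = n + 1 :=
    Nat.exists_eq_add_one.2 (pos_h0_of_ample hM (A := A) rfl)
  let b := Module.finBasisOfFinrankEq k (Coh.HH A.left M 0) hn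
  let e₀ := Sheaf.H.equiv₀ (Coh.toAb M) isTerminalTop
  let s : Fin (n + 1) → Γ(M, ⊤) := fun i => (e₀ (b i) : Γ(M, ⊤))
  have hspan : ∀ z : Γ(M, ⊤), ∃ c : Fin (n + 1) → k,
      z = ∑ i, A.hom.appTop ((Scheme.ΓSpecIso (CommRingCat.of k)).inv (c i)) • s i := fun z => by
    refine ⟨fun i => b.repr (e₀.symm z) i, ?_⟩
    conv_lhs => rw [← e₀.apply_symm_apply z, ← b.sum_repr (e₀.symm z)]
    refine (map_sum e₀ _ _).trans (Finset.sum_congr rfl fun i _ => ?_)
    refine (CurveCohLib.h0Equiv_smul M _ _).trans ?_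
    exact congrArg (· • s i) (ConcreteCategory.congr_hom (A.left.presheaf.map_id (op ⊤)) _)
  have hcov : ∀ x : A.left, ∃ i, x ∈ locus (s i) := fun x => by
    obtain ⟨t, ht⟩ := exists_section_sq hL x
    obtain ⟨c, rfl⟩ := hspan t
    by_contra! hno
    obtain ⟨U, hxU, e, he⟩ := exists_frame hM.1 x
    have h1 := (locus_inf_eq he (∑ i, A.hom.appTop ((Scheme.ΓSpecIso (CommRingCat.of k)).inv (c i)) • s i)).le ⟨ht, hxU⟩
    have hadd : ∀ (J : Finset (Fin (n + 1))), x ∉ A.left.basicOpen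
        (glCo he (∑ i ∈ J, A.hom.appTop ((Scheme.ΓSpecIso (CommRingCat.of k)).inv (c i)) • s i)) := by
      intro J
      rw [A.left.mem_basicOpen _ x hxU]
      refine (IsLocalRing.mem_maximalIdeal _).1 ?_
      induction J using Finset.induction with
      | empty =>
        rw [Finset.sum_empty, glCo_eq he (b := 0) (by rw [map_zero, zero_smul]), map_zero]
        exact Submodule.zero_mem _
      | insert i J hi ih =>
        rw [Finset.sum_insert hi, glCo_add, map_add, glCo_smul, map_mul]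
        refine Ideal.add_mem _ (Ideal.mul_mem_left _ _ ((IsLocalRing.mem_maximalIdeal _).2 fun hu => hno i ?_)) ih
        exact ((locus_inf_eq he (s i)).ge ((A.left.mem_basicOpen _ x hxU).2 hu)).1
    exact hadd Finset.univ h1
  obtain ⟨r, hr, τ, hτ⟩ := S3572.result n A.hom M hM.1 s (AVAmple.generatedBy_of_locus s hcov)
  exact ⟨n, Over.homMk r hr, τ, s, hτ, hspan⟩

variable {R : Type u} [CommRing R]

/-- Proportional values force equality. -/
theorem eq_of_rel_pow (hL : CohB1.IsAmple L) {m : ℕ} (hm : 1 ≤ m) {T : Over (Spec (CommRingCat.of k))}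
    [Subsingleton T.left] [Nonempty T.left] (u v : T ⟶ A) (t : T.left)
    (hu : IsClosed ({u.left t} : Set A.left)) (hv : IsClosed ({v.left t} : Set A.left))
    (h : Rel u.left v.left (CohB1.tensorPow L (2 + m))) : u = v := by
  haveI : IsIntegral A.left := GeometricallyIntegral.isIntegral_of_subsingleton A.hom
  haveI : IsCommMonObj A := isCommMonObj_of_isProper_of_geometricallyIntegral A
  haveI : JacobsonSpace A.left := LocallyOfFiniteType.jacobsonSpace A.hom
  obtain ⟨n, f, τ, s₂, hτ, hspan⟩ := exists_sq_map hL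
  haveI hp : IsProper (CohB1.ProjSpace.toSpec n k) := PnCoh.Chow.isProper_toSpec n k
  haveI : IsSeparated (Over.mk (CohB1.ProjSpace.toSpec n k)).hom := hp.toIsSeparated
  obtain ⟨a₀, ha₀⟩ := AVAmple.exists_pt hu
  obtain ⟨b₀, hb₀⟩ := AVAmple.exists_pt hv
  obtain ⟨s, hs⟩ := exists_section_ne_zero hL m hm
  have hsl := locus_ne_bot (InvX.isInvertible_tensorPow hL.1 m) hs
  have hsur : ∀ b : pt₀ ⟶ A, Surjective ((𝟙 A ^ 2) ≫ AVAmple.tr b : A ⟶ A).left := fun b => by
    haveI := AVMulN.surjective_pow (A := A) 2 one_le_two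
    rw [Over.comp_left]; infer_instance
  let U : A.left.Opens := ((𝟙 A ^ 2) ≫ AVAmple.tr a₀ : A ⟶ A).left ⁻¹ᵁ locus s ⊓
    ((𝟙 A ^ 2) ≫ AVAmple.tr b₀ : A ⟶ A).left ⁻¹ᵁ locus s
  have hU : U ≠ ⊥ := (Opens.ne_bot_iff_nonempty _).2 (nonempty_preirreducible_inter (Opens.isOpen _) (Opens.isOpen _)
    ((Opens.ne_bot_iff_nonempty _).1 (nonempty_preimage (hsur a₀) hsl))
    ((Opens.ne_bot_iff_nonempty _).1 (nonempty_preimage (hsur b₀) hsl)))
  let D : Set (pt₀ ⟶ A) := (fun c => (c ^ m)⁻¹) '' {c | AVAmple.pt c ∈ U}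
  have hD : Dense (AVAmple.pt '' D) := by
    haveI := surjective_inv_pow (A := A) m hm
    let g : A ⟶ A := (𝟙 A ^ m)⁻¹
    have hsub : (U : Set A.left) ∩ closedPoints A.left ⊆ AVAmple.pt '' {c | AVAmple.pt c ∈ U} := by
      rintro y ⟨hy, hyc⟩
      obtain ⟨c, rfl⟩ := AVAmple.exists_pt (mem_closedPoints_iff.1 hyc)
      exact ⟨c, hy, rfl⟩
    have hd : Dense ((U : Set A.left) ∩ closedPoints A.left) := by
      rw [dense_iff_closure_eq, JacobsonSpace.closure_inter_closedPoints_eq_closure U.isOpen.isLocallyClosed]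
      exact (U.isOpen.dense ((Opens.ne_bot_iff_nonempty U).1 hU)).closure_eq
    refine ((g.left.surjective.denseRange).dense_image g.left.continuous (hd.mono hsub)).mono ?_
    rintro _ ⟨_, ⟨c, hc, rfl⟩, rfl⟩
    refine ⟨(c ^ m)⁻¹, ⟨c, hc, rfl⟩, ?_⟩
    have hpow : ∀ j : ℕ, c ≫ (𝟙 A ^ j) = c ^ j := fun j => by
      induction j with
      | zero => rw [pow_zero, pow_zero, MonObj.comp_one]
      | succ j ih => rw [pow_succ, pow_succ, MonObj.comp_mul, ih, Category.comp_id]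
    rw [← pt_comp, GrpObj.comp_inv, hpow]
  have key : ∀ a ∈ D, (u * (toUnit T ≫ a)) ≫ f = (v * (toUnit T ≫ a)) ≫ f := by
    rintro _ ⟨c, ⟨hca, hcb⟩, rfl⟩
    obtain ⟨ψ, -⟩ := exists_product hL.1 m c
    have hmem : ∀ (w : T ⟶ A) (w₀ : pt₀ ⟶ A), AVAmple.pt w₀ = w.left t →
        AVAmple.pt c ∈ ((𝟙 A ^ 2) ≫ AVAmple.tr w₀ : A ⟶ A).left ⁻¹ᵁ locus s →
        (⊤ : T.left.Opens) ≤ w.left ⁻¹ᵁ locus (show Γ((Scheme.Modules.pullback (AVAmple.tr (c ^ 2)).left).obj
          (CohB1.tensorPow L m), ⊤) from pullElt (AVAmple.tr (c ^ 2)).left s) := by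
      intro w w₀ hw hc x _
      have e : c ≫ (𝟙 A ^ 2) ≫ AVAmple.tr w₀ = w₀ ≫ AVAmple.tr (c ^ 2) := by
        rw [← Category.assoc, AVAmple.comp_tr, AVAmple.comp_tr, AVAmple.unit_comp, AVAmple.unit_comp,
          pow_two (𝟙 A), MonObj.comp_mul, Category.comp_id, ← pow_two, mul_comm]
      apply (congrArg (fun O => w.left ⁻¹ᵁ O) (locus_pullElt (InvX.isInvertible_tensorPow hL.1 m) _ s)).ge
      show (AVAmple.tr (c ^ 2)).left (w.left x) ∈ locus s
      rw [Subsingleton.elim x t, ← hw]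
      show (w₀ ≫ AVAmple.tr (c ^ 2)).left (IsLocalRing.closedPoint k) ∈ locus s
      rw [← e]
      exact hc
    have h1 := Rel.cancel ψ _ (hmem u a₀ ha₀ hca) (hmem v b₀ hb₀ hcb) h
    have h2 := eq_of_rel f.left τ hτ (Rel.of_pullback _ h1) (by
      show (u ≫ AVAmple.tr _).left ≫ _ = (v ≫ AVAmple.tr _).left ≫ _
      rw [show f.left ≫ CohB1.ProjSpace.toSpec n k = A.hom from Over.w f, Over.w, Over.w])
    apply Over.OverMorphism.ext
    rw [← AVAmple.comp_tr, ← AVAmple.comp_tr]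
    exact h2
  have h3 := eq_of_dense f u v D hD key
  have h4 := congrArg (fun φ => lift (snd A T) (fst A T * (snd A T ≫ u)⁻¹) ≫ φ) h3
  have hl : ∀ w : T ⟶ A, lift (snd A T) (fst A T * (snd A T ≫ u)⁻¹) ≫ ((fst T A ≫ w) * snd T A) ≫ f =
      ((snd A T ≫ w) * (fst A T * (snd A T ≫ u)⁻¹)) ≫ f := fun w => by
    rw [← Category.assoc, MonObj.comp_mul, lift_fst_assoc, lift_snd]
  rw [hl, hl, mul_comm (snd A T ≫ u), inv_mul_cancel_right] at h4
  have h5 := eq_one_of_stab (AmpleX.isAmple_tensorPow hL two_pos) f τ s₂ hτ hspan (v * u⁻¹) (by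
    rw [MonObj.comp_mul, GrpObj.comp_inv, mul_left_comm, ← h4])
  exact (mul_inv_eq_one.1 h5).symm

/-- A jet vanishing where a rational point vanishes is that point. -/
theorem eq_const_of_vanishing (hL : CohB1.IsAmple L) {n : ℕ} (hn : 3 ≤ n) {T : Over (Spec (CommRingCat.of k))}
    [Subsingleton T.left] [Nonempty T.left] (u : T ⟶ A) (t : T.left) (hu : IsClosed ({u.left t} : Set A.left))
    (a : pt₀ ⟶ A) {U V : A.left.Opens} (hU : ⊤ ≤ u.left ⁻¹ᵁ U) (hV : ⊤ ≤ a.left ⁻¹ᵁ V)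
    {e : Γ(CohB1.tensorPow L n, U)} {e' : Γ(CohB1.tensorPow L n, V)} (he : IsFrame e) (he' : IsFrame e')
    (h : ∀ z, val a.left hV he' z = 0 → val u.left hU he z = 0) : u = toUnit T ≫ a := by
  obtain ⟨m, rfl⟩ := Nat.exists_eq_add_of_le (show 2 ≤ n by omega)
  haveI : Subsingleton (pt₀).left := inferInstanceAs (Subsingleton (PrimeSpectrum k))
  let x₀ : (pt₀).left := IsLocalRing.closedPoint k
  have hk : Function.Bijective (Scheme.ΓSpecIso (CommRingCat.of k)).inv :=
    ConcreteCategory.bijective_of_isIso _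
  obtain ⟨z₀, hz₀⟩ := exists_section_pow hL (2 + m) (by omega) (AVAmple.pt a)
  have hz₀V : a.left x₀ ∈ A.left.basicOpen (glCo he' z₀) := by
    rw [← locus_inf_eq]; exact ⟨hz₀, hV (trivial : x₀ ∈ (⊤ : Opens _))⟩
  have hc₀ : val a.left hV he' z₀ ≠ 0 := fun h0 => by
    have : x₀ ∈ (pt₀).left.basicOpen (val a.left hV he' z₀) := by
      rw [val, Scheme.basicOpen_appLE]; exact ⟨trivial, hz₀V⟩
    rw [h0, Scheme.basicOpen_zero] at this
    exact this
  let gam : k →+* Γ(T.left, ⊤) := (T.hom.appTop).hom.comp (Scheme.ΓSpecIso (CommRingCat.of k)).inv.hom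
  let inv₀ : k → Γ((pt₀).left, ⊤) := fun c => (Scheme.ΓSpecIso (CommRingCat.of k)).inv c
  have hconst : ∀ {S : Over (Spec (CommRingCat.of k))} (w : S ⟶ A) {W : A.left.Opens}
      (hW : ⊤ ≤ w.left ⁻¹ᵁ W) (c : k),
      w.left.appLE W ⊤ hW (AModX.resR (le_top : W ≤ ⊤) (A.hom.appTop ((Scheme.ΓSpecIso (CommRingCat.of k)).inv c))) =
        S.hom.appTop ((Scheme.ΓSpecIso (CommRingCat.of k)).inv c) := by
    intro S w W hW c
    show (A.left.presheaf.map (homOfLE (le_top : W ≤ ⊤)).op ≫ w.left.appLE W ⊤ hW) _ = _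
    rw [Scheme.Hom.map_appLE, appLE_top, ← CommRingCat.comp_apply]
    simp only [← Over.w w]
    rfl
  have hexp : ∀ z, ∃ c : k, val a.left hV he' z = inv₀ c * val a.left hV he' z₀ ∧
      val u.left hU he z = gam c * val u.left hU he z₀ := fun z => by
    obtain ⟨c₁, hc₁⟩ := hk.2 (val a.left hV he' z)
    obtain ⟨c₂, hc₂⟩ := hk.2 (val a.left hV he' z₀)
    have hc2 : c₂ ≠ 0 := fun h0 => hc₀ (by rw [← hc₂, h0, map_zero])
    let c := c₁ / c₂
    have h1 : val a.left hV he' z = inv₀ c * val a.left hV he' z₀ := by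
      rw [← hc₁, ← hc₂]
      show _ = (Scheme.ΓSpecIso (CommRingCat.of k)).inv c * _
      rw [← map_mul, div_mul_cancel₀ c₁ hc2]
    refine ⟨c, h1, ?_⟩
    let kc : k → Γ(A.left, ⊤) := fun c => A.hom.appTop ((Scheme.ΓSpecIso (CommRingCat.of k)).inv c)
    have h2 := h (z + kc (-c) • z₀) (by
      show a.left.appLE V ⊤ hV _ = 0
      rw [glCo_add, glCo_smul, map_add, map_mul, hconst a hV]
      show val a.left hV he' z + inv₀ (-c) * val a.left hV he' z₀ = 0
      rw [h1, ← add_mul]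
      show ((Scheme.ΓSpecIso (CommRingCat.of k)).inv c + (Scheme.ΓSpecIso (CommRingCat.of k)).inv (-c)) * _ = 0
      rw [← map_add, add_neg_cancel, map_zero, zero_mul])
    change u.left.appLE U ⊤ hU _ = 0 at h2
    rw [glCo_add, glCo_smul, map_add, map_mul, hconst u hU] at h2
    change val u.left hU he z + gam (-c) * val u.left hU he z₀ = 0 at h2
    rw [map_neg, neg_mul, add_neg_eq_zero] at h2
    exact h2
  let v : T ⟶ A := toUnit T ≫ a
  have hv : ⊤ ≤ v.left ⁻¹ᵁ V := fun x _ => hV (trivial : (toUnit T).left x ∈ (⊤ : Opens _))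
  have hvval : ∀ z, val v.left hv he' z = T.hom.appTop (val a.left hV he' z) := fun z => by
    show ((toUnit T).left ≫ a.left).appLE V ⊤ hv _ = _
    rw [← Scheme.Hom.appLE_comp_appLE _ a.left V ⊤ ⊤ hV (fun x _ => trivial), CommRingCat.comp_apply, appLE_top]
    rfl
  refine eq_of_rel_pow hL (show 1 ≤ m by omega) u v t hu ?_ (Rel.of_frames u.left v.left hU hv he he' fun z z' => ?_)
  · show IsClosed ({a.left ((toUnit T).left t)} : Set A.left)
    rw [Subsingleton.elim ((toUnit T).left t) (IsLocalRing.closedPoint k)]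
    exact AVAmple.isClosed_pt a
  · obtain ⟨c, ha, hc⟩ := hexp z
    obtain ⟨c', ha', hc'⟩ := hexp z'
    rw [hvval, hvval, hc, hc', ha, ha', map_mul, map_mul,
      show T.hom.appTop (inv₀ c) = gam c from rfl, show T.hom.appTop (inv₀ c') = gam c' from rfl]
    ring

/-- Vanishing in the maximal ideal is vanishing of the value. -/
theorem val_eq_zero_iff {M : A.left.Modules} (a : pt₀ ⟶ A) {U : A.left.Opens} (hU : ⊤ ≤ a.left ⁻¹ᵁ U)
    {e : Γ(M, U)} (he : IsFrame e) {x : A.left} (hx : AVAmple.pt a = x) (hxU : x ∈ U) (z : Γ(M, ⊤)) :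
    val a.left hU he z = 0 ↔
      CurveVA.coord he hxU (M.presheaf.germ ⊤ x trivial z) ∈ IsLocalRing.maximalIdeal (A.left.presheaf.stalk x) := by
  subst hx
  haveI : Subsingleton (pt₀).left := inferInstanceAs (Subsingleton (PrimeSpectrum k))
  have hg : CurveVA.coord he hxU (M.presheaf.germ ⊤ (AVAmple.pt a) trivial z) =
      A.left.presheaf.germ U (AVAmple.pt a) hxU (glCo he z) := by
    rw [← InvX.germ_res' (le_top : U ≤ ⊤) hxU z, res_glCo he z, QCoh.germ_smul', CurveVA.coord_smul_germ]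
  rw [hg, IsLocalRing.mem_maximalIdeal]
  show _ ↔ ¬ IsUnit _
  rw [← A.left.mem_basicOpen _ (AVAmple.pt a) hxU]
  have key : IsLocalRing.closedPoint k ∈ (pt₀).left.basicOpen (val a.left hU he z) ↔
      AVAmple.pt a ∈ A.left.basicOpen (glCo he z) := by
    rw [val, Scheme.basicOpen_appLE]
    exact ⟨fun h => h.2, fun h => ⟨trivial, h⟩⟩
  rw [← key]
  constructor
  · intro h0 hm
    rw [h0, Scheme.basicOpen_zero] at hm
    exact hm
  · intro hm
    by_contra h0
    apply hm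
    obtain ⟨c, hc⟩ := (ConcreteCategory.bijective_of_isIso (Scheme.ΓSpecIso (CommRingCat.of k)).inv).2
      (val a.left hU he z)
    have hc0 : c ≠ 0 := fun h => h0 (by rw [← hc, h, map_zero])
    exact (Scheme.basicOpen_of_isUnit (pt₀).left (hc ▸ ((isUnit_iff_ne_zero.2 hc0).map
      (Scheme.ΓSpecIso (CommRingCat.of k)).inv.hom : IsUnit _))).ge trivial

/-- Sections of the powers from the cube on separate closed points. -/
theorem exists_separate_pow (hL : CohB1.IsAmple L) (n : ℕ) (hn : 3 ≤ n) {U : A.left.Opens}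
    {e : Γ(CohB1.tensorPow L n, U)} (he : IsFrame e) {a b : A.left} (ha : a ∈ U) (hb : b ∈ U)
    (hac : IsClosed ({a} : Set A.left)) (hbc : IsClosed ({b} : Set A.left)) (hne : b ≠ a) :
    ∃ z : Γ(CohB1.tensorPow L n, ⊤),
      CurveVA.coord he ha ((CohB1.tensorPow L n).presheaf.germ ⊤ a trivial z) ∈
        IsLocalRing.maximalIdeal (A.left.presheaf.stalk a) ∧
      CurveVA.coord he hb ((CohB1.tensorPow L n).presheaf.germ ⊤ b trivial z) ∉
        IsLocalRing.maximalIdeal (A.left.presheaf.stalk b) := by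
  by_contra hno
  push Not at hno
  obtain ⟨a₀, rfl⟩ := AVAmple.exists_pt hac
  obtain ⟨b₀, rfl⟩ := AVAmple.exists_pt hbc
  haveI : Subsingleton (pt₀).left := inferInstanceAs (Subsingleton (PrimeSpectrum k))
  haveI : Nonempty (pt₀).left := ⟨IsLocalRing.closedPoint k⟩
  have hU : ∀ {w : pt₀ ⟶ A}, AVAmple.pt w ∈ U → ⊤ ≤ w.left ⁻¹ᵁ U := fun hw x _ =>
    Subsingleton.elim (IsLocalRing.closedPoint k) x ▸ hw
  have h := eq_const_of_vanishing hL hn b₀ (IsLocalRing.closedPoint k) (AVAmple.isClosed_pt b₀) a₀ (hU hb) (hU ha)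
    he he fun z hz => (val_eq_zero_iff b₀ (hU hb) he rfl hb z).2 (hno z ((val_eq_zero_iff a₀ (hU ha) he rfl ha z).1 hz))
  rw [AVAmple.unit_comp] at h
  exact hne (by rw [h])

/-- Sections of the powers from the cube on span cotangent spaces. -/
theorem exists_tangent_pow (hL : CohB1.IsAmple L) (n : ℕ) (hn : 3 ≤ n) {U : A.left.Opens}
    {e : Γ(CohB1.tensorPow L n, U)} (he : IsFrame e) {a : A.left} (ha : a ∈ U) (hac : IsClosed ({a} : Set A.left))
    (N : Ideal (A.left.presheaf.stalk a)) (hN : IsLocalRing.maximalIdeal (A.left.presheaf.stalk a) ^ 2 ≤ N)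
    (hlt : ¬ IsLocalRing.maximalIdeal (A.left.presheaf.stalk a) ≤ N) :
    ∃ z : Γ(CohB1.tensorPow L n, ⊤),
      CurveVA.coord he ha ((CohB1.tensorPow L n).presheaf.germ ⊤ a trivial z) ∈
        IsLocalRing.maximalIdeal (A.left.presheaf.stalk a) ∧
      CurveVA.coord he ha ((CohB1.tensorPow L n).presheaf.germ ⊤ a trivial z) ∉ N := by
  by_contra hno
  push Not at hno
  obtain ⟨a₀, rfl⟩ := AVAmple.exists_pt hac
  let O := A.left.presheaf.stalk (AVAmple.pt a₀)
  have hN' : N ≠ ⊤ := fun h => hlt (h ▸ le_top)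
  haveI : Nontrivial (O ⧸ N) := Ideal.Quotient.nontrivial_iff.2 hN'
  haveI : Subsingleton (PrimeSpectrum (O ⧸ N)) := ⟨fun P Q => by
    have key : ∀ P : PrimeSpectrum (O ⧸ N), P.asIdeal.comap (Ideal.Quotient.mk N) = IsLocalRing.maximalIdeal O :=
      fun P => by
        refine le_antisymm (IsLocalRing.le_maximalIdeal (Ideal.IsPrime.ne_top inferInstance))
          (Ideal.IsPrime.le_of_pow_le (n := 2) ((le_trans hN ?_)))
        exact fun r hr => by
          rw [Ideal.mem_comap, Ideal.Quotient.eq_zero_iff_mem.2 hr]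
          exact P.asIdeal.zero_mem
    exact PrimeSpectrum.ext (Ideal.comap_injective_of_surjective _ Ideal.Quotient.mk_surjective
      ((key P).trans (key Q).symm))⟩
  let π : CommRingCat.of O ⟶ CommRingCat.of (O ⧸ N) := CommRingCat.ofHom (Ideal.Quotient.mk N)
  let ul : Spec (CommRingCat.of (O ⧸ N)) ⟶ A.left := Spec.map π ≫ A.left.fromSpecStalk (AVAmple.pt a₀)
  let T : Over (Spec (CommRingCat.of k)) := Over.mk (ul ≫ A.hom)
  haveI : Subsingleton T.left := inferInstanceAs (Subsingleton (PrimeSpectrum (O ⧸ N)))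
  haveI : Nonempty T.left := inferInstanceAs (Nonempty (PrimeSpectrum (O ⧸ N)))
  let u : T ⟶ A := Over.homMk ul rfl
  obtain ⟨t⟩ := ‹Nonempty T.left›
  have hut : u.left t = AVAmple.pt a₀ := by
    show A.left.fromSpecStalk (AVAmple.pt a₀) (Spec.map π t) = _
    have : Spec.map π t = IsLocalRing.closedPoint O := by
      refine PrimeSpectrum.ext ?_
      refine le_antisymm (IsLocalRing.le_maximalIdeal (Ideal.IsPrime.ne_top inferInstance))
        (Ideal.IsPrime.le_of_pow_le (n := 2) ((le_trans hN ?_)))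
      intro r hr
      show π r ∈ (t : PrimeSpectrum (O ⧸ N)).asIdeal
      rw [show π r = 0 from Ideal.Quotient.eq_zero_iff_mem.2 hr]
      exact Ideal.zero_mem _
    rw [this]
    exact Scheme.fromSpecStalk_closedPoint
  have hUu : ∀ {W : A.left.Opens}, AVAmple.pt a₀ ∈ W → ⊤ ≤ u.left ⁻¹ᵁ W := fun hW x _ => by
    change u.left x ∈ (_ : A.left.Opens)
    rw [Subsingleton.elim x t, hut]
    exact hW
  have hUa : ∀ {W : A.left.Opens}, AVAmple.pt a₀ ∈ W → ⊤ ≤ a₀.left ⁻¹ᵁ W := fun hW x _ => by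
    haveI : Subsingleton (pt₀).left := inferInstanceAs (Subsingleton (PrimeSpectrum k))
    exact Subsingleton.elim (IsLocalRing.closedPoint k) x ▸ hW
  have hgerm : ∀ {W : A.left.Opens} (hW : AVAmple.pt a₀ ∈ W) (b : Γ(A.left, W)),
      u.left.appLE W ⊤ (hUu hW) b = 0 ↔ A.left.presheaf.germ W _ hW b ∈ N := by
    intro W hW b
    have e1 : u.left.appLE W ⊤ (hUu hW) =
        A.left.presheaf.germ W _ hW ≫ π ≫ (Scheme.ΓSpecIso (CommRingCat.of (O ⧸ N))).inv := by
      show (Spec.map π ≫ A.left.fromSpecStalk (AVAmple.pt a₀)).appLE W ⊤ (hUu hW) = _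
      have hx : ∀ z : Spec (CommRingCat.of O), A.left.fromSpecStalk (AVAmple.pt a₀) z ∈ W := fun z =>
        ((Scheme.range_fromSpecStalk.le ⟨z, rfl⟩ : _ ⤳ AVAmple.pt a₀)).mem_open W.isOpen hW
      rw [← Scheme.Hom.appLE_comp_appLE (Spec.map π) (A.left.fromSpecStalk (AVAmple.pt a₀)) W ⊤ ⊤
        (fun z _ => hx z) (fun z _ => trivial)]
      have e2 : (A.left.fromSpecStalk (AVAmple.pt a₀)).appLE W ⊤ (fun z _ => hx z) =
          A.left.presheaf.germ W _ hW ≫ (Scheme.ΓSpecIso (A.left.presheaf.stalk (AVAmple.pt a₀))).inv := by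
        rw [Scheme.Hom.appLE, Scheme.fromSpecStalk_app hW, Category.assoc, Category.assoc, ← Functor.map_comp]
        refine (congrArg (A.left.presheaf.germ W _ hW ≫ (Scheme.ΓSpecIso _).inv ≫ ·) ?_).trans
          (congrArg (A.left.presheaf.germ W _ hW ≫ ·) (Category.comp_id _))
        exact (congrArg _ (Subsingleton.elim _ (𝟙 _))).trans (CategoryTheory.Functor.map_id _ _)
      rw [e2, Category.assoc, show (Spec.map π).appLE ⊤ ⊤ (fun z _ => trivial) = (Spec.map π).appTop from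
        Scheme.Hom.appLE_eq_app _]
      exact congrArg (A.left.presheaf.germ W _ hW ≫ ·) (Scheme.ΓSpecIso_inv_naturality π).symm
    rw [e1]
    show (Scheme.ΓSpecIso (CommRingCat.of (O ⧸ N))).inv (π _) = 0 ↔ _
    rw [map_eq_zero_iff _ (ConcreteCategory.bijective_of_isIso (Scheme.ΓSpecIso (CommRingCat.of (O ⧸ N))).inv).1]
    exact Ideal.Quotient.eq_zero_iff_mem
  have hclu : IsClosed ({u.left t} : Set A.left) := by rw [hut]; exact AVAmple.isClosed_pt a₀
  have h := eq_const_of_vanishing hL hn u t hclu a₀ (hUu ha) (hUa ha) he he fun z hz => by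
    refine (hgerm ha _).2 ?_
    have h1 := hno z ((val_eq_zero_iff a₀ (hUa ha) he rfl ha z).1 hz)
    rwa [← InvX.germ_res' (le_top : U ≤ ⊤) ha z, res_glCo he z, QCoh.germ_smul', CurveVA.coord_smul_germ] at h1
  refine hlt fun r hr => ?_
  obtain ⟨W, hW, b, rfl⟩ := TopCat.Presheaf.exists_germ_eq A.left.presheaf r
  refine (hgerm hW b).1 ?_
  have h0 : a₀.left.appLE W ⊤ (hUa hW) b = 0 := by
    obtain ⟨c, hc⟩ := (ConcreteCategory.bijective_of_isIso (Scheme.ΓSpecIso (CommRingCat.of k)).inv).2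
      (a₀.left.appLE W ⊤ (hUa hW) b)
    by_contra hne
    have hc0 : c ≠ 0 := fun h => hne (by rw [← hc, h, map_zero])
    refine (IsLocalRing.mem_maximalIdeal _).1 hr ((A.left.mem_basicOpen b _ hW).1 ?_)
    have : IsLocalRing.closedPoint k ∈ (pt₀).left.basicOpen (a₀.left.appLE W ⊤ (hUa hW) b) := by
      exact (Scheme.basicOpen_of_isUnit (pt₀).left (hc ▸ ((isUnit_iff_ne_zero.2 hc0).map
        (Scheme.ΓSpecIso (CommRingCat.of k)).inv.hom : IsUnit _))).ge trivial
    rw [Scheme.basicOpen_appLE] at this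
    exact this.2
  have e2 : u.left.appLE W ⊤ (hUu hW) =
      a₀.left.appLE W ⊤ (hUa hW) ≫ (toUnit T).left.appLE ⊤ ⊤ le_top := by
    rw [Scheme.Hom.appLE_comp_appLE]
    simp only [h]
    rfl
  rw [e2, CommRingCat.comp_apply, h0, map_zero]

end Groth.Agent.AVTate.VA
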